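import Cfsg.Agent.Lib.Invol.GW.Consumers.DGroupStruct
import Cfsg.Agent.Lib.Fus.AbelianInvCentMain
import Cfsg.Agent.Lib.Invol.ThompsonTransferDihedral
import Cfsg.Agent.Lib.Block.AbelianTwo.SLTwo

/-!
# A centralizer of an involution that is a D-group: characteristic two (for S3322)
-/

set_option autoImplicit false
set_option linter.style.haveILetI false

namespace Cfsg.Agent.Invol.GW

open Subgroup
open scoped Pointwise

universe u

/-- The conclusion of S3322. -/
def DGroupConcl (G : Type u) [Group G] : Prop :=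
  ∃ (N : Subgroup G) (_ : N.Normal), (Odd (Nat.card N) ∨ ∃ m : ℕ, Odd m ∧ Nat.card N = 2 * m) ∧ IsPSLOrPGL (G ⧸ N)

/-- An automorphism fixing a Sylow 2-subgroup pointwise is conjugation by one of its elements, in a group
with the properties of `SL₂(q)`, `q` even. -/
theorem aut_fix_sylow {L : Type*} [Group L] [Finite L] [IsSimpleGroup L] {q : ℕ} (hq : 4 ≤ q)
    (hcard : Nat.card L = q * (q ^ 2 - 1)) (hS : ∀ R : Sylow 2 L, Nat.card (R : Subgroup L) = q)
    (hsq : ∀ R : Sylow 2 L, ∀ v ∈ (R : Subgroup L), v * v = 1)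
    (hC : ∀ v : L, orderOf v = 2 → Nat.card (centralizer ({v} : Set L)) = q)
    (hconj : ∀ v w : L, orderOf v = 2 → orderOf w = 2 → IsConj v w)
    (E : Sylow 2 L) (α : MulAut L) (hα : ∀ e ∈ (E : Subgroup L), α e = e) :
    ∃ e ∈ (E : Subgroup L), α = MulAut.conj e := by
  classical
  haveI : Fact (Nat.Prime 2) := ⟨Nat.prime_two⟩
  haveI : Fintype L := Fintype.ofFinite L
  have habel : ∀ R : Sylow 2 L, ∀ a ∈ (R : Subgroup L), ∀ b ∈ (R : Subgroup L), a * b = b * a := by
    intro R a ha b hb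
    have hinv : ∀ c ∈ (R : Subgroup L), c⁻¹ = c := fun c hc => inv_eq_of_mul_eq_one_right (hsq R c hc)
    calc a * b = (a * b)⁻¹ := (hinv _ (mul_mem ha hb)).symm
      _ = b * a := by rw [mul_inv_rev, hinv a ha, hinv b hb]
  have hinvol : ∀ (R : Sylow 2 L) (v : L), v ∈ (R : Subgroup L) → v ≠ 1 → orderOf v = 2 := fun R v hv hv1 =>
    Invol.orderOf_two_iff.2 ⟨hsq R v hv, hv1⟩
  have hTI : ∀ (R R' : Sylow 2 L) (v : L), v ∈ (R : Subgroup L) → v ∈ (R' : Subgroup L) → v ≠ 1 → R = R' := by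
    intro R R' v hv hv' hv1
    have key : ∀ X : Sylow 2 L, v ∈ (X : Subgroup L) → (X : Subgroup L) = centralizer ({v} : Set L) := fun X hX =>
      eq_of_le_of_card_ge (fun a ha => mem_centralizer_singleton_iff.2 (habel X a ha v hX))
        (by rw [hS X, hC v (hinvol R v hv hv1)])
    exact Sylow.ext ((key R hv).trans (key R' hv').symm)
  have hsemi : ∀ (e : L) (p : Sylow 2 L), e ∈ (E : Subgroup L) → e ≠ 1 → e • p = p → p = E := by
    intro e p he he1 hp
    have hn : zpowers e ≤ normalizer ((p : Subgroup L) : Set L) :=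
      zpowers_le.2 (Sylow.smul_eq_iff_mem_normalizer.1 hp)
    have hpe : IsPGroup 2 (zpowers e) := IsPGroup.of_card (n := 1) (by
      rw [Nat.card_zpowers, hinvol E e he he1, pow_one])
    have h := p.is_maximal' (p.isPGroup'.to_sup_of_normal_left' hpe hn) le_sup_left
    exact hTI p E e (h.le (le_sup_right (a := (p : Subgroup L)) (mem_zpowers e))) he he1
  -- at most `q + 1` Sylow subgroups
  have hnum : Nat.card (Sylow 2 L) ≤ q + 1 := by
    obtain ⟨v0, hv0⟩ := exists_prime_orderOf_dvd_card' (G := L) 2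
      ((show 2 ∣ q by
        obtain ⟨k, hk⟩ := IsPGroup.iff_card.1 E.isPGroup'
        rw [hS] at hk
        rcases Nat.eq_zero_or_pos k with rfl | hk0
        · rw [pow_zero] at hk; omega
        · rw [hk]; exact dvd_pow_self 2 hk0.ne').trans (hcard ▸ dvd_mul_right q _))
    let I := {v : L // orderOf v = 2}
    let f : L ⧸ centralizer ({v0} : Set L) → I := Quotient.lift
      (fun l => (⟨l * v0 * l⁻¹, (Invol.orderOf_conj_eq l v0).trans hv0⟩ : I)) fun a b hab => by
        have h1 := mem_centralizer_singleton_iff.1 (QuotientGroup.leftRel_apply.1 hab)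
        refine Subtype.ext ?_
        show a * v0 * a⁻¹ = b * v0 * b⁻¹
        calc a * v0 * a⁻¹ = a * (v0 * (a⁻¹ * b)) * b⁻¹ := by group
          _ = a * ((a⁻¹ * b) * v0) * b⁻¹ := by rw [h1]
          _ = b * v0 * b⁻¹ := by group
    have hf : Function.Surjective f := fun v => by
      obtain ⟨l, hl⟩ := _root_.isConj_iff.1 (hconj v0 v.1 hv0 v.2)
      exact ⟨(l : L ⧸ centralizer ({v0} : Set L)), Subtype.ext hl⟩
    have h1 : Nat.card I ≤ q ^ 2 - 1 := by
      refine (Nat.card_le_card_of_surjective f hf).trans (le_of_eq ?_)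
      have h := (centralizer ({v0} : Set L)).card_mul_index
      rw [hC v0 hv0, hcard] at h
      exact Nat.eq_of_mul_eq_mul_left (by omega) h
    let Ne : Sylow 2 L → Type _ := fun R => {v : (R : Subgroup L) // v ≠ 1}
    let g : (Σ R : Sylow 2 L, Ne R) → I := fun p =>
      ⟨((p.2.1 : (p.1 : Subgroup L)) : L), hinvol p.1 _ p.2.1.2 fun h => p.2.2 (Subtype.ext h)⟩
    have hg : Function.Injective g := by
      rintro ⟨R, ⟨⟨v, hv⟩, hv1⟩⟩ ⟨R', ⟨⟨v', hv'⟩, hv1'⟩⟩ he
      have he' : v = v' := congrArg Subtype.val he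
      subst he'
      obtain rfl := hTI R R' v hv hv' fun h => hv1 (Subtype.ext h)
      rfl
    have h2 := Nat.card_le_card_of_injective g hg
    haveI : Fintype (Sylow 2 L) := Fintype.ofFinite _
    rw [Nat.card_sigma] at h2
    have h3 : ∀ R : Sylow 2 L, Nat.card (Ne R) = q - 1 := fun R => by
      haveI : Fintype (R : Subgroup L) := Fintype.ofFinite _
      show Nat.card {v : (R : Subgroup L) // v ≠ 1} = _
      rw [Nat.card_eq_fintype_card, Fintype.card_subtype_compl, Fintype.card_subtype_eq,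
        ← Nat.card_eq_fintype_card, hS]
    simp only [h3, Finset.sum_const, Finset.card_univ, smul_eq_mul, ← Nat.card_eq_fintype_card] at h2
    have h4 : q ^ 2 - 1 = (q + 1) * (q - 1) := by rw [← one_pow 2, Nat.sq_sub_sq, one_pow]
    exact Nat.le_of_mul_le_mul_right ((h2.trans h1).trans_eq h4) (by omega)
  obtain ⟨p0, hp0⟩ : ∃ p0 : Sylow 2 L, p0 ≠ E := by
    by_contra hno
    push Not at hno
    haveI : Subsingleton (Sylow 2 L) := ⟨fun a b => (hno a).trans (hno b).symm⟩
    haveI := E.normal_of_subsingleton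
    rcases (inferInstance : (E : Subgroup L).Normal).eq_bot_or_eq_top with h | h
    · have := hS E
      rw [h, Subgroup.card_bot] at this
      omega
    · have := hS E
      rw [h, Subgroup.card_top, hcard] at this
      have h5 : 2 ^ 2 ≤ q ^ 2 := Nat.pow_le_pow_left (by omega) 2
      have h6 : q * (q ^ 2 - 1) = q * 1 := by rw [mul_one]; exact this
      have := Nat.eq_of_mul_eq_mul_left (by omega) h6
      omega
  let ψ : ↥(E : Subgroup L) → {p : Sylow 2 L // p ≠ E} := fun e => ⟨(e : L) • p0, fun h => hp0 (by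
    have hE : (e : L)⁻¹ • E = E := Sylow.smul_eq_iff_mem_normalizer.2 (le_normalizer (inv_mem e.2))
    exact (inv_smul_smul (e : L) p0).symm.trans ((congrArg ((e : L)⁻¹ • ·) h).trans hE))⟩
  have hψ : Function.Injective ψ := by
    intro e f he
    have he' : (e : L) • p0 = (f : L) • p0 := congrArg Subtype.val he
    by_contra hne
    refine hp0 (hsemi ((f : L)⁻¹ * e) p0 (mul_mem (inv_mem f.2) e.2) (fun h => hne ?_) ?_)
    · exact Subtype.ext (inv_mul_eq_one.1 h).symm
    · rw [mul_smul, he', inv_smul_smul]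
  have hψ' : Function.Surjective ψ := by
    refine (hψ.bijective_of_nat_card_le ?_).2
    haveI : Fintype (Sylow 2 L) := Fintype.ofFinite _
    rw [Nat.card_eq_fintype_card, Fintype.card_subtype_compl, Fintype.card_subtype_eq, hS,
      ← Nat.card_eq_fintype_card]
    omega
  have hfixE : ∀ β : MulAut L, (∀ e ∈ (E : Subgroup L), β e = e) → β • E = E := fun β hβ => by
    refine Sylow.ext (le_antisymm ?_ fun e he => ⟨e, he, hβ e he⟩)
    rintro _ ⟨e, he, rfl⟩
    show β e ∈ (E : Subgroup L)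
    rw [hβ e he]; exact he
  obtain ⟨e, he⟩ := hψ' ⟨α • p0, fun h => hp0 (smul_left_cancel α (h.trans (hfixE α hα).symm))⟩
  have he' : MulAut.conj (e : L) • p0 = α • p0 := congrArg Subtype.val he
  refine ⟨e, e.2, ?_⟩
  set β := (MulAut.conj (e : L))⁻¹ * α with hβdef
  have hβE : ∀ f ∈ (E : Subgroup L), β f = f := by
    intro f hf
    rw [hβdef, MulAut.mul_apply, hα f hf, MulAut.conj_inv_apply, habel E _ (inv_mem e.2) f hf, inv_mul_cancel_right]
  have hβp0 : β • p0 = p0 := by rw [hβdef, mul_smul, ← he', inv_smul_smul]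
  have hβconj : ∀ l : L, β * MulAut.conj l = MulAut.conj (β l) * β := fun l => by
    ext w
    simp [MulAut.mul_apply, MulAut.conj_apply]
  have hall : ∀ p : Sylow 2 L, β • p = p := by
    intro p
    by_cases hp : p = E
    · rw [hp]; exact hfixE β hβE
    obtain ⟨f, hf⟩ := hψ' ⟨p, hp⟩
    have hf' : MulAut.conj (f : L) • p0 = p := congrArg Subtype.val hf
    rw [← hf', ← mul_smul, hβconj, hβE f f.2, mul_smul, hβp0]
  have hker : (MulAction.toPermHom L (Sylow 2 L)).ker = ⊥ := by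
    refine (inferInstance : (MulAction.toPermHom L (Sylow 2 L)).ker.Normal).eq_bot_or_eq_top.resolve_right fun h => ?_
    have hfix : ∀ (l : L) (p : Sylow 2 L), l • p = p := fun l p =>
      Equiv.Perm.ext_iff.1 (MonoidHom.mem_ker.1 (h ▸ mem_top l)) p
    obtain ⟨l, hl⟩ := MulAction.exists_smul_eq L E p0
    exact hp0 (hl.symm.trans (hfix l E))
  have hβ1 : ∀ l : L, β l = l := by
    intro l
    have hmem : l⁻¹ * β l ∈ (MulAction.toPermHom L (Sylow 2 L)).ker := by
      refine MonoidHom.mem_ker.2 (Equiv.Perm.ext fun p => ?_)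
      show (l⁻¹ * β l) • p = p
      have h1 : MulAut.conj (β l) • p = MulAut.conj l • p := by
        conv_lhs => rw [← hall p]
        rw [← mul_smul, ← hβconj, mul_smul]
        exact hall _
      rw [mul_smul, inv_smul_eq_iff]
      exact h1
    rw [hker, mem_bot, inv_mul_eq_one] at hmem
    exact hmem.symm
  refine MulEquiv.ext fun l => ?_
  have h1 := hβ1 l
  rw [hβdef, MulAut.mul_apply] at h1
  have h2 := congrArg (MulAut.conj (e : L)) h1
  rwa [MulAut.apply_inv_self] at h2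

section SL

variable {F : Type} [Field F] [Fintype F] [DecidableEq F] [CharP F 2]

theorem SLTwo_center : center (Matrix.SpecialLinearGroup (Fin 2) F) = ⊥ :=
  Fus.CTSimple.center_eq_bot_of_two CharTwo.two_eq_zero

/-- In characteristic two `SL₂ ≅ PSL₂`. -/
noncomputable def SLTwoEquivPSL :
    Matrix.SpecialLinearGroup (Fin 2) F ≃* Matrix.ProjectiveSpecialLinearGroup (Fin 2) F :=
  ((QuotientGroup.quotientMulEquivOfEq SLTwo_center).trans QuotientGroup.quotientBot).symm

theorem SLTwo_isSimple (h3 : 3 < Fintype.card F) : IsSimpleGroup (Matrix.SpecialLinearGroup (Fin 2) F) := by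
  haveI : IsSimpleGroup (Matrix.ProjectiveSpecialLinearGroup (Fin 2) F) :=
    Classical.PSL_isSimple le_rfl fun _ => by omega
  exact (SLTwoEquivPSL (F := F)).isSimpleGroup

/-- The centraliser of an involution of `SL₂(q)`, `q` even, has order `q`. -/
theorem SLTwo_card_centralizer {v : Matrix.SpecialLinearGroup (Fin 2) F} (hv : orderOf v = 2) :
    Nat.card (centralizer ({v} : Set (Matrix.SpecialLinearGroup (Fin 2) F))) = Fintype.card F := by
  haveI : Fact (Nat.Prime 2) := ⟨Nat.prime_two⟩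
  set C := centralizer ({v} : Set (Matrix.SpecialLinearGroup (Fin 2) F))
  have hu : orderOf (Block.AbTwo.SLTwo.upper (1 : F)) = 2 := Invol.orderOf_two_iff.2
    ⟨Block.AbTwo.SLTwo.upper_sq 1, fun h => by
      have := congrFun (congrFun (congrArg Subtype.val h) 0) 1
      simp [Block.AbTwo.SLTwo.upper] at this⟩
  obtain ⟨w, hw⟩ := _root_.isConj_iff.1 (Block.AbTwo.SLTwo.isConj_involutions hu hv)
  have hCsq : ∀ g ∈ C, g * g = 1 := by
    intro g hg
    have h1 : w⁻¹ * g * w * Block.AbTwo.SLTwo.upper 1 = Block.AbTwo.SLTwo.upper 1 * (w⁻¹ * g * w) := by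
      have h2 := mem_centralizer_singleton_iff.1 hg
      rw [← hw] at h2
      calc w⁻¹ * g * w * Block.AbTwo.SLTwo.upper 1
          = w⁻¹ * (g * (w * Block.AbTwo.SLTwo.upper 1 * w⁻¹)) * w := by group
        _ = w⁻¹ * (w * Block.AbTwo.SLTwo.upper 1 * w⁻¹ * g) * w := by rw [h2]
        _ = Block.AbTwo.SLTwo.upper 1 * (w⁻¹ * g * w) := by group
    suffices key : ∀ k : Matrix.SpecialLinearGroup (Fin 2) F,
        k * Block.AbTwo.SLTwo.upper 1 = Block.AbTwo.SLTwo.upper 1 * k → k * k = 1 by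
      have := key _ h1
      calc g * g = w * ((w⁻¹ * g * w) * (w⁻¹ * g * w)) * w⁻¹ := by group
        _ = 1 := by rw [this, mul_one, mul_inv_cancel]
    intro k hk
    have hk' : (k : Matrix (Fin 2) (Fin 2) F) * !![1, 1; 0, 1] =
        !![1, 1; 0, 1] * (k : Matrix (Fin 2) (Fin 2) F) := congrArg Subtype.val hk
    have e00 := congrFun (congrFun hk' 0) 0
    have e01 := congrFun (congrFun hk' 0) 1
    simp [Matrix.mul_apply, Fin.sum_univ_two] at e00 e01
    have hdet : (k : Matrix (Fin 2) (Fin 2) F) 0 0 * (k : Matrix (Fin 2) (Fin 2) F) 1 1 -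
        (k : Matrix (Fin 2) (Fin 2) F) 0 1 * (k : Matrix (Fin 2) (Fin 2) F) 1 0 = 1 := by
      rw [← Matrix.det_fin_two]; exact k.2
    have hc : (k : Matrix (Fin 2) (Fin 2) F) 1 0 = 0 := e00
    have had : (k : Matrix (Fin 2) (Fin 2) F) 0 0 = (k : Matrix (Fin 2) (Fin 2) F) 1 1 := by
      linear_combination e01
    have hd2 : (k : Matrix (Fin 2) (Fin 2) F) 1 1 * (k : Matrix (Fin 2) (Fin 2) F) 1 1 = 1 := by
      rw [hc, had] at hdet; linear_combination hdet
    refine Subtype.ext ?_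
    show (k : Matrix (Fin 2) (Fin 2) F) * k = 1
    ext i j
    fin_cases i <;> fin_cases j <;> simp [Matrix.mul_apply, Fin.sum_univ_two, hc, had, hd2]
    rw [mul_comm ((k : Matrix (Fin 2) (Fin 2) F) 1 1), ← mul_add, CharTwo.add_self_eq_zero, mul_zero]
  have hCp : IsPGroup 2 C := fun g => ⟨1, by rw [pow_one, pow_two]; exact Subtype.ext (hCsq g g.2)⟩
  obtain ⟨R, hR⟩ := hCp.exists_le_sylow
  have hvR : v ∈ (R : Subgroup _) := hR (mem_centralizer_singleton_iff.2 rfl)
  have hRC : (R : Subgroup _) ≤ C := fun a ha => mem_centralizer_singleton_iff.2 (by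
    have hinv : ∀ c ∈ (R : Subgroup (Matrix.SpecialLinearGroup (Fin 2) F)), c⁻¹ = c := fun c hc =>
      inv_eq_of_mul_eq_one_right (Block.AbTwo.SLTwo.sylow_sq R c hc)
    calc a * v = (a * v)⁻¹ := (hinv _ (mul_mem ha hvR)).symm
      _ = v * a := by rw [mul_inv_rev, hinv a ha, hinv v hvR])
  rw [← le_antisymm hRC hR]
  exact Block.AbTwo.SLTwo.card_sylow R

end SL

variable {G : Type u} [Group G] [Finite G]

/-- The elementary abelian case. -/
theorem dgroup_elementary (H : Subgroup G) (h4 : 4 ∣ Nat.card H) (hsq : ∀ x ∈ H, x * x = 1)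
    (hC : ∀ j ∈ H, orderOf j = 2 → centralizer ({j} : Set G) = H) (hns : ¬ Group.IsSolvable G) :
    DGroupConcl G := by
  classical
  haveI : Fact (Nat.Prime 2) := ⟨Nat.prime_two⟩
  have hHp : IsPGroup 2 H := fun a => ⟨1, by rw [pow_one, pow_two]; exact Subtype.ext (hsq a a.2)⟩
  obtain ⟨T, hT⟩ := hHp.exists_le_sylow
  have hcomm : ∀ a ∈ H, ∀ b ∈ H, a * b = b * a := by
    intro a ha b hb
    calc a * b = (a * b)⁻¹ := (inv_eq_of_mul_eq_one_right (hsq _ (H.mul_mem ha hb))).symm
      _ = b * a := by rw [mul_inv_rev, inv_eq_of_mul_eq_one_right (hsq a ha), inv_eq_of_mul_eq_one_right (hsq b hb)]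
  obtain ⟨⟨j, hjH⟩, hj⟩ := exists_prime_orderOf_dvd_card' (G := H) 2 (dvd_trans (by norm_num) h4)
  rw [Subgroup.orderOf_mk] at hj
  haveI : Nontrivial (T : Subgroup G) := ⟨⟨j, hT hjH⟩, 1, fun h => by
    rw [show j = 1 from congrArg Subtype.val h, orderOf_one] at hj; omega⟩
  have hZ : Nontrivial (center (T : Subgroup G)) := T.isPGroup'.center_nontrivial
  obtain ⟨k, hk0, hk⟩ := (T.isPGroup'.to_subgroup (center (T : Subgroup G))).nontrivial_iff_card.mp hZ
  obtain ⟨z, hz⟩ := exists_prime_orderOf_dvd_card' (G := center (T : Subgroup G)) 2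
    (hk ▸ dvd_pow_self 2 (by omega))
  rw [← Subgroup.orderOf_coe, ← Subgroup.orderOf_coe] at hz
  have hzH : ((z : (T : Subgroup G)) : G) ∈ H := by
    rw [← hC j hjH hj, mem_centralizer_singleton_iff]
    exact (congrArg Subtype.val (mem_center_iff.1 z.2 ⟨j, hT hjH⟩)).symm
  have hTH : (T : Subgroup G) ≤ H := fun t ht => by
    rw [← hC _ hzH hz, mem_centralizer_singleton_iff]
    exact congrArg Subtype.val (mem_center_iff.1 z.2 ⟨t, ht⟩)
  have hAI : Fus.AbInv.AI G := by
    intro t ht a b ha hb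
    obtain ⟨g, hg⟩ := Invol.exists_conj_mem_sylow (p := 2) (n := 1) (x := t) (by rw [ht, pow_one]) T
    have key : ∀ c : G, Commute c t → g * c * g⁻¹ ∈ H := fun c hc => by
      rw [← hC _ (hTH hg) (by rw [Invol.orderOf_conj_eq, ht]), mem_centralizer_singleton_iff]
      calc g * c * g⁻¹ * (g * t * g⁻¹) = g * (c * t) * g⁻¹ := by group
        _ = g * (t * c) * g⁻¹ := by rw [hc.eq]
        _ = g * t * g⁻¹ * (g * c * g⁻¹) := by group
    have h1 := hcomm _ (key a ha) _ (key b hb)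
    have h2 : g * (a * b) * g⁻¹ = g * (b * a) * g⁻¹ := by
      calc g * (a * b) * g⁻¹ = g * a * g⁻¹ * (g * b * g⁻¹) := by group
        _ = g * b * g⁻¹ * (g * a * g⁻¹) := h1
        _ = g * (b * a) * g⁻¹ := by group
    exact mul_left_cancel (mul_right_cancel h2)
  have heven : Even (Nat.card G) := even_iff_two_dvd.2 ((dvd_trans (by norm_num) h4).trans H.card_subgroup_dvd_card)
  rcases Fus.AbInv.classify heven hAI with hc | hn | ⟨F, i1, i2, B, i3, i4, i5, hB, ⟨f⟩⟩
  · exfalso
    haveI := hc T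
    haveI : IsCyclic H := isCyclic_of_injective (Subgroup.inclusion hT) (Subgroup.inclusion_injective hT)
    obtain ⟨a, ha⟩ := IsCyclic.exists_generator (α := H)
    have h1 : orderOf a ∣ 2 := orderOf_dvd_of_pow_eq_one (by rw [pow_two]; exact Subtype.ext (hsq a a.2))
    rw [orderOf_eq_card_of_forall_mem_zpowers ha] at h1
    have := Nat.le_of_dvd two_pos h1
    have := Nat.le_of_dvd Nat.card_pos h4
    omega
  · exfalso
    haveI := hn T
    have hsol : Group.IsSolvable (G ⧸ (T : Subgroup G)) := Cfsg.Agent.S0205.result (by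
      rw [← Subgroup.index_eq_card, ← Nat.not_even_iff_odd, even_iff_two_dvd]; exact T.not_dvd_index)
    haveI := T.isPGroup'.isNilpotent
    exact hns ((Group.isSolvable_iff_subgroup_quotient (T : Subgroup G)).2 ⟨inferInstance, hsol⟩)
  let π : G →* Matrix.SpecialLinearGroup (Fin 2) F := (MonoidHom.fst _ _).comp f.toMonoidHom
  have hπ : Function.Surjective π := Prod.fst_surjective.comp f.surjective
  have hker : Nat.card π.ker = Nat.card B := by
    refine Nat.card_congr
      { toFun := fun g => (f (g : G)).2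
        invFun := fun b => ⟨f.symm (1, b), by
          show (f (f.symm (1, b))).1 = 1
          rw [f.apply_symm_apply]⟩
        left_inv := fun g => Subtype.ext (by
          show f.symm (1, (f (g : G)).2) = g
          rw [show ((1 : Matrix.SpecialLinearGroup (Fin 2) F), (f (g : G)).2) = f g from
            Prod.ext g.2.symm rfl, f.symm_apply_apply])
        right_inv := fun b => by
          show (f (f.symm (1, b))).2 = b
          rw [f.apply_symm_apply] }
  have h3 : 3 < Fintype.card F := by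
    let R : Sylow 2 (Matrix.SpecialLinearGroup (Fin 2) F) := T.mapSurjective hπ
    obtain ⟨e⟩ : Nonempty (↥(T : Subgroup G) ≃* ↥(R : Subgroup (Matrix.SpecialLinearGroup (Fin 2) F))) := by
      have hinj : Function.Injective (π.subgroupMap (T : Subgroup G)) := by
        rw [injective_iff_map_eq_one]
        intro t ht
        have h1 : (t : G) ∈ π.ker := congrArg Subtype.val ht
        obtain ⟨k, hk⟩ := IsPGroup.iff_orderOf.1 T.isPGroup' t
        refine orderOf_eq_one_iff.1 (Nat.eq_one_of_dvd_coprimes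
          ((Nat.coprime_two_right.2 (hker ▸ hB)).pow_right k) ?_ hk.dvd)
        rw [← Subgroup.orderOf_coe]
        exact Subgroup.orderOf_dvd_natCard _ h1
      exact ⟨(MulEquiv.ofBijective _ ⟨hinj, π.subgroupMap_surjective _⟩).trans
        ((MulEquiv.subgroupCongr (Sylow.coe_mapSurjective hπ T)).symm)⟩
    have h1 := Block.AbTwo.SLTwo.card_sylow R
    rw [← Nat.card_congr e.toEquiv] at h1
    have := Nat.le_of_dvd Nat.card_pos (h4.trans (Subgroup.card_dvd_of_le hT))
    omega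
  exact ⟨π.ker, inferInstance, Or.inl (hker ▸ hB), F, i1, i2, h3,
    Or.inl ⟨(QuotientGroup.quotientKerEquivOfSurjective π hπ).trans SLTwoEquivPSL⟩⟩

variable {H A : Subgroup G}

set_option maxHeartbeats 400000 in
/-- The case of two involutions in `A`. -/
theorem dgroup_rank_two (d : DData H A) (h4 : 4 ∣ Nat.card H) {i₁ i₂ : G} (h₁ : i₁ ∈ A) (h₁2 : orderOf i₁ = 2)
    (h₂ : i₂ ∈ A) (h₂2 : orderOf i₂ = 2) (hne : i₁ ≠ i₂) (hns : ¬ Group.IsSolvable G) : DGroupConcl G := by
  classical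
  haveI : Fact (Nat.Prime 2) := ⟨Nat.prime_two⟩
  obtain ⟨T, ⟨x, hxT, hx, hxA⟩, hiT, -, hex⟩ := d.exists_sylow h4
  have hTH : (T : Subgroup G) ≤ H := by
    refine d.sylow_le T hiT hex fun g hg hgH i hi hi2 => ?_
    have hH := d.conj_mem h₁ h₁2 h₂ h₂2 hne (hgH _ (hiT _ h₁ h₁2) (d.le h₁)) (hgH _ (hiT _ h₂ h₂2) (d.le h₂))
    by_contra hout
    have hmem : g * i * g⁻¹ ∈ H := hgH _ (hiT _ hi hi2) (d.le hi)
    refine d.not_central hmem hout fun a ha => ?_
    have h1 : g⁻¹ * a * g ∈ H := by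
      rw [hH]
      rw [show g * (g⁻¹ * a * g) * g⁻¹ = a by group]
      exact d.le ha
    calc g * i * g⁻¹ * a = g * (i * (g⁻¹ * a * g)) * g⁻¹ := by group
      _ = g * (g⁻¹ * a * g * i) * g⁻¹ := by rw [d.central hi hi2 _ h1]
      _ = a * (g * i * g⁻¹) := by group
  have hx2 : orderOf x = 2 := Invol.orderOf_two_iff.2 ⟨d.out_sq x hx hxA, fun h => hxA (h ▸ A.one_mem)⟩
  -- the transfer
  let M : Subgroup G := (T : Subgroup G) ⊓ A
  have hMA : ∀ w ∈ M, w ∈ A := fun w hw => hw.2
  have hMidx : M.index = 2 ^ (0 + 1) * (T : Subgroup G).index := by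
    have h1 := relIndex_mul_index (inf_le_left : M ≤ (T : Subgroup G))
    rw [← h1, zero_add, pow_one]
    congr 1
    show ((M).subgroupOf (T : Subgroup G)).index = 2
    rw [index_eq_two_iff]
    refine ⟨⟨x, hxT⟩, fun b => ?_⟩
    simp only [mem_subgroupOf, Subgroup.coe_mul, M, mem_inf, SetLike.coe_mem, mul_mem b.2 hxT, true_and]
    rw [xor_iff_iff_not]
    constructor
    · intro h h'
      exact hxA ((A.mul_mem_cancel_left h').1 h)
    · exact fun h => d.out_mul _ (hTH b.2) h x hx hxA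
  let φ := TransferDihedral.cosetSign M
  have hout : ∀ w ∈ H, w ∉ A → φ w = -1 := by
    intro w hw hwA
    have hw2 : orderOf w = 2 := Invol.orderOf_two_iff.2 ⟨d.out_sq w hw hwA, fun h => hwA (h ▸ A.one_mem)⟩
    refine TransferDihedral.cosetSign_eq_neg_one M (j := 0) (by rw [hw2]; rfl) hMidx
      (by rw [← Nat.not_even_iff_odd, even_iff_two_dvd]; exact T.not_dvd_index) fun g hg => ?_
    rw [pow_zero, pow_one] at hg
    refine d.not_fused h₁ h₁2 h₂ h₂2 hne (hMA _ hg) (by rw [Invol.orderOf_conj_eq, hw2]) hw hwA g⁻¹ ?_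
    group
  have hinA : ∀ w ∈ H, (φ w = 1 ↔ w ∈ A) := by
    intro w hw
    constructor
    · intro h
      by_contra hwA
      rw [hout w hw hwA] at h
      exact absurd h (by decide)
    · intro hwA
      have h1 := hout (x * w) (H.mul_mem hx hw) fun h => hxA ((A.mul_mem_cancel_right hwA).1 h)
      rw [map_mul, hout x hx hxA] at h1
      exact mul_left_cancel (h1.trans (mul_one _).symm)
  let G0 := φ.ker
  have hxG0 : x ∉ G0 := fun h => hxA ((hinA x hx).1 h)
  have hG0mul : ∀ g : G, g ∉ G0 → g * x ∈ G0 := by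
    intro g hg
    show φ (g * x) = 1
    rw [map_mul, hout x hx hxA, (Int.units_eq_one_or (φ g)).resolve_left hg]
    rfl
  let T0 : Sylow 2 G0 := (T.isPGroup'.comap_subtype (K := G0)).toSylow (Grp.sylow_inf_normal_relIndex T G0)
  have hT0 : ∀ g : G0, g ∈ (T0 : Subgroup G0) → (g : G) ∈ A := fun g hg =>
    (hinA _ (hTH hg)).1 g.2
  have hAG0 : ∀ a ∈ A, a ∈ G0 := fun a ha => (hinA a (d.le ha)).2 ha
  have hi0 : ∀ i ∈ A, orderOf i = 2 → ∃ h : i ∈ G0, (⟨i, h⟩ : G0) ∈ (T0 : Subgroup G0) := fun i hi hi2 =>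
    ⟨hAG0 i hi, (hiT i hi hi2 :)⟩
  have hAI : Fus.AbInv.AI G0 := by
    intro t ht a b ha hb
    obtain ⟨g, hg⟩ := Invol.exists_conj_mem_sylow (p := 2) (n := 1) (x := t) (by rw [ht, pow_one]) T0
    have hgA := hT0 _ hg
    have key : ∀ c : G0, Commute c t → ((g * c * g⁻¹ : G0) : G) ∈ A := fun c hc => by
      refine (hinA _ ?_).1 (g * c * g⁻¹).2
      rw [← d.cent _ hgA (by rw [Subgroup.orderOf_coe, Invol.orderOf_conj_eq, ht]), mem_centralizer_singleton_iff,
        ← Subgroup.coe_mul, ← Subgroup.coe_mul]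
      refine congrArg Subtype.val ?_
      calc g * c * g⁻¹ * (g * t * g⁻¹) = g * (c * t) * g⁻¹ := by group
        _ = g * (t * c) * g⁻¹ := by rw [hc.eq]
        _ = g * t * g⁻¹ * (g * c * g⁻¹) := by group
    have h1 : g * a * g⁻¹ * (g * b * g⁻¹) = g * b * g⁻¹ * (g * a * g⁻¹) :=
      Subtype.ext (d.comm _ (key a ha) _ (key b hb))
    have h2 : g * (a * b) * g⁻¹ = g * (b * a) * g⁻¹ := by
      calc g * (a * b) * g⁻¹ = g * a * g⁻¹ * (g * b * g⁻¹) := by group
        _ = g * b * g⁻¹ * (g * a * g⁻¹) := h1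
        _ = g * (b * a) * g⁻¹ := by group
    exact mul_left_cancel (mul_right_cancel h2)
  obtain ⟨hi₁0, hi₁T⟩ := hi0 i₁ h₁ h₁2
  obtain ⟨hi₂0, hi₂T⟩ := hi0 i₂ h₂ h₂2
  have heven : Even (Nat.card G0) := even_iff_two_dvd.2 (by
    have := orderOf_dvd_natCard (⟨i₁, hi₁0⟩ : G0)
    rwa [Subgroup.orderOf_mk, h₁2] at this)
  rcases Fus.AbInv.classify heven hAI with hc | hn | ⟨F, i1, i2, B, i3, i4, i5, hB, ⟨f⟩⟩
  · exfalso
    haveI := hc T0
    refine hne (congrArg (fun u : (T0 : Subgroup G0) => ((u : G0) : G)) (cyclic_invol_unique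
      (x := (⟨⟨i₁, hi₁0⟩, hi₁T⟩ : (T0 : Subgroup G0))) (y := ⟨⟨i₂, hi₂0⟩, hi₂T⟩) ?_ ?_))
    · rw [Subgroup.orderOf_mk, Subgroup.orderOf_mk, h₁2]
    · rw [Subgroup.orderOf_mk, Subgroup.orderOf_mk, h₂2]
  · exfalso
    haveI := hn T0
    have hsol : Group.IsSolvable (G0 ⧸ (T0 : Subgroup G0)) := Cfsg.Agent.S0205.result (by
      rw [← Subgroup.index_eq_card, ← Nat.not_even_iff_odd, even_iff_two_dvd]; exact T0.not_dvd_index)
    haveI := T0.isPGroup'.isNilpotent
    haveI hG0 : Group.IsSolvable G0 :=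
      (Group.isSolvable_iff_subgroup_quotient (T0 : Subgroup G0)).2 ⟨inferInstance, hsol⟩
    refine hns ((Group.isSolvable_iff_subgroup_quotient G0).2 ⟨hG0, ?_⟩)
    exact Group.isSolvable_of_isSolvable_injective (f := (QuotientGroup.quotientKerEquivRange φ).toMonoidHom)
      (MulEquiv.injective _)
  set q := Fintype.card F with hqdef
  let ψ : Matrix.SpecialLinearGroup (Fin 2) F →* G :=
    G0.subtype.comp (f.symm.toMonoidHom.comp (MonoidHom.inl _ B))
  have hψ : Function.Injective ψ :=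
    G0.subtype_injective.comp (f.symm.injective.comp fun a b h => congrArg Prod.fst h)
  let R : Sylow 2 (Matrix.SpecialLinearGroup (Fin 2) F) := ((T0.mapSurjective
    (f := (MonoidHom.fst _ B).comp f.toMonoidHom) (Prod.fst_surjective.comp f.surjective)))
  -- elements of two-power order in `G₀` lie in the first factor
  have hsnd : ∀ g : G0, g ∈ (T0 : Subgroup G0) → (f g).2 = 1 := by
    intro g hg
    obtain ⟨k, hk⟩ := IsPGroup.iff_orderOf.1 T0.isPGroup' ⟨g, hg⟩
    rw [Subgroup.orderOf_mk] at hk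
    refine orderOf_eq_one_iff.1 (Nat.eq_one_of_dvd_coprimes ((Nat.coprime_two_left.2 hB).pow_left k) ?_
      (orderOf_dvd_natCard _))
    rw [← hk]
    exact orderOf_map_dvd ((MonoidHom.snd _ B).comp f.toMonoidHom) g
  have hψR : ∀ g : G0, g ∈ (T0 : Subgroup G0) → ψ (f g).1 = (g : G) := fun g hg => by
    show ((f.symm ((f g).1, 1) : G0) : G) = g
    rw [← hsnd g hg, Prod.mk.eta, f.symm_apply_apply]
  have hRmem : ∀ u ∈ (R : Subgroup (Matrix.SpecialLinearGroup (Fin 2) F)), ψ u ∈ A := by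
    rintro u ⟨g, hg, rfl⟩
    show ψ (f g).1 ∈ A
    rw [hψR g hg]
    exact hT0 g hg
  have hq4 : 4 ≤ q := by
    obtain ⟨W, hW4, -, hWmem⟩ := Transfer.TwoByCyclic.exists_klein (Invol.mul_self_of_orderOf_two h₁2)
      (Invol.mul_self_of_orderOf_two h₂2) (d.comm _ h₁ _ h₂) (fun h => by rw [h, orderOf_one] at h₁2; omega)
      (fun h => by rw [h, orderOf_one] at h₂2; omega) hne
    have h1 : Nat.card W ≤ Nat.card ((R : Subgroup _).map ψ) := by
      refine Subgroup.card_le_of_le fun w hw => ?_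
      have key : ∀ (i : G) (h : i ∈ G0), (⟨i, h⟩ : G0) ∈ (T0 : Subgroup G0) → i ∈ (R : Subgroup _).map ψ :=
        fun i h hi => ⟨(f ⟨i, h⟩).1, ⟨⟨i, h⟩, hi, rfl⟩, hψR _ hi⟩
      rcases (hWmem w).1 hw with rfl | rfl | rfl | rfl
      · exact one_mem _
      · exact key _ hi₁0 hi₁T
      · exact key _ hi₂0 hi₂T
      · exact mul_mem (key _ hi₁0 hi₁T) (key _ hi₂0 hi₂T)
    rw [hW4, Subgroup.card_map_of_injective hψ, Block.AbTwo.SLTwo.card_sylow R] at h1
    exact h1
  haveI := SLTwo_isSimple (F := F) (by omega)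
  let L : Subgroup G := ψ.range
  have hperf : commutator (Matrix.SpecialLinearGroup (Fin 2) F) = ⊤ := SLTwo_perfect (by omega)
  have hLeq : L = (commutator G0).map G0.subtype := by
    refine le_antisymm ?_ ?_
    · rintro _ ⟨u, rfl⟩
      refine ⟨f.symm (u, 1), ?_, rfl⟩
      have hle : (commutator (Matrix.SpecialLinearGroup (Fin 2) F)).map (f.symm.toMonoidHom.comp (MonoidHom.inl _ B)) ≤
          commutator G0 := by
        rw [_root_.commutator_def, Subgroup.map_commutator]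
        exact Subgroup.commutator_mono le_top le_top
      exact hle ⟨u, hperf ▸ mem_top u, rfl⟩
    · rintro _ ⟨g, hg, rfl⟩
      have h1 : (f g).2 = 1 :=
        Abelianization.commutator_subset_ker ((MonoidHom.snd _ B).comp f.toMonoidHom) hg
      exact ⟨(f g).1, by show ((f.symm ((f g).1, 1) : G0) : G) = g; rw [← h1, Prod.mk.eta, f.symm_apply_apply]⟩
  haveI hLn : L.Normal := by rw [hLeq]; infer_instance
  let ε : Matrix.SpecialLinearGroup (Fin 2) F ≃* L := MonoidHom.ofInjective hψ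
  let α : MulAut (Matrix.SpecialLinearGroup (Fin 2) F) := MulAut.congr ε.symm (MulAut.conjNormal x)
  have hαψ : ∀ u, ψ (α u) = x * ψ u * x⁻¹ := fun u => by
    show ((ε (ε.symm (MulAut.conjNormal x (ε u)))) : G) = _
    rw [ε.apply_symm_apply, MulAut.conjNormal_apply]
    rfl
  have hαR : ∀ u ∈ (R : Subgroup (Matrix.SpecialLinearGroup (Fin 2) F)), α u = u := by
    intro u hu
    refine hψ ?_
    rw [hαψ, d.inv x hx hxA _ (hRmem u hu)]
    exact inv_eq_of_mul_eq_one_right (by rw [← map_mul, Block.AbTwo.SLTwo.sylow_sq R u hu, map_one])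
  obtain ⟨e, heR, he⟩ := aut_fix_sylow hq4 Block.SL2Char.card_SS_nat
    (fun R' => Block.AbTwo.SLTwo.card_sylow R') (fun R' v hv => Block.AbTwo.SLTwo.sylow_sq R' v hv)
    (fun v hv => SLTwo_card_centralizer hv) (fun v w hv hw => Block.AbTwo.SLTwo.isConj_involutions hv hw) R α hαR
  let y := (ψ e)⁻¹ * x
  have hyL : ∀ u, y * ψ u = ψ u * y := by
    intro u
    have h1 := hαψ u
    rw [he, MulAut.conj_apply, map_mul, map_mul, map_inv] at h1
    show (ψ e)⁻¹ * x * ψ u = ψ u * ((ψ e)⁻¹ * x)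
    calc (ψ e)⁻¹ * x * ψ u = (ψ e)⁻¹ * (x * ψ u * x⁻¹) * x := by group
      _ = (ψ e)⁻¹ * (ψ e * ψ u * (ψ e)⁻¹) * x := by rw [h1]
      _ = ψ u * ((ψ e)⁻¹ * x) := by group
  let N : Subgroup G := centralizer (L : Set G)
  have hyN : y ∈ N := mem_centralizer_iff.2 fun l hl => by
    obtain ⟨u, rfl⟩ := MonoidHom.mem_range.1 hl
    exact (hyL u).symm
  let Φ : Matrix.SpecialLinearGroup (Fin 2) F →* G ⧸ N := (QuotientGroup.mk' N).comp ψ
  have hBN : ∀ b : B, ((f.symm (1, b) : G0) : G) ∈ N := fun b => mem_centralizer_iff.2 fun l hl => by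
    obtain ⟨u, rfl⟩ := MonoidHom.mem_range.1 hl
    show ((f.symm (u, 1) : G0) : G) * (f.symm (1, b) : G0) = (f.symm (1, b) : G0) * (f.symm (u, 1) : G0)
    rw [← Subgroup.coe_mul, ← Subgroup.coe_mul, ← map_mul, ← map_mul]
    simp
  have hG0Φ : ∀ g : G0, ∃ u, Φ u = QuotientGroup.mk' N (g : G) := fun g => by
    refine ⟨(f g).1, (QuotientGroup.eq (s := N)).2 ?_⟩
    have h1 : (ψ (f g).1)⁻¹ * (g : G) = ((f.symm (1, (f g).2) : G0) : G) := by
      rw [inv_mul_eq_iff_eq_mul]
      show (g : G) = ((f.symm ((f g).1, 1) : G0) : G) * (f.symm (1, (f g).2) : G0)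
      rw [← Subgroup.coe_mul, ← map_mul, Prod.mk_mul_mk, mul_one, one_mul, Prod.mk.eta, f.symm_apply_apply]
    rw [h1]
    exact hBN _
  have hΦs : Function.Surjective Φ := fun w => by
    obtain ⟨g, rfl⟩ := QuotientGroup.mk'_surjective N w
    by_cases hg : g ∈ G0
    · exact hG0Φ ⟨g, hg⟩
    obtain ⟨u, hu⟩ := hG0Φ ⟨g * x, hG0mul g hg⟩
    refine ⟨u * e, ?_⟩
    have hy : QuotientGroup.mk' N x = Φ e := ((QuotientGroup.eq (s := N)).2 hyN).symm
    rw [map_mul, hu, ← hy, ← map_mul]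
    show QuotientGroup.mk' N (g * x * x) = QuotientGroup.mk' N g
    rw [mul_assoc, d.out_sq x hx hxA, mul_one]
  have hΦi : Function.Injective Φ := by
    rw [injective_iff_map_eq_one]
    intro u hu
    have h1 : ψ u ∈ N := (QuotientGroup.eq_one_iff _).1 hu
    have h2 : u ∈ center (Matrix.SpecialLinearGroup (Fin 2) F) := mem_center_iff.2 fun v =>
      hψ (by rw [map_mul, map_mul]; exact mem_centralizer_iff.1 h1 _ ⟨v, rfl⟩)
    rwa [SLTwo_center, mem_bot] at h2
  let e₁ := MulEquiv.ofBijective Φ ⟨hΦi, hΦs⟩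
  refine ⟨N, inferInstance, Or.inr ⟨Nat.card B, hB, ?_⟩, F, i1, i2, by omega,
    Or.inl ⟨e₁.symm.trans SLTwoEquivPSL⟩⟩
  have hidx : G0.index = 2 := by
    rw [index_eq_two_iff]
    refine ⟨x, fun b => ?_⟩
    rw [xor_iff_iff_not]
    exact ⟨fun h h' => hxG0 ((G0.mul_mem_cancel_left h').1 h), hG0mul b⟩
  have h1 := N.card_eq_card_quotient_mul_card_subgroup
  have h2 := G0.card_mul_index
  rw [hidx, Nat.card_congr f.toEquiv, Nat.card_prod] at h2
  rw [← Nat.card_congr e₁.toEquiv, ← h2, mul_assoc, mul_comm (Nat.card B) 2] at h1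
  exact (Nat.eq_of_mul_eq_mul_left Nat.card_pos h1).symm

end Cfsg.Agent.Invol.GW
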