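import Cfsg.Agent.Lib.Invol.GW.Consumers.Socle
import Cfsg.Agent.Lib.Invol.GW.Klein.LinearPSL
import Cfsg.Agent.Lib.OddUse.RankTwoSylow
import Cfsg.Agent.Lib.Local.CoreConsumers.Main
import Cfsg.Agent.Lib.Local.CoreConsumers.SimpleBorel
import Cfsg.Agent.Lib.Invol.CentInt.CoverDerived
import Cfsg.Agent.Lib.Invol.SPEmbedded
import Cfsg.Agent.Lib.Grp.Solvable
import Cfsg.Agent.Lib.Grp.Quasisimple
import Cfsg.Agent.Lib.Grp.Frattini
import Cfsg.Agent.Lib.Grp.QuotientNormalizer
import Cfsg.Agent.Lib.Grp.PrimeGraphCIT.Basic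
import Cfsg.Agent.Lib.Block.CpQuot.Congr
import Cfsg.Agent.S0205
import Cfsg.Agent.S1221
import Cfsg.Agent.S2798

/-!
# Abelian Sylow 2-subgroups and solvable centralizers of involutions (for S3188), given S0483
-/

set_option autoImplicit false
set_option linter.style.haveILetI false

namespace Cfsg.Agent.Invol.GW

open Subgroup

universe u

/-- The simple groups of the conclusion. -/
def IsPSLTwoAbelianSylow (X : Type u) [Group X] : Prop :=
  ∃ (F : Type) (_ : Field F) (_ : Fintype F),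
    (((Fintype.card F % 8 = 3 ∨ Fintype.card F % 8 = 5) ∧ 5 ≤ Fintype.card F) ∨
      (∃ n : ℕ, 2 ≤ n ∧ Fintype.card F = 2 ^ n)) ∧
    Nonempty (X ≃* Matrix.ProjectiveSpecialLinearGroup (Fin 2) F)

theorem pGroup_comm {G : Type u} [Group G] [Finite G] {S : Sylow 2 G} (hS : IsMulCommutative (S : Subgroup G))
    {A : Subgroup G} (hA : IsPGroup 2 A) : IsMulCommutative A := by
  haveI : Fact (Nat.Prime 2) := ⟨Nat.prime_two⟩
  obtain ⟨T, hT⟩ := hA.exists_le_sylow
  exact ⟨⟨fun a b => inclusion_injective hT ((Sylow.equiv T S).injective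
    (by rw [map_mul, map_mul, map_mul, map_mul]; exact hS.is_comm.comm _ _))⟩⟩

theorem mapSurjective_comm {G : Type u} {K : Type*} [Group G] [Finite G] [Group K] {S : Sylow 2 G}
    (hS : IsMulCommutative (S : Subgroup G)) {f : G →* K} (hf : Function.Surjective f) :
    haveI : Fact (Nat.Prime 2) := ⟨Nat.prime_two⟩
    IsMulCommutative ((S.mapSurjective hf : Sylow 2 K) : Subgroup K) := by
  refine ⟨⟨?_⟩⟩
  rintro ⟨_, a, ha, rfl⟩ ⟨_, b, hb, rfl⟩
  refine Subtype.ext ?_
  show f a * f b = f b * f a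
  rw [← map_mul, ← map_mul]
  exact congrArg f (congrArg Subtype.val (hS.is_comm.comm ⟨a, ha⟩ ⟨b, hb⟩))

theorem not_comm_quasiDihedral {T : Type u} [Group T] [Finite T] (h : Cfsg.IsQuasiDihedral T) :
    ¬ IsMulCommutative T := by
  obtain ⟨n, hn, -, x, y, hx, -, hxy⟩ := h
  intro hc
  rw [hc.is_comm.comm y x, mul_inv_cancel_right] at hxy
  have h4 : 2 ^ 2 ≤ 2 ^ (n - 1) := Nat.pow_le_pow_right two_pos (by omega)
  have hlt : 2 ^ n = 2 ^ (n - 1) + 2 ^ (n - 1) := by
    rw [← two_mul, ← pow_succ', show n - 1 + 1 = n by omega]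
  have h1 : x ^ (2 ^ (n - 1) - 2) = 1 := by
    refine mul_right_cancel (b := x) ?_
    rw [← pow_succ, show 2 ^ (n - 1) - 2 + 1 = 2 ^ (n - 1) - 1 by omega, one_mul]
    exact hxy.symm
  have h2 := Nat.le_of_dvd (by omega) (orderOf_dvd_of_pow_eq_one h1)
  rw [hx] at h2
  omega

theorem not_comm_wreathed {T : Type u} [Group T] [Finite T] (h : Cfsg.IsWreathed T) :
    ¬ IsMulCommutative T := by
  obtain ⟨n, hn, -, x, y, z, hx, -, hinf, -, hzxy⟩ := h
  intro hc
  rw [hc.is_comm.comm z x, mul_inv_cancel_right] at hzxy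
  subst hzxy
  rw [inf_idem, zpowers_eq_bot] at hinf
  rw [hinf, orderOf_one] at hx
  have := Nat.one_lt_two_pow (n := n) (by omega)
  omega

theorem dihedral_two_of_comm {n : ℕ} (hn : 2 ≤ n) (h : ∀ a b : DihedralGroup n, a * b = b * a) : n = 2 := by
  have h1 := h (DihedralGroup.r 1) (DihedralGroup.sr 0)
  rw [DihedralGroup.r_mul_sr, DihedralGroup.sr_mul_r, DihedralGroup.sr.injEq] at h1
  have h3 : ((2 : ℕ) : ZMod n) = 0 := by
    push_cast
    linear_combination -h1
  exact le_antisymm (Nat.le_of_dvd two_pos ((ZMod.natCast_eq_zero_iff _ _).1 h3)) hn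

variable {X : Type u} [Group X] [Finite X] [IsSimpleGroup X]

/-- The case of rank at most two. -/
theorem simple_small_rank (hGW : GWStatement.{u}) (hX : ¬ IsMulCommutative X) (heven : Even (Nat.card X))
    (S : Sylow 2 X) (hS : IsMulCommutative (S : Subgroup X)) (hr : Cfsg.PRankLE 2 2 (S : Subgroup X)) :
    IsPSLTwoAbelianSylow X := by
  haveI : Fact (Nat.Prime 2) := ⟨Nat.prime_two⟩
  have hrX : Cfsg.PRankLE 2 2 X := by
    intro A hA hA2
    obtain ⟨T, hT⟩ := (Grp.elemAb_isPGroup (p := 2) ⟨hA, hA2⟩).exists_le_sylow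
    have h := Block.CpQuot.pRankLE_congr (Sylow.equiv S T) hr (A.subgroupOf (T : Subgroup X))
      ⟨⟨fun a b => Subtype.ext (Subtype.ext (congrArg Subtype.val (hA.is_comm.comm ⟨_, a.2⟩ ⟨_, b.2⟩) :))⟩⟩
      fun a ha => Subtype.ext (hA2 _ ha)
    rwa [Nat.card_congr (subgroupOfEquivOfLe hT).toEquiv] at h
  letI : Fintype (GaloisField 2 4) := Fintype.ofFinite _
  have hF : Fintype.card (GaloisField 2 4) = 16 := by
    rw [← Nat.card_eq_fintype_card, GaloisField.card 2 4 (by norm_num)]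
    norm_num
  obtain ⟨P⟩ : Nonempty (Sylow 2 (Cfsg.PSU 3 (GaloisField 2 4) 4)) := inferInstance
  have hsolv : ¬ Group.IsSolvable X := fun h => hX ⟨⟨IsSimpleGroup.comm_iff_isSolvable.2 h⟩⟩
  rcases OddUse.simple_rank_two_sylow hX heven hrX S hF P with ⟨n, hn, ⟨e⟩⟩ | h | h | ⟨⟨e⟩⟩
  · obtain rfl := dihedral_two_of_comm hn fun a b => e.symm.injective (by
      rw [map_mul, map_mul]
      exact hS.is_comm.comm _ _)
    haveI : Group.IsPerfect X := ⟨((inferInstance : (commutator X).Normal).eq_bot_or_eq_top).resolve_left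
      fun h => hX ⟨⟨fun a b => commutatorElement_eq_one_iff_mul_comm.1
        (mem_bot.1 (h ▸ commutator_mem_commutator (mem_top a) (mem_top b)))⟩⟩⟩
    have hO : Cfsg.oddCore X = ⊥ := by
      refine (Grp.pPrimeCore_isNormal (p := 2) (G := X)).eq_bot_or_eq_top.resolve_right fun h => ?_
      have hc : (Nat.card (Cfsg.pPrimeCore 2 X)).Coprime 2 := Grp.pPrimeCore_coprime
      rw [h, Subgroup.card_top] at hc
      exact Nat.not_even_iff_odd.2 (Nat.coprime_two_right.1 hc) heven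
    have hS4 : Nat.card (S : Subgroup X) = 4 := by
      rw [Nat.card_congr e.toEquiv, DihedralGroup.nat_card]
    have h8 : ¬ 8 ∣ Nat.card X := fun h => by
      have h1 : 2 ^ 3 ∣ Nat.card (S : Subgroup X) := S.pow_dvd_card_of_pow_dvd_card h
      rw [hS4] at h1
      norm_num at h1
    have strip : ∀ {Q : Type} [Group Q], Nonempty (X ⧸ Cfsg.oddCore X ≃* Q) → Nonempty (X ≃* Q) :=
      fun {Q} _ ⟨f⟩ =>
        ⟨((QuotientGroup.quotientMulEquivOfEq hO).trans QuotientGroup.quotientBot).symm.trans f⟩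
    rcases hGW (X := X) S 2 le_rfl ⟨e⟩ with ⟨F, hFi, hFf, hodd, h3, hf⟩ | hf
    · obtain ⟨f⟩ := strip hf
      refine ⟨F, hFi, hFf, Or.inl ⟨?_, ?_⟩, ⟨f⟩⟩
      · exact Klein.PSL.mod_eight hodd fun h => h8 (Nat.card_congr f.toEquiv ▸ h)
      · obtain ⟨k, hk⟩ := hodd
        omega
    · obtain ⟨f⟩ := strip hf
      refine absurd ?_ h8
      rw [Nat.card_congr f.toEquiv, nat_card_alternatingGroup, Nat.card_eq_fintype_card, Fintype.card_fin]
      decide
  · exact absurd hS (not_comm_quasiDihedral h)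
  · exact absurd hS (not_comm_wreathed h)
  · refine absurd ?_ (CentInt.psu_sylow_nonabelian (F := GaloisField 2 4) (q := 4) (n := 2)
      (by rw [hF]; rfl) rfl (by norm_num) P)
    exact ⟨⟨fun a b => e.symm.injective (by rw [map_mul, map_mul]; exact hS.is_comm.comm _ _)⟩⟩

/-- The case of rank at least three. -/
theorem simple_large_rank (hX : ¬ IsMulCommutative X) (S : Sylow 2 X)
    (hS : IsMulCommutative (S : Subgroup X)) (hr : ¬ Cfsg.PRankLE 2 2 (S : Subgroup X))
    (hsol : ∀ t : X, orderOf t = 2 → Group.IsSolvable ↥(centralizer ({t} : Set X))) :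
    IsPSLTwoAbelianSylow X := by
  haveI : Fact (Nat.Prime 2) := ⟨Nat.prime_two⟩
  have hne : (S : Subgroup X) ≠ ⊥ := fun h => hr fun A _ _ => by
    have h1 := Subgroup.card_le_card_group A
    rw [show Nat.card (S : Subgroup X) = 1 by rw [h, Subgroup.card_bot]] at h1
    omega
  have hnc : ¬ Cfsg.IsComponentType X := by
    rintro ⟨t, ht, K, hK⟩
    haveI := hsol t ht
    exact Grp.IsQuasisimple.not_isSolvable hK.2 inferInstance
  have hcore := CoreConsumers.s3109_of (fun M hM => Cfsg.Agent.S1221.result M hM)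
    (fun K _ _ h => Cfsg.Agent.S0205.result h) hX
    (CoreConsumers.constrained_locals fun t ht => (CoreConsumers.constrained_of_not_componentType hnc ht).2)
    S ⊤ inferInstance ⟨⟨fun a b => Subtype.ext (hS.is_comm.comm _ _)⟩⟩
    fun h => hr (Block.CpQuot.pRankLE_congr topEquiv h)
  have hC : ∀ t ∈ (S : Subgroup X), orderOf t = 2 →
      centralizer ({t} : Set X) ≤ normalizer ((S : Subgroup X) : Set X) := by
    intro t ht ht2
    set C := centralizer ({t} : Set X) with hCdef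
    haveI := hsol t ht2
    have hSC : (S : Subgroup X) ≤ C := fun x hx =>
      mem_centralizer_singleton_iff.2 (congrArg Subtype.val (hS.is_comm.comm ⟨x, hx⟩ ⟨t, ht⟩))
    let T : Sylow 2 C := S.subtype hSC
    have hO : Cfsg.pPrimeCore 2 C = ⊥ :=
      (Subgroup.map_eq_bot_iff_of_injective _ C.subtype_injective).1 (hcore t ht2)
    have hle : Cfsg.pCore 2 C ≤ (T : Subgroup C) := Grp.pCore_le_sylow T
    have hcen : (T : Subgroup C) ≤ centralizer (Cfsg.pCore 2 C : Set C) :=
      fun x hx => mem_centralizer_iff.2 fun y hy => Subtype.ext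
        (congrArg Subtype.val (hS.is_comm.comm ⟨(y : X), hle hy⟩ ⟨(x : X), hx⟩) :)
    have hTle : (T : Subgroup C) ≤ Cfsg.pCore 2 C := hcen.trans (Grp.centralizer_pCore_le hO)
    refine (Subgroup.normal_subgroupOf_iff_le_normalizer hSC).1 ?_
    show (T : Subgroup C).Normal
    rw [le_antisymm hTle hle]
    exact Grp.pCore_isNormal
  have htop : normalizer ((S : Subgroup X) : Set X) ≠ ⊤ := fun h => by
    rcases (normalizer_eq_top_iff.1 h).eq_bot_or_eq_top with e | e
    · exact hne e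
    · refine hX ⟨⟨fun a b => ?_⟩⟩
      exact congrArg Subtype.val (hS.is_comm.comm ⟨a, e ▸ mem_top a⟩ ⟨b, e ▸ mem_top b⟩)
  have hse := CoreConsumers.isStronglyEmbedded_of_centralizers htop S le_rfl hne hC
  obtain ⟨hM1, hM2, hM3⟩ := hse
  have hsp : Cfsg.IsStronglyPEmbedded 2 (normalizer ((S : Subgroup X) : Set X)) :=
    Invol.isStronglyPEmbedded_iff.2 ⟨even_iff_two_dvd.1 hM2, hM1, fun g hg h =>
      Nat.not_even_iff_odd.2 (hM3 g hg) (even_iff_two_dvd.2 h)⟩
  have h2 : 2 ∣ Nat.card X := hsp.1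
  rcases (CoreConsumers.simple_borel hX h2 (Cfsg.Agent.S2798.result _ hsp)).1 with
    ⟨F, i1, i2, n, hn, hq, he⟩ | ⟨F, i1, i2, m, hm, hq, ⟨e⟩⟩ | ⟨F, i1, i2, n, hn, hq, ⟨e⟩⟩
  · exact ⟨F, i1, i2, Or.inr ⟨n, hn, hq⟩, he⟩
  · exact absurd (mapSurjective_comm hS (f := e.toMonoidHom) e.surjective)
      (CentInt.suzuki_sylow_nonabelian hm hq _)
  · exact absurd (mapSurjective_comm hS (f := e.toMonoidHom) e.surjective)
      (CentInt.psu_sylow_nonabelian hq rfl (by omega) _)

/-- A non-abelian simple group with abelian Sylow 2-subgroups and solvable centralizers of involutions. -/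
theorem simple_abelian_sylow (hGW : GWStatement.{u}) (hX : ¬ IsMulCommutative X) (S : Sylow 2 X)
    (hS : IsMulCommutative (S : Subgroup X))
    (hsol : ∀ t : X, orderOf t = 2 → Group.IsSolvable ↥(centralizer ({t} : Set X))) :
    IsPSLTwoAbelianSylow X := by
  have heven : Even (Nat.card X) := Nat.not_odd_iff_even.1 fun h =>
    hX ⟨⟨IsSimpleGroup.comm_iff_isSolvable.2 (Cfsg.Agent.S0205.result h)⟩⟩
  by_cases hr : Cfsg.PRankLE 2 2 (S : Subgroup X)
  · exact simple_small_rank hGW hX heven S hS hr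
  · exact simple_large_rank hX S hS hr hsol

section Reduction

variable {G : Type u} [Group G] [Finite G]

omit [Finite G] in
theorem isSolvable_of_le {A B : Subgroup G} (h : A ≤ B) (hB : Group.IsSolvable B) : Group.IsSolvable A := by
  haveI := hB
  exact Group.isSolvable_of_isSolvable_injective (inclusion_injective h)

/-- A group with trivial core and abelian Sylow 2-subgroups that is not solvable has no solvable normal
subgroup, if the centralizers of involutions are solvable. -/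
theorem radical_eq_bot (hO : Cfsg.pPrimeCore 2 G = ⊥) (hns : ¬ Group.IsSolvable G) (S : Sylow 2 G)
    (hS : IsMulCommutative (S : Subgroup G))
    (hsol : ∀ t : G, orderOf t = 2 → Group.IsSolvable ↥(centralizer ({t} : Set G)))
    (N : Subgroup G) (hN : N.Normal) (hNs : Group.IsSolvable N) : N = ⊥ := by
  haveI : Fact (Nat.Prime 2) := ⟨Nat.prime_two⟩
  by_contra hne
  haveI := hN
  obtain ⟨V, hVn, hV, hVN, hmin⟩ := Grp.exists_minimal_normal_le hne
  haveI := hVn
  obtain ⟨p, hp, hVp⟩ := Grp.minimal_normal_solvable_isPGroup (isSolvable_of_le hVN hNs) hV hmin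
  haveI := Fact.mk hp
  obtain ⟨k, hk⟩ := IsPGroup.iff_card.1 hVp
  rcases eq_or_ne p 2 with rfl | hp2
  · have hk0 : k ≠ 0 := fun h => hV (card_eq_one.1 (by rw [hk, h, pow_zero]))
    obtain ⟨v, hv⟩ := exists_prime_orderOf_dvd_card' (G := V) 2 (hk ▸ dvd_pow_self 2 hk0)
    haveI : Group.IsSolvable (centralizer (V : Set G)) :=
      isSolvable_of_le (centralizer_le (Set.singleton_subset_iff.2 v.2))
        (hsol v (by rw [Subgroup.orderOf_coe, hv]))
    have hVS : V ≤ (S : Subgroup G) := (Grp.le_pCore hVn hVp).trans (Grp.pCore_le_sylow S)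
    have hSC : (S : Subgroup G) ≤ centralizer (V : Set G) := fun x hx => mem_centralizer_iff.2 fun y hy =>
      congrArg Subtype.val (hS.is_comm.comm ⟨y, hVS hy⟩ ⟨x, hx⟩)
    haveI : Group.IsSolvable (G ⧸ centralizer (V : Set G)) := by
      refine Cfsg.Agent.S0205.result (Nat.not_even_iff_odd.1 fun h => ?_)
      rw [← Subgroup.index_eq_card] at h
      exact S.not_dvd_index ((even_iff_two_dvd.1 h).trans (index_dvd_of_le hSC))
    exact hns ((Group.isSolvable_iff_subgroup_quotient (centralizer (V : Set G))).2 ⟨inferInstance, inferInstance⟩)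
  · refine hV (le_bot_iff.1 (hO ▸ Grp.le_pPrimeCore hVn ?_))
    rw [hk]
    exact ((Nat.coprime_primes hp Nat.prime_two).2 hp2).pow_left k

/-- The simple normal subgroup. -/
theorem exists_simple_socle (hns : ¬ Group.IsSolvable G)
    (hrad : ∀ N : Subgroup G, N.Normal → Group.IsSolvable N → N = ⊥)
    (hsol : ∀ t : G, orderOf t = 2 → Group.IsSolvable ↥(centralizer ({t} : Set G))) :
    ∃ M : Subgroup G, M.Normal ∧ IsSimpleGroup M ∧ ¬ IsMulCommutative M ∧ centralizer (M : Set G) = ⊥ := by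
  classical
  haveI : Fact (Nat.Prime 2) := ⟨Nat.prime_two⟩
  have htop : (⊤ : Subgroup G) ≠ ⊥ := fun e => by
    haveI : Subsingleton G := Subgroup.subsingleton_iff.mp (subsingleton_of_top_le_bot (α := Subgroup G) e.le)
    exact hns inferInstance
  obtain ⟨M, hMn, hM, -, hMmin⟩ := Grp.exists_minimal_normal_le htop
  haveI := hMn
  have hMns : ¬ Group.IsSolvable M := fun hs => hM (hrad M hMn hs)
  have hkey : ∀ A B : Subgroup G, ¬ Odd (Nat.card A) → (∀ a ∈ A, ∀ b ∈ B, a * b = b * a) →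
      Group.IsSolvable B := by
    intro A B hA hc
    obtain ⟨a, ha⟩ := exists_prime_orderOf_dvd_card' (G := A) 2 (even_iff_two_dvd.1 (Nat.not_odd_iff_even.1 hA))
    exact isSolvable_of_le (fun b hb => mem_centralizer_singleton_iff.2 (hc a a.2 b hb).symm)
      (hsol a (by rw [Subgroup.orderOf_coe, ha]))
  refine ⟨M, hMn, ?_, fun hc => hMns (Group.isSolvable_of_comm fun a b => hc.is_comm.comm a b), ?_⟩
  swap
  · refine hrad _ inferInstance ?_
    exact hkey M _ (fun h => hMns (Cfsg.Agent.S0205.result h)) fun a ha b hb =>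
      mem_centralizer_iff.1 hb a ha
  haveI : Nontrivial M := (Subgroup.nontrivial_iff_ne_bot M).mpr hM
  refine ⟨fun K hK => ?_⟩
  by_contra hKc
  push Not at hKc
  obtain ⟨K0, hK0n, hK0ne, hK0K, hK0min⟩ := Grp.exists_minimal_normal_le (N := K) hKc.1
  haveI := hK0n
  set A := K0.map M.subtype with hA
  have hAM : A ≤ M := Subgroup.map_subtype_le _
  have hMA : ∀ m ∈ M, ∀ a ∈ A, m * a * m⁻¹ ∈ A := by
    rintro m hm _ ⟨a, ha, rfl⟩
    exact ⟨_, hK0n.conj_mem a ha ⟨m, hm⟩, rfl⟩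
  have hAne : A ≠ ⊥ := fun e => hK0ne ((Subgroup.map_eq_bot_iff_of_injective _ M.subtype_injective).mp e)
  obtain ⟨g, hg⟩ : ∃ g : G, ∃ a ∈ A, g * a * g⁻¹ ∉ A := by
    by_contra hc
    push Not at hc
    rcases hMmin A ⟨fun a ha g => hc g a ha⟩ hAM with e | e
    · exact hAne e
    · refine hKc.2 (eq_top_iff.2 fun x _ => hK0K ?_)
      obtain ⟨y, hy, hyx⟩ : (x : G) ∈ A := by rw [e]; exact x.2
      exact Subtype.ext hyx ▸ hy
  set B := A.map (MulAut.conj g).toMonoidHom with hB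
  have hBM : B ≤ M := by
    rintro _ ⟨b, hb, rfl⟩
    exact hMn.conj_mem b (hAM hb) g
  have hMB : ∀ m ∈ M, ∀ b ∈ B, m * b * m⁻¹ ∈ B := by
    rintro m hm _ ⟨b, hb, rfl⟩
    refine ⟨(g⁻¹ * m * g) * b * (g⁻¹ * m * g)⁻¹, hMA _ (hMn.conj_mem' m hm g) b hb, ?_⟩
    simp only [MulEquiv.coe_toMonoidHom, MulAut.conj_apply]
    group
  have hinf : ∀ x ∈ A, x ∈ B → x = 1 := by
    let I : Subgroup M := (A ⊓ B).subgroupOf M
    haveI : I.Normal := ⟨fun x hx m => ⟨hMA m m.2 _ hx.1, hMB m m.2 _ hx.2⟩⟩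
    have hIK : I ≤ K0 := by
      intro x hx
      obtain ⟨y, hy, hyx⟩ := (mem_subgroupOf.1 hx).1
      exact Subtype.ext hyx ▸ hy
    rcases hK0min I inferInstance hIK with e | e
    · intro x hx hx'
      have : (⟨x, hAM hx⟩ : M) ∈ I := ⟨hx, hx'⟩
      rw [e, mem_bot] at this
      exact congrArg Subtype.val this
    · exfalso
      obtain ⟨a, ha, hga⟩ := hg
      have hle : A ≤ B := by
        rintro _ ⟨y, hy, rfl⟩
        exact (e.symm ▸ hy : y ∈ I).2
      have heq : A = B := Subgroup.eq_of_le_of_card_ge hle (by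
        rw [hB, Subgroup.card_map_of_injective (MulAut.conj g).injective])
      exact hga (heq.symm ▸ ⟨a, ha, rfl⟩)
  have hcomm : ∀ a ∈ A, ∀ b ∈ B, a * b = b * a := fun a ha b hb => by
    have h1 : a * b * a⁻¹ * b⁻¹ = 1 := hinf _
      (by rw [show a * b * a⁻¹ * b⁻¹ = a * (b * a⁻¹ * b⁻¹) by group]
          exact mul_mem ha (hMA b (hBM hb) _ (inv_mem ha)))
      (mul_mem (hMB a (hAM ha) b hb) (inv_mem hb))
    exact mul_inv_eq_iff_eq_mul.1 (mul_inv_eq_one.1 h1)
  let e₁ : K0 ≃* A := K0.equivMapOfInjective _ M.subtype_injective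
  let e₂ : A ≃* B := A.equivMapOfInjective _ (MulAut.conj g).injective
  have hK0s : Group.IsSolvable K0 := by
    by_cases hodd : Odd (Nat.card A)
    · exact Cfsg.Agent.S0205.result (Nat.card_congr e₁.toEquiv ▸ hodd)
    · haveI := hkey A B hodd hcomm
      exact Group.isSolvable_of_isSolvable_injective (f := (e₁.trans e₂).toMonoidHom) (e₁.trans e₂).injective
  exact Grp.PGCIT.false_of_solvable_normal hrad M K0 hK0s hK0ne

/-- Passing to the quotient by the core. -/
theorem centralizer_quotient_solvable (hsol : ∀ t : G, orderOf t = 2 → Group.IsSolvable ↥(centralizer ({t} : Set G)))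
    (x : G ⧸ Cfsg.oddCore G) (hx : orderOf x = 2) :
    Group.IsSolvable ↥(centralizer ({x} : Set (G ⧸ Cfsg.oddCore G))) := by
  haveI : Fact (Nat.Prime 2) := ⟨Nat.prime_two⟩
  haveI hn : (Cfsg.oddCore G).Normal := Grp.pPrimeCore_isNormal
  have hodd : Odd (Nat.card (Cfsg.oddCore G)) := Nat.coprime_two_right.1 Grp.pPrimeCore_coprime
  obtain ⟨g, rfl⟩ := QuotientGroup.mk'_surjective (Cfsg.oddCore G) x
  obtain ⟨hx2, hx1⟩ := orderOf_eq_prime_iff.1 hx
  obtain ⟨k, m, hm, hkm⟩ := Nat.exists_eq_two_pow_mul_odd (orderOf_pos g).ne'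
  have hmk : QuotientGroup.mk' (Cfsg.oddCore G) (g ^ m) = QuotientGroup.mk' (Cfsg.oddCore G) g := by
    obtain ⟨j, rfl⟩ := hm
    rw [map_pow, pow_succ, pow_mul, hx2, one_pow, one_mul]
  have hpow : (g ^ m) ^ 2 ^ k = 1 := by
    rw [← pow_mul, mul_comm, ← hkm, pow_orderOf_eq_one]
  have hsqO : (g ^ m) ^ 2 ∈ Cfsg.oddCore G := by
    rw [← QuotientGroup.eq_one_iff]
    show QuotientGroup.mk' (Cfsg.oddCore G) ((g ^ m) ^ 2) = 1
    rw [map_pow, hmk, hx2]
  have hsq : (g ^ m) ^ 2 = 1 := by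
    refine orderOf_eq_one_iff.1 (Nat.eq_one_of_dvd_coprimes
      (((Nat.coprime_two_left.2 hodd).pow_left k)) (orderOf_dvd_of_pow_eq_one ?_) ?_)
    · rw [← pow_mul, mul_comm, pow_mul, hpow, one_pow]
    · exact Subgroup.orderOf_mk _ hsqO ▸ orderOf_dvd_natCard _
  have hne : g ^ m ≠ 1 := fun h => hx1 (by rw [← hmk, h, map_one])
  have ht : orderOf (g ^ m) = 2 := orderOf_eq_prime hsq hne
  have hz : Nat.card (zpowers (g ^ m)) = 2 := by rw [Nat.card_zpowers, ht]
  have heq : centralizer ({QuotientGroup.mk' (Cfsg.oddCore G) g} : Set (G ⧸ Cfsg.oddCore G)) =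
      (centralizer ((zpowers (g ^ m) : Subgroup G) : Set G)).map (QuotientGroup.mk' (Cfsg.oddCore G)) := by
    rw [← Grp.QuotNorm.centralizer_map (Cfsg.oddCore G) (zpowers (g ^ m))
      (by rw [hz]; exact Nat.coprime_two_right.2 hodd) (Or.inl (Cfsg.Agent.S0205.result hodd)),
      MonoidHom.map_zpowers, hmk, zpowers_eq_closure, centralizer_closure]
  rw [heq]
  exact Grp.isSolvable_map (isSolvable_of_le (centralizer_le (Set.singleton_subset_iff.2 (mem_zpowers _)))
    (hsol _ ht)) _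

/-- Statement S3188, given S0483. -/
theorem abelian_sylow_solvable_centralizers (hGW : GWStatement.{u}) (S : Sylow 2 G)
    (hS : IsMulCommutative (S : Subgroup G))
    (hC : ∀ t : G, orderOf t = 2 → Group.IsSolvable ↥(centralizer ({t} : Set G))) :
    Group.IsSolvable G ∨
      ∃ (F : Type) (_ : Field F) (_ : Fintype F),
        (((Fintype.card F % 8 = 3 ∨ Fintype.card F % 8 = 5) ∧ 5 ≤ Fintype.card F) ∨
          (∃ n : ℕ, 2 ≤ n ∧ Fintype.card F = 2 ^ n)) ∧
        ∃ N : Subgroup (G ⧸ Cfsg.oddCore G), N.Normal ∧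
          Nonempty (↥N ≃* Matrix.ProjectiveSpecialLinearGroup (Fin 2) F) ∧
          centralizer (N : Set (G ⧸ Cfsg.oddCore G)) = ⊥ := by
  haveI : Fact (Nat.Prime 2) := ⟨Nat.prime_two⟩
  haveI hn : (Cfsg.oddCore G).Normal := Grp.pPrimeCore_isNormal
  have hf := QuotientGroup.mk'_surjective (Cfsg.oddCore G)
  by_cases hQ : Group.IsSolvable (G ⧸ Cfsg.oddCore G)
  · left
    haveI : Group.IsSolvable (Cfsg.oddCore G) :=
      Cfsg.Agent.S0205.result (Nat.coprime_two_right.1 Grp.pPrimeCore_coprime)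
    exact (Group.isSolvable_iff_subgroup_quotient (Cfsg.oddCore G)).2 ⟨inferInstance, hQ⟩
  right
  have hOQ : Cfsg.pPrimeCore 2 (G ⧸ Cfsg.oddCore G) = ⊥ := Grp.pPrimeCore_quotient_eq_bot
  have hTc := mapSurjective_comm hS hf
  have hCQ := centralizer_quotient_solvable hC
  obtain ⟨M, hMn, hMs, hMc, hMC⟩ :=
    exists_simple_socle hQ (radical_eq_bot hOQ hQ _ hTc hCQ) hCQ
  haveI := hMs
  obtain ⟨T⟩ : Nonempty (Sylow 2 M) := inferInstance
  have hT : IsMulCommutative (T : Subgroup M) := by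
    have h := pGroup_comm hTc (T.isPGroup'.map M.subtype)
    exact ⟨⟨fun a b => ((T : Subgroup M).equivMapOfInjective _ M.subtype_injective).injective
      (by rw [map_mul, map_mul]; exact h.is_comm.comm _ _)⟩⟩
  have hsolM : ∀ t : M, orderOf t = 2 → Group.IsSolvable ↥(centralizer ({t} : Set M)) := by
    intro t ht
    have h1 : (centralizer ({t} : Set M)).map M.subtype ≤ centralizer ({(t : G ⧸ Cfsg.oddCore G)} : Set _) := by
      rintro _ ⟨c, hc, rfl⟩
      exact mem_centralizer_singleton_iff.2 (congrArg Subtype.val (mem_centralizer_singleton_iff.1 hc))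
    haveI := isSolvable_of_le h1 (hCQ _ (by rw [Subgroup.orderOf_coe, ht]))
    exact Group.isSolvable_of_isSolvable_injective
      (f := ((centralizer ({t} : Set M)).equivMapOfInjective _ M.subtype_injective).toMonoidHom)
      (MulEquiv.injective _)
  obtain ⟨F, i1, i2, hq, he⟩ := simple_abelian_sylow hGW hMc T hT hsolM
  exact ⟨F, i1, i2, hq, M, hMn, he, hMC⟩

end Reduction

end Cfsg.Agent.Invol.GW
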