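import Cfsg.Agent.Lib.Invol.GW.Reduce
import Cfsg.Agent.Lib.Invol.BrauerSuzuki
import Cfsg.Agent.Lib.Block.CpQuot.Basic
import Cfsg.Agent.Lib.Classical.SLGroup
import Cfsg.Agent.Lib.Classical.SLNormal
import Cfsg.Agent.S2117
import Cfsg.Agent.S2118

/-!
# Consequences of the classification of groups with dihedral Sylow 2-subgroups: common tools

The classification itself is taken as a hypothesis `GWStatement` (the type of statement S0483).
-/

set_option autoImplicit false

open scoped commutatorElement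

namespace Cfsg.Agent.Invol.GW

open Subgroup

universe u v

/-- The type of statement S0483, in one universe. -/
def GWStatement : Prop :=
  ∀ {X : Type u} [Group X] [Finite X] [Group.IsPerfect X] (S : Sylow 2 X) (n : ℕ), 2 ≤ n →
    Nonempty ((S : Subgroup X) ≃* DihedralGroup n) →
    (∃ (F : Type) (_ : Field F) (_ : Fintype F), Odd (Fintype.card F) ∧ 3 < Fintype.card F ∧
        Nonempty (X ⧸ Cfsg.oddCore X ≃* Matrix.ProjectiveSpecialLinearGroup (Fin 2) F)) ∨
      Nonempty (X ⧸ Cfsg.oddCore X ≃* alternatingGroup (Fin 7))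

theorem twoRankOne_of_pRankLE {G : Type u} [Group G] (h : Cfsg.PRankLE 2 1 G) : BS.TwoRankOne G := by
  refine BS.twoRankOne_of_no_klein fun E hE => ?_
  haveI := hE
  have h1 := h E ⟨⟨fun a b => mul_comm_of_exponent_two IsKleinFour.exponent_two a b⟩⟩ fun a ha => by
    have h2 := Monoid.pow_exponent_eq_one (⟨a, ha⟩ : E)
    rw [IsKleinFour.exponent_two] at h2
    exact congrArg Subtype.val h2
  rw [IsKleinFour.card_four] at h1
  norm_num at h1

/-- The generalized quaternion group modulo its centre. -/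
def quatToDihedral (m : ℕ) : QuaternionGroup m →* DihedralGroup m where
  toFun
    | QuaternionGroup.a i => DihedralGroup.r (ZMod.castHom (Dvd.intro_left _ rfl : m ∣ 2 * m) (ZMod m) i)
    | QuaternionGroup.xa i => DihedralGroup.sr (ZMod.castHom (Dvd.intro_left _ rfl : m ∣ 2 * m) (ZMod m) i)
  map_one' := by
    show DihedralGroup.r (ZMod.castHom (Dvd.intro_left _ rfl : m ∣ 2 * m) (ZMod m) 0) = 1
    rw [map_zero]; rfl
  map_mul' := by
    rintro (i | i) (j | j) <;>
      simp [QuaternionGroup.a_mul_a, QuaternionGroup.a_mul_xa, QuaternionGroup.xa_mul_a,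
        QuaternionGroup.xa_mul_xa, DihedralGroup.r_mul_r, DihedralGroup.r_mul_sr, DihedralGroup.sr_mul_r,
        DihedralGroup.sr_mul_sr]

theorem quatToDihedral_surjective (m : ℕ) : Function.Surjective (quatToDihedral m) := by
  rintro (i | i)
  · obtain ⟨j, hj⟩ := ZMod.castHom_surjective (Dvd.intro_left _ rfl : m ∣ 2 * m) i
    exact ⟨QuaternionGroup.a j, congrArg DihedralGroup.r hj⟩
  · obtain ⟨j, hj⟩ := ZMod.castHom_surjective (Dvd.intro_left _ rfl : m ∣ 2 * m) i
    exact ⟨QuaternionGroup.xa j, congrArg DihedralGroup.sr hj⟩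

/-- A quaternion group modulo a normal subgroup of order two is dihedral. -/
theorem quotient_two_dihedral {T : Type u} [Group T] [Finite T] {m : ℕ} [NeZero m]
    (e : T ≃* QuaternionGroup m) (N : Subgroup T) [N.Normal] (hN : Nat.card N = 2) :
    Nonempty (T ⧸ N ≃* DihedralGroup m) := by
  let f : T →* DihedralGroup m := (quatToDihedral m).comp e.toMonoidHom
  have hf : Function.Surjective f := (quatToDihedral_surjective m).comp e.surjective
  have hcard : Nat.card f.ker = 2 := by
    have h := f.ker.card_eq_card_quotient_mul_card_subgroup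
    rw [Nat.card_congr (QuotientGroup.quotientKerEquivOfSurjective f hf).toEquiv, DihedralGroup.nat_card,
      Nat.card_congr e.toEquiv, Nat.card_eq_fintype_card (α := QuaternionGroup m), QuaternionGroup.card] at h
    have hm : 0 < m := Nat.pos_of_ne_zero (NeZero.ne m)
    nlinarith
  have hle : N ≤ f.ker := by
    intro x hx
    by_cases hx1 : x = 1
    · rw [hx1]; exact one_mem _
    obtain ⟨y, hy, hy1⟩ := (Subgroup.bot_or_exists_ne_one f.ker).resolve_left fun h => by
      rw [h, Subgroup.card_bot] at hcard; omega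
    have sq : ∀ {M : Subgroup T}, Nat.card M = 2 → ∀ g ∈ M, (e g) ^ 2 = 1 := fun {M} hM g hg => by
      have h2 := congrArg Subtype.val (pow_card_eq_one' (x := (⟨g, hg⟩ : M)))
      rw [hM, SubgroupClass.coe_pow, OneMemClass.coe_one] at h2
      rw [← map_pow, h2, map_one]
    rcases BS.quaternion_sq_one (sq hN x hx) with h | h
    · exact absurd (e.injective (h.trans (map_one e).symm)) hx1
    rcases BS.quaternion_sq_one (sq hcard y hy) with h' | h'
    · exact absurd (e.injective (h'.trans (map_one e).symm)) hy1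
    rwa [e.injective (h.trans h'.symm)]
  have heq : N = f.ker := Subgroup.eq_of_le_of_card_ge hle (by rw [hN, hcard])
  exact ⟨(QuotientGroup.quotientMulEquivOfEq heq).trans (QuotientGroup.quotientKerEquivOfSurjective f hf)⟩

/-- A Sylow subgroup maps isomorphically modulo a normal subgroup of coprime order. -/
theorem sylow_mapSurjective_equiv {X : Type u} [Group X] [Finite X] {p : ℕ} [Fact p.Prime] (S : Sylow p X)
    (N : Subgroup X) [N.Normal] (hN : (Nat.card N).Coprime p) :
    Nonempty (↥(S : Subgroup X) ≃*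
      ↥((S.mapSurjective (QuotientGroup.mk'_surjective N) : Sylow p (X ⧸ N)) : Subgroup (X ⧸ N))) := by
  let π := QuotientGroup.mk' N
  have hinj : Function.Injective (π.comp (S : Subgroup X).subtype) := by
    rw [← MonoidHom.ker_eq_bot_iff, eq_bot_iff]
    intro x hx
    rw [MonoidHom.mem_ker, MonoidHom.comp_apply] at hx
    have h1 : (x : X) ∈ N := (QuotientGroup.eq_one_iff _).1 hx
    obtain ⟨k, hk⟩ := IsPGroup.iff_orderOf.1 S.isPGroup' x
    rw [Subgroup.mem_bot, ← orderOf_eq_one_iff]
    refine Nat.eq_one_of_dvd_coprimes (hN.pow_right k) ?_ hk.dvd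
    rw [← Subgroup.orderOf_coe]
    exact Subgroup.orderOf_dvd_natCard _ h1
  refine ⟨(MonoidHom.ofInjective hinj).trans (MulEquiv.subgroupCongr ?_)⟩
  rw [MonoidHom.range_comp, Subgroup.range_subtype]
  rfl

/-- The derived group of a central extension of a perfect group is perfect. -/
theorem commutator_perfect_of_central {H : Type u} {Q : Type v} [Group H] [Group Q] (f : H →* Q)
    (hf : Function.Surjective f) (hc : f.ker ≤ center H) (hQ : commutator Q = ⊤) :
    commutator ↥(commutator H) = ⊤ := by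
  have hmap : (commutator H).map f = ⊤ := by
    rw [_root_.commutator_def, Subgroup.map_commutator, Subgroup.map_top_of_surjective f hf,
      ← _root_.commutator_def, hQ]
  have hsplit : ∀ h : H, ∃ c ∈ commutator H, ∃ z ∈ center H, h = c * z := fun h => by
    obtain ⟨c, hcm, hcf⟩ := Subgroup.mem_map.1 (hmap ▸ Subgroup.mem_top (f h) : f h ∈ (commutator H).map f)
    exact ⟨c, hcm, c⁻¹ * h, hc (by rw [MonoidHom.mem_ker, map_mul, map_inv, hcf, inv_mul_cancel]),
      (mul_inv_cancel_left c h).symm⟩
  refine Subgroup.map_injective (commutator H).subtype_injective ?_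
  rw [Subgroup.map_subtype_commutator, ← MonoidHom.range_eq_map, Subgroup.range_subtype]
  refine le_antisymm (Subgroup.commutator_le.2 fun a ha b hb =>
    Subgroup.commutator_mem_commutator (Subgroup.mem_top a) (Subgroup.mem_top b)) ?_
  conv_lhs => rw [_root_.commutator_def]
  refine Subgroup.commutator_le.2 fun a _ b _ => ?_
  obtain ⟨c, hcm, z, hz, rfl⟩ := hsplit a
  obtain ⟨d, hd, w, hw, rfl⟩ := hsplit b
  have h1 : ⁅c * z, d * w⁆ = ⁅c, d⁆ := by
    have hz' := Subgroup.mem_center_iff.1 hz
    have hw' := Subgroup.mem_center_iff.1 hw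
    simp only [commutatorElement_def, mul_inv_rev]
    calc c * z * (d * w) * (z⁻¹ * c⁻¹) * (w⁻¹ * d⁻¹)
        = c * (z * (d * w)) * z⁻¹ * c⁻¹ * (w⁻¹ * d⁻¹) := by group
      _ = c * (d * w) * c⁻¹ * (w⁻¹ * d⁻¹) := by rw [← hz' (d * w)]; group
      _ = c * d * (w * c⁻¹) * w⁻¹ * d⁻¹ := by group
      _ = c * d * c⁻¹ * d⁻¹ := by rw [← hw' c⁻¹]; group
  rw [h1]
  exact Subgroup.commutator_mem_commutator hcm hd

theorem SLTwo_perfect {F : Type} [Field F] [Fintype F] (h : 3 < Fintype.card F) :
    commutator (Matrix.SpecialLinearGroup (Fin 2) F) = ⊤ := by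
  classical
  refine Classical.SL_commutator_eq_top fun _ => ?_
  by_contra hne
  push Not at hne
  have hsub : (Finset.univ : Finset F) ⊆ {0, 1, -1} := fun x _ => by
    simp only [Finset.mem_insert, Finset.mem_singleton]
    exact (em (x = 0)).imp id fun hx => sq_eq_one_iff.1 (hne x hx)
  have := (Finset.card_le_card hsub).trans Finset.card_le_three
  rw [Finset.card_univ] at this
  omega

theorem card_center_SLTwo {F : Type} [Field F] [Fintype F] (hodd : Odd (Fintype.card F)) :
    Nat.card (center (Matrix.SpecialLinearGroup (Fin 2) F)) = 2 := by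
  rw [Classical.natCard_center_SL, Nat.card_units, Nat.card_eq_fintype_card, show max 2 1 = 2 from rfl]
  obtain ⟨k, hk⟩ := hodd
  exact Nat.gcd_eq_left ⟨k, by omega⟩

/-- The only perfect double cover of `PSL₂(q)` is `SL₂(q)`. -/
theorem iso_SLTwo {Y : Type u} [Group Y] [Finite Y] (hp : commutator Y = ⊤) {F : Type} [Field F] [Fintype F]
    (hodd : Odd (Fintype.card F)) (h3 : 3 < Fintype.card F)
    (σ : Y →* Matrix.ProjectiveSpecialLinearGroup (Fin 2) F) (hσ : Function.Surjective σ)
    (hc : σ.ker ≤ center Y) (hk : Nat.card σ.ker = 2) :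
    Nonempty (Y ≃* Matrix.SpecialLinearGroup (Fin 2) F) := by
  haveI : Small.{0} Y := inferInstance
  let τ : Matrix.SpecialLinearGroup (Fin 2) F →* Matrix.ProjectiveSpecialLinearGroup (Fin 2) F :=
    QuotientGroup.mk' _
  have hτ : Function.Surjective τ := QuotientGroup.mk'_surjective _
  have hτk : τ.ker = center _ := QuotientGroup.ker_mk' _
  have hS := SLTwo_perfect h3
  let H : Subgroup (Y × Matrix.SpecialLinearGroup (Fin 2) F) :=
    (σ.comp (MonoidHom.fst _ _)).eqLocus (τ.comp (MonoidHom.snd _ _))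
  have hH : ∀ q : H, σ q.1.1 = τ q.1.2 := fun q => q.2
  let π₂ : H →* Matrix.SpecialLinearGroup (Fin 2) F := (MonoidHom.snd _ _).comp H.subtype
  let π₁ : H →* Y := (MonoidHom.fst _ _).comp H.subtype
  have hπ₂ : Function.Surjective π₂ := fun b => by
    obtain ⟨a, ha⟩ := hσ (τ b)
    exact ⟨⟨(a, b), ha⟩, rfl⟩
  have hπ₁ : Function.Surjective π₁ := fun a => by
    obtain ⟨b, hb⟩ := hτ (σ a)
    exact ⟨⟨(a, b), hb.symm⟩, rfl⟩
  have hπc : π₂.ker ≤ center H := by
    intro q hq
    have hq2 : q.1.2 = 1 := hq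
    have hq1 : q.1.1 ∈ σ.ker := by rw [MonoidHom.mem_ker, hH q, hq2, map_one]
    refine Subgroup.mem_center_iff.2 fun r => Subtype.ext (Prod.ext ?_ ?_)
    · exact Subgroup.mem_center_iff.1 (hc hq1) r.1.1
    · show r.1.2 * q.1.2 = q.1.2 * r.1.2
      rw [hq2, one_mul, mul_one]
  have hPp : commutator ↥(commutator H) = ⊤ := commutator_perfect_of_central π₂ hπ₂ hπc hS
  let ρ : ↥(commutator H) →* Matrix.SpecialLinearGroup (Fin 2) F := π₂.comp (commutator H).subtype
  have hρr : ∀ {Z : Type u} [Group Z] (f : H →* Z), Function.Surjective f → commutator Z = ⊤ →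
      Function.Surjective (f.comp (commutator H).subtype) := fun {Z} _ f hf hZ => by
    rw [← MonoidHom.range_eq_top, MonoidHom.range_comp, Subgroup.range_subtype, _root_.commutator_def,
      Subgroup.map_commutator, Subgroup.map_top_of_surjective f hf, ← _root_.commutator_def, hZ]
  have hρ : Function.Surjective ρ := by
    rw [← MonoidHom.range_eq_top, MonoidHom.range_comp, Subgroup.range_subtype, _root_.commutator_def,
      Subgroup.map_commutator, Subgroup.map_top_of_surjective π₂ hπ₂, ← _root_.commutator_def, hS]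
  have hρc : ρ.ker ≤ center ↥(commutator H) := fun x hx =>
    Subgroup.mem_center_iff.2 fun y => Subtype.ext (Subgroup.mem_center_iff.1 (hπc hx) (y : H))
  have h4 : Fintype.card F ≠ 4 := fun h => by rw [h] at hodd; exact absurd hodd (by decide)
  have hd2 : Nat.card ρ.ker ∣ 2 := by
    refine (?_ : Nat.card ρ.ker ∣ Nat.card σ.ker).trans hk.dvd
    let ι : ρ.ker →* σ.ker :=
      ((π₁.comp (commutator H).subtype).comp ρ.ker.subtype).codRestrict σ.ker fun x => by
        have hx : (x.1.1).1.2 = 1 := x.2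
        rw [MonoidHom.mem_ker]
        show σ (x.1.1).1.1 = 1
        rw [hH, hx, map_one]
    refine Subgroup.card_dvd_of_injective ι fun x y h => ?_
    have h1 : (x.1.1).1.1 = (y.1.1).1.1 := congrArg Subtype.val h
    have hx : (x.1.1).1.2 = 1 := x.2
    have hy : (y.1.1).1.2 = 1 := y.2
    exact Subtype.ext (Subtype.ext (Subtype.ext (Prod.ext h1 (hx.trans hy.symm))))
  have hd1 : Nat.card ρ.ker = 1 := by
    by_cases h9 : Fintype.card F = 9
    · have h := Block.CpQuot.card_ker_dvd (S2118.result h9) ρ hρ hρc ⟨hPp⟩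
      rw [Nat.card_congr Multiplicative.toAdd, Nat.card_zmod] at h
      exact Nat.eq_one_of_dvd_coprimes (by norm_num) hd2 h
    · have h := Block.CpQuot.card_ker_dvd (S2117.result h4 h9) ρ hρ hρc ⟨hPp⟩
      rw [Nat.card_congr Multiplicative.toAdd, Nat.card_zmod] at h
      exact Nat.dvd_one.1 h
  have hρinj : Function.Injective ρ := (MonoidHom.ker_eq_bot_iff ρ).1 (Subgroup.card_eq_one.1 hd1)
  let e := MulEquiv.ofBijective ρ ⟨hρinj, hρ⟩
  let g : Matrix.SpecialLinearGroup (Fin 2) F →* Y :=
    (π₁.comp (commutator H).subtype).comp e.symm.toMonoidHom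
  have hg : Function.Surjective g := (hρr π₁ hπ₁ hp).comp e.symm.surjective
  have hcard : Nat.card Y = Nat.card (Matrix.SpecialLinearGroup (Fin 2) F) := by
    rw [σ.ker.card_eq_card_quotient_mul_card_subgroup,
      Nat.card_congr (QuotientGroup.quotientKerEquivOfSurjective σ hσ).toEquiv, hk,
      τ.ker.card_eq_card_quotient_mul_card_subgroup,
      Nat.card_congr (QuotientGroup.quotientKerEquivOfSurjective τ hτ).toEquiv, hτk, card_center_SLTwo hodd]
  exact ⟨(MulEquiv.ofBijective g (hg.bijective_of_nat_card_le hcard.ge)).symm⟩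

/-- With trivial core, the quotient by a central involution again has trivial core. -/
theorem oddCore_quotient_central {Y : Type u} [Group Y] [Finite Y] (hO : Cfsg.oddCore Y = ⊥)
    (Z : Subgroup Y) [Z.Normal] (hZc : Z ≤ center Y) (hZ : Nat.card Z = 2) :
    Cfsg.oddCore (Y ⧸ Z) = ⊥ := by
  haveI : Fact (Nat.Prime 2) := ⟨Nat.prime_two⟩
  set M := Cfsg.pPrimeCore 2 (Y ⧸ Z) with hMdef
  show M = ⊥
  haveI hMn : M.Normal := Grp.pPrimeCore_isNormal
  have hodd : (Nat.card M).Coprime 2 := Grp.pPrimeCore_coprime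
  let π := QuotientGroup.mk' Z
  let K := M.comap π
  have hZK : Z ≤ K := fun x hx => by
    show π x ∈ M
    rw [show π x = 1 from (QuotientGroup.eq_one_iff x).2 hx]
    exact one_mem _
  -- every element of `K` is a central element times one of odd order
  let Z' := Z.subgroupOf K
  haveI : Z'.Normal := (inferInstance : Z.Normal).subgroupOf K
  have hZ'card : Nat.card Z' = 2 := by rw [Nat.card_congr (Subgroup.subgroupOfEquivOfLe hZK).toEquiv, hZ]
  have hidx : Nat.card M = Z'.index := by
    have hker : Z' = (π.subgroupComap M).ker := by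
      ext x
      rw [MonoidHom.mem_ker, Subgroup.mem_subgroupOf, ← QuotientGroup.eq_one_iff]
      exact ⟨fun h => Subtype.ext h, fun h => congrArg Subtype.val h⟩
    rw [hker, Subgroup.index_ker]
    rw [MonoidHom.range_eq_top.2 (π.subgroupComap_surjective_of_surjective M (QuotientGroup.mk'_surjective Z)),
      Subgroup.card_top]
  obtain ⟨L, hL⟩ := Subgroup.exists_right_complement'_of_coprime (N := Z')
    (by rw [hZ'card, ← hidx]; exact hodd.symm)
  have hLcard : Nat.card L = Nat.card M := by rw [hidx]; exact hL.symm.index_eq_card.symm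
  have hLidx : L.index = 2 := by rw [hL.index_eq_card, hZ'card]
  haveI : L.Normal := Subgroup.normal_of_index_eq_two hLidx
  have hmemL : ∀ x : K, Odd (orderOf x) → x ∈ L := by
    intro x hx
    obtain ⟨k, hk⟩ := hx
    have h1 : x ^ 2 ∈ L := by
      rw [pow_two]; exact Subgroup.mul_self_mem_of_index_two hLidx x
    have h2 : x = (x ^ 2) ^ (k + 1) := by
      rw [← pow_mul, show 2 * (k + 1) = orderOf x + 1 by omega, pow_succ, pow_orderOf_eq_one, one_mul]
    rw [h2]; exact pow_mem h1 _
  have hLn : (L.map K.subtype).Normal := ⟨fun a ha g => by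
    obtain ⟨a, ha, rfl⟩ := ha
    have hK : g * (a : Y) * g⁻¹ ∈ K := (hMn.comap π).conj_mem _ a.2 g
    refine ⟨⟨g * (a : Y) * g⁻¹, hK⟩, hmemL _ ?_, rfl⟩
    rw [Subgroup.orderOf_mk, Invol.orderOf_conj_eq, Subgroup.orderOf_coe]
    exact (Nat.coprime_two_right.1 (hLcard ▸ hodd)).of_dvd_nat (Subgroup.orderOf_dvd_natCard _ ha)⟩
  have hLbot : L.map K.subtype = ⊥ := by
    refine eq_bot_iff.2 ((Grp.le_pPrimeCore hLn ?_).trans hO.le)
    rw [Subgroup.card_subtype, hLcard]
    exact hodd
  have : Nat.card M = 1 := by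
    rw [← hLcard, ← Subgroup.card_subtype, hLbot, Subgroup.card_bot]
  exact Subgroup.card_eq_one.1 this

end Cfsg.Agent.Invol.GW
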