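import Cfsg.Agent.Lib.Classical.PSLFieldAut
import Cfsg.Agent.Lib.Invol.GW.Consumers.Basic

/-!
# Involutory automorphisms of `PSL₂(q)`: those with a field part fix a four-group
-/

set_option autoImplicit false

namespace Cfsg.Agent.Invol.GW

open Matrix Cfsg.Agent.Classical Cfsg.Agent.Classical.PSLAut

variable {F : Type} [Field F] [Fintype F]

local notation "PSL₂" => Matrix.ProjectiveSpecialLinearGroup (Fin 2) F
local notation "SL₂" => Matrix.SpecialLinearGroup (Fin 2) F
local notation "π₂" => slToPSL 2 F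

/-- A pair of commuting distinct involutions fixed by `α`. -/
def FixesFour {X : Type} [Group X] (α : MulAut X) : Prop :=
  ∃ u v : X, orderOf u = 2 ∧ orderOf v = 2 ∧ u ≠ v ∧ u * v = v * u ∧ α u = u ∧ α v = v

theorem FixesFour.conj {X : Type} [Group X] {α : MulAut X} (h : FixesFour α) (δ : MulAut X) :
    FixesFour (δ * α * δ⁻¹) := by
  obtain ⟨u, v, hu, hv, hne, hc, hau, hav⟩ := h
  refine ⟨δ u, δ v, by rw [MulEquiv.orderOf_eq, hu], by rw [MulEquiv.orderOf_eq, hv],
    fun e => hne (δ.injective e), by rw [← map_mul, ← map_mul, hc], ?_, ?_⟩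
  · rw [MulAut.mul_apply, MulAut.mul_apply, MulAut.inv_apply_self, hau]
  · rw [MulAut.mul_apply, MulAut.mul_apply, MulAut.inv_apply_self, hav]

/-- A four-group fixed by every standard field automorphism. -/
theorem field_fixesFour (hodd : Odd (Fintype.card F)) (σ : RingAut F) :
    FixesFour (pslSemi (1 : GL (Fin 2) F) σ : MulAut PSL₂) := by
  obtain ⟨p, hp⟩ := CharP.exists F
  obtain ⟨n, hprime, hn⟩ := FiniteField.card F p
  haveI : Fact p.Prime := ⟨hprime⟩
  obtain ⟨a, b, hab⟩ := ZMod.sq_add_sq p (-1)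
  let c : ZMod p →+* F := ZMod.castHom dvd_rfl F
  have hσc : ∀ x, σ (c x) = c x := fun x =>
    DFunLike.congr_fun (RingHom.ext_zmod ((σ : F ≃+* F).toRingHom.comp c) c) x
  have h2 : (2 : F) ≠ 0 := by
    intro h
    have h2' : p ∣ 2 := (CharP.cast_eq_zero_iff F p 2).1 (by exact_mod_cast h)
    have hp2 : p = 2 := (Nat.prime_dvd_prime_iff_eq hprime Nat.prime_two).1 h2'
    rw [hn, hp2, Nat.odd_pow_iff n.ne_zero] at hodd
    exact absurd hodd (by decide)
  have hAB : c a ^ 2 + c b ^ 2 = -1 := by rw [← map_pow, ← map_pow, ← map_add, hab, map_neg, map_one]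
  have hne2 : ∀ x : F, x + x = 0 → x = 0 := fun x hx => by
    rcases mul_eq_zero.1 (show (2 : F) * x = 0 by linear_combination hx) with h | h
    · exact absurd h h2
    · exact h
  let w : SL₂ := ⟨!![0, -1; 1, 0], by simp [Matrix.det_fin_two_of]⟩
  let v : SL₂ := ⟨!![c a, c b; c b, -c a], by rw [Matrix.det_fin_two_of]; linear_combination -hAB⟩
  have hcen : ∀ z : SL₂, π₂ z = 1 →
      (z : Matrix (Fin 2) (Fin 2) F) 0 1 = 0 ∧ (z : Matrix (Fin 2) (Fin 2) F) 1 0 = 0 ∧
        (z : Matrix (Fin 2) (Fin 2) F) 0 0 = (z : Matrix (Fin 2) (Fin 2) F) 1 1 := by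
    intro z hz
    obtain ⟨r, hr⟩ := (slToPSL_eq_one_iff z).1 hz
    rw [hr]
    simp
  have hneg : ∀ z : SL₂, (z : Matrix (Fin 2) (Fin 2) F) = -1 → π₂ z = 1 := fun z hz =>
    (slToPSL_eq_one_iff z).2 ⟨-1, by rw [hz]; ext i j; fin_cases i <;> fin_cases j <;> simp⟩
  have hw : (π₂ w) * π₂ w = 1 := by
    rw [← map_mul]
    refine hneg _ ?_
    rw [Matrix.SpecialLinearGroup.coe_mul]
    ext i j; fin_cases i <;> fin_cases j <;> simp [w, Matrix.mul_apply, Fin.sum_univ_two]
  have hv : (π₂ v) * π₂ v = 1 := by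
    rw [← map_mul]
    refine hneg _ ?_
    rw [Matrix.SpecialLinearGroup.coe_mul]
    ext i j
    fin_cases i <;> fin_cases j <;> simp [v, Matrix.mul_apply, Fin.sum_univ_two] <;>
      first | linear_combination hAB | ring
  have hw1 : π₂ w ≠ 1 := fun h => by
    have := (hcen w h).2.1
    simp [w] at this
  have hv1 : π₂ v ≠ 1 := fun h => by
    obtain ⟨h01, -, h00⟩ := hcen v h
    simp [v] at h01 h00
    have ha := hne2 (c a) (by linear_combination h00)
    rw [ha, h01] at hAB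
    norm_num at hAB
  have hwv : π₂ w ≠ π₂ v := fun h => by
    have h' : π₂ (w * v) = 1 := by rw [map_mul, ← h, hw]
    obtain ⟨h01, -, h00⟩ := hcen _ h'
    rw [Matrix.SpecialLinearGroup.coe_mul] at h01 h00
    simp [w, v, Matrix.mul_apply, Fin.sum_univ_two] at h01 h00
    have hb := hne2 (c b) (by linear_combination -h00)
    rw [h01, hb] at hAB
    norm_num at hAB
  have hcomm : π₂ w * π₂ v = π₂ v * π₂ w := by
    have h : π₂ ((v * w)⁻¹ * (w * v)) = 1 := by
      refine hneg _ ?_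
      have e : ((w * v : SL₂) : Matrix (Fin 2) (Fin 2) F) = -((v * w : SL₂) : Matrix (Fin 2) (Fin 2) F) := by
        rw [Matrix.SpecialLinearGroup.coe_mul, Matrix.SpecialLinearGroup.coe_mul]
        ext i j; fin_cases i <;> fin_cases j <;> simp [w, v, Matrix.mul_apply, Fin.sum_univ_two]
      rw [Matrix.SpecialLinearGroup.coe_mul, e, mul_neg, ← Matrix.SpecialLinearGroup.coe_mul, inv_mul_cancel,
        Matrix.SpecialLinearGroup.coe_one]
    rw [map_mul, map_inv, inv_mul_eq_one, map_mul, map_mul] at h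
    exact h.symm
  have hfix : ∀ z : SL₂, (∀ i j, σ ((z : Matrix (Fin 2) (Fin 2) F) i j) = (z : Matrix (Fin 2) (Fin 2) F) i j) →
      (pslSemi (1 : GL (Fin 2) F) σ : MulAut PSL₂) (π₂ z) = π₂ z := fun z hz => by
    rw [pslSemi_mk]
    refine congrArg _ (Subtype.ext ?_)
    rw [slSemi_coe, inv_one, Units.val_one, Matrix.one_mul, Matrix.mul_one]
    exact Matrix.ext hz
  refine ⟨π₂ w, π₂ v, orderOf_eq_prime (by rw [pow_two, hw]) hw1, orderOf_eq_prime (by rw [pow_two, hv]) hv1,
    hwv, hcomm, hfix w fun i j => ?_, hfix v fun i j => ?_⟩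
  · fin_cases i <;> fin_cases j <;> simp [w]
  · fin_cases i <;> fin_cases j <;> simp [v, hσc]

/-- An involutory automorphism is inner-diagonal or fixes a four-group. -/
theorem involution_inndiag_or_fixesFour (hodd : Odd (Fintype.card F)) {α : MulAut PSL₂} (hα : orderOf α = 2) :
    (∃ g : GL (Fin 2) F, α = inndiagHom 2 F g) ∨ FixesFour α := by
  obtain ⟨p, hp⟩ := CharP.exists F
  obtain ⟨n, hprime, hn⟩ := FiniteField.card F p
  haveI : Fact p.Prime := ⟨hprime⟩
  obtain ⟨g, σ, ε, -, hε, hrep⟩ := exists_rep (p := p) (le_refl 2) α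
  rw [hε rfl, pow_zero, mul_one] at hrep
  by_cases hσ : σ = 1
  · exact Or.inl ⟨g, by rw [hrep, hσ]; rfl⟩
  · obtain ⟨-, y, hy⟩ := exists_conj_field le_rfl Nat.prime_two hσ (hrep ▸ hα)
    rw [hrep, hy]
    exact Or.inr ((field_fixesFour hodd σ).conj _)

end Cfsg.Agent.Invol.GW
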