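import Cfsg.Agent.Lib.Invol.GW.Consumers.AbelianSylow
import Cfsg.Agent.Lib.Transfer.SmallTwoSylow
import Cfsg.Agent.Lib.Transfer.HallCounter
import Cfsg.Agent.Lib.Transfer.SizesPSL.PSLFacts
import Cfsg.Agent.Lib.Grp.Hall
import Cfsg.Agent.S0804

/-!
# Hall numbers (for S4044), given S0483

A group in which 12, 24 or 60 is an exact divisor of the order has a subgroup of that order.
-/

set_option autoImplicit false
set_option linter.style.haveILetI false

namespace Cfsg.Agent.Invol.GW.HallNumbers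

open Subgroup Transfer.SmallTwo

universe u

variable {G : Type u} [Group G] [Finite G]

/-- A solvable subgroup whose order is divisible by a Hall number contains a subgroup of that order. -/
theorem hall_of_le (K : Subgroup G) (hK : Group.IsSolvable K) {m i : ℕ} (hn : Nat.card G = m * i)
    (hcop : m.Coprime i) (hd : m ∣ Nat.card K) : ∃ H : Subgroup G, Nat.card H = m := by
  haveI := hK
  obtain ⟨j, hj⟩ := hd
  have hm : 0 < m := Nat.pos_of_ne_zero fun e => (Nat.card_pos (α := K)).ne' (by rw [hj, e, zero_mul])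
  have hji : j ∣ i := by
    have h := Subgroup.card_subgroup_dvd_card K
    rw [hj, hn] at h
    exact (Nat.mul_dvd_mul_iff_left hm).1 h
  obtain ⟨H, hH⟩ := Grp.exists_hall hj (hcop.coprime_dvd_right hji)
  exact ⟨H.map K.subtype, by rw [Subgroup.card_map_of_injective K.subtype_injective, hH]⟩

/-- The preimage version. -/
theorem hall_of_quotient (O : Subgroup G) [O.Normal] (hO : Group.IsSolvable O) (K : Subgroup (G ⧸ O))
    (hK : Group.IsSolvable K) {m i : ℕ} (hn : Nat.card G = m * i) (hcop : m.Coprime i)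
    (hd : m ∣ Nat.card O * Nat.card K) : ∃ H : Subgroup G, Nat.card H = m := by
  haveI := hO
  haveI := hK
  have hOX : O ≤ K.comap (QuotientGroup.mk' O) := fun x hx => by
    rw [mem_comap, show QuotientGroup.mk' O x = 1 from (QuotientGroup.eq_one_iff x).2 hx]
    exact one_mem K
  refine hall_of_le (K.comap (QuotientGroup.mk' O)) ?_ hn hcop ?_
  · exact Group.isSolvable_of_ker_le_range (inclusion hOX) ((QuotientGroup.mk' O).subgroupComap K)
      fun x hx => ⟨⟨x, (QuotientGroup.eq_one_iff (x : G)).1 (congrArg Subtype.val hx)⟩, rfl⟩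
  · have h1 := Subgroup.card_mul_index (K.comap (QuotientGroup.mk' O))
    rw [Subgroup.index_comap_of_surjective _ (QuotientGroup.mk'_surjective O)] at h1
    have h2 := Subgroup.card_mul_index K
    have h3 := Subgroup.card_eq_card_quotient_mul_card_subgroup O
    have e : Nat.card (K.comap (QuotientGroup.mk' O)) = Nat.card O * Nat.card K := by
      refine Nat.eq_of_mul_eq_mul_right (Nat.pos_of_ne_zero (Subgroup.index_ne_zero_of_finite (H := K))) ?_
      rw [h1, h3, ← h2]; ring
    rwa [e]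

/-- An exact divisor 12. -/
theorem twelve {i : ℕ} (hn : Nat.card G = 12 * i) (hcop : (12 : ℕ).Coprime i) :
    ∃ H : Subgroup G, Nat.card H = 12 := by
  haveI : Fact (Nat.Prime 2) := ⟨Nat.prime_two⟩
  have hi2 : ¬ 2 ∣ i := fun h => by have := Nat.not_coprime_of_dvd_of_dvd (by norm_num) (by norm_num : (2 : ℕ) ∣ 12) h; exact this hcop
  by_cases hs : Group.IsSolvable G
  · haveI := hs
    exact Grp.exists_hall hn hcop
  obtain ⟨T⟩ : Nonempty (Sylow 2 G) := inferInstance
  obtain ⟨hT, h3, -⟩ := sylow_four_facts hs (by rw [hn]; omega) (by rw [hn]; omega) T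
  refine hall_of_le _ (normalizer_four_solvable hT (by rw [hn]; omega)) hn hcop ?_
  exact Nat.Coprime.mul_dvd_of_dvd_of_dvd (by norm_num : Nat.Coprime 4 3)
    (hT ▸ Subgroup.card_dvd_of_le le_normalizer) h3

/-- The order of `PSL₂` in characteristic two. -/
theorem card_psl_two_pow {F : Type} [Field F] [Fintype F] (heven : Even (Fintype.card F)) :
    Nat.card (Matrix.ProjectiveSpecialLinearGroup (Fin 2) F) =
      Fintype.card F * ((Fintype.card F - 1) * (Fintype.card F + 1)) := by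
  classical
  have h := Classical.natCard_PSL_mul (F := F) 2 (by norm_num)
  rw [Fus.PSLTwo.natCard_SL_two, Nat.card_units, Nat.card_eq_fintype_card (α := F)] at h
  have h1 : 0 < Fintype.card F := Fintype.card_pos
  rwa [show Nat.gcd 2 (Fintype.card F - 1) = 1 from (Nat.coprime_two_left.2 (by
    obtain ⟨k, hk⟩ := heven; exact ⟨k - 1, by omega⟩)), one_mul] at h

/-- For `q ≡ 3, 5 (mod 8)` eight does not divide the order. -/
theorem not_eight_dvd {F : Type} [Field F] [Fintype F] (h : Fintype.card F % 8 = 3 ∨ Fintype.card F % 8 = 5) :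
    ¬ 8 ∣ Nat.card (Matrix.ProjectiveSpecialLinearGroup (Fin 2) F) := by
  intro h8
  have hodd : Odd (Fintype.card F) := Nat.odd_iff.2 (by omega)
  have hc := Klein.PSL.card_mul (F := F) hodd
  have h16 : 16 ∣ Fintype.card F * ((Fintype.card F - 1) * (Fintype.card F + 1)) :=
    hc ▸ Nat.mul_dvd_mul_left 2 h8
  obtain ⟨c, hq⟩ : ∃ c, Fintype.card F = 8 * c + 3 ∨ Fintype.card F = 8 * c + 5 :=
    ⟨Fintype.card F / 8, by omega⟩
  have h16' := (Nat.Coprime.dvd_of_dvd_mul_left (Nat.Coprime.pow_left 4 (Nat.coprime_two_left.2 hodd)) h16)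
  rcases hq with hq | hq
  · rw [hq, show (8 * c + 3 - 1) * (8 * c + 3 + 1) = 16 * (4 * c * c + 3 * c) + 8 by
      rw [show 8 * c + 3 - 1 = 8 * c + 2 by omega]; ring, show (2 : ℕ) ^ 4 = 16 by norm_num] at h16'
    omega
  · rw [hq, show (8 * c + 5 - 1) * (8 * c + 5 + 1) = 16 * (4 * c * c + 5 * c + 1) + 8 by
      rw [show 8 * c + 5 - 1 = 8 * c + 4 by omega]; ring, show (2 : ℕ) ^ 4 = 16 by norm_num] at h16'
    omega

/-- A copy of `PSL₂(q)`, `q ≥ 4`, is not solvable. -/
theorem psl_not_solvable {F : Type} [Field F] [Fintype F] (h4 : 4 ≤ Fintype.card F) {L : Type u} [Group L]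
    (f : L ≃* Matrix.ProjectiveSpecialLinearGroup (Fin 2) F) : ¬ Group.IsSolvable L := by
  intro hs
  haveI := hs
  haveI : Group.IsSolvable (Matrix.ProjectiveSpecialLinearGroup (Fin 2) F) :=
    Group.isSolvable_of_surjective (f := f.toMonoidHom) f.surjective
  haveI : IsSimpleGroup (Matrix.ProjectiveSpecialLinearGroup (Fin 2) F) :=
    Classical.PSL_isSimple le_rfl fun _ => h4
  have h1 : commutator (Matrix.ProjectiveSpecialLinearGroup (Fin 2) F) = ⊥ := by
    rw [commutator_def, eq_bot_iff, commutator_le]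
    intro a _ b _
    rw [mem_bot, commutatorElement_eq_one_iff_mul_comm]
    exact IsSimpleGroup.comm_iff_isSolvable.2 inferInstance a b
  rw [Transfer.SizesPSL.psl_commutator_eq_top h4] at h1
  exact top_ne_bot h1

/-- A mover of order four or the whole Sylow subgroup. -/
theorem mover_cases {T : Sylow 2 G} (hT : Nat.card (T : Subgroup G) = 8) {Q : Subgroup G}
    (hQT : Q ≤ (T : Subgroup G)) : Nat.card Q ∣ 4 ∨ Q = (T : Subgroup G) := by
  haveI : Fact (Nat.Prime 2) := ⟨Nat.prime_two⟩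
  obtain ⟨j, hj⟩ := IsPGroup.iff_card.1 (T.isPGroup'.to_le hQT)
  rcases Nat.lt_or_ge j 3 with h | h
  · exact Or.inl (hj ▸ (show 2 ^ j ∣ 2 ^ 2 from Nat.pow_dvd_pow 2 (by omega)))
  · refine Or.inr (eq_of_le_of_card_ge hQT ?_)
    rw [hT, hj]
    exact le_trans (by norm_num) (Nat.pow_le_pow_right two_pos h)

/-- An exact divisor 24. -/
theorem twentyfour (hGW : GWStatement.{u}) {i : ℕ} (hn : Nat.card G = 24 * i) (hcop : (24 : ℕ).Coprime i) :
    ∃ H : Subgroup G, Nat.card H = 24 := by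
  haveI : Fact (Nat.Prime 2) := ⟨Nat.prime_two⟩
  have hi2 : ¬ 2 ∣ i := fun h => Nat.not_coprime_of_dvd_of_dvd (by norm_num) (by norm_num : (2 : ℕ) ∣ 24) h hcop
  have hi3 : ¬ 3 ∣ i := fun h => Nat.not_coprime_of_dvd_of_dvd (by norm_num) (by norm_num : (3 : ℕ) ∣ 24) h hcop
  by_cases hs : Group.IsSolvable G
  · haveI := hs
    exact Grp.exists_hall hn hcop
  have h8 : 8 ∣ Nat.card G := ⟨3 * i, by rw [hn]; ring⟩
  have h16 : ¬ 16 ∣ Nat.card G := by rw [hn]; omega
  by_cases hA : ∃ Q : Subgroup G, Nat.card Q = 4 ∧ 3 ∣ Nat.card ↥(normalizer (Q : Set G))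
  · obtain ⟨Q, hQ, h3⟩ := hA
    exact hall_of_le _ (normalizer_four_solvable hQ h16) hn hcop
      (Nat.Coprime.mul_dvd_of_dvd_of_dvd (by norm_num : Nat.Coprime 8 3) (eight_dvd_normalizer hQ h8 h16) h3)
  by_cases hB : ∃ T : Sylow 2 G, 3 ∣ Nat.card ↥(normalizer ((T : Subgroup G) : Set G))
  · obtain ⟨T, h3⟩ := hB
    exact exists_twentyfour (sylow_card (k := 3) T h8 h16) h3
  push Not at hA hB
  -- no element of odd order moves a small subgroup or fixes a central involution of a Sylow subgroup it moves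
  have key : ∀ (T : Sylow 2 G) (Q : Subgroup G), Q ≤ (T : Subgroup G) → ∀ g ∈ normalizer (Q : Set G),
      Odd (orderOf g) → g ∉ centralizer (Q : Set G) → Q = (T : Subgroup G) ∧
        ∀ t ∈ (T : Subgroup G), orderOf t = 2 → (∀ x ∈ (T : Subgroup G), Commute x t) → ¬ Commute g t := by
    intro T Q hQT g hg ho hgc
    have hT := sylow_card (k := 3) T h8 h16
    rcases mover_cases hT hQT with h | h
    · obtain ⟨hQ, h3⟩ := mover_facts h hg ho hgc
      exact absurd h3 (hA Q hQ)
    subst h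
    refine ⟨rfl, fun t htT ht hTt hgt => hB T ?_⟩
    have h3 := pow_three_centralizes_eight hT htT ht hTt hg hgt ho
    refine Dvd.dvd.trans ?_ ((Subgroup.orderOf_mk g hg).symm.dvd.trans (orderOf_dvd_natCard _))
    by_contra hn'
    obtain ⟨k, hk⟩ := exists_pow_eq_self_of_coprime (x := g) (n := 3) (Nat.prime_three.coprime_iff_not_dvd.2 hn')
    exact hgc (hk ▸ pow_mem h3 k)
  obtain ⟨S⟩ : Nonempty (Sylow 2 G) := inferInstance
  have hS8 : Nat.card (S : Subgroup G) = 8 := sylow_card (k := 3) S h8 h16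
  have hS : IsMulCommutative (S : Subgroup G) := by
    by_contra hna
    obtain ⟨t, htS, ht, hSt, hNt⟩ := exists_central_involution_eight hS8 hna
    obtain ⟨Q, hQS, g, hg, ho, hgc⟩ := exists_mover S hs
    obtain ⟨rfl, h⟩ := key S Q hQS g hg ho hgc
    exact h t htS ht hSt (hNt g hg)
  have hC : ∀ t : G, orderOf t = 2 → Group.IsSolvable ↥(centralizer ({t} : Set G)) := by
    intro t ht
    by_contra hns
    obtain ⟨T, hT⟩ := (IsPGroup.of_card (p := 2) (n := 1)
      (show Nat.card ↥(zpowers t) = 2 ^ 1 by rw [Nat.card_zpowers, ht, pow_one])).exists_le_sylow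
    have hTc := pGroup_comm hS T.isPGroup'
    have htT : t ∈ (T : Subgroup G) := hT (mem_zpowers t)
    have hTt : ∀ x ∈ (T : Subgroup G), Commute x t := fun x hx =>
      congrArg Subtype.val (hTc.is_comm.comm ⟨x, hx⟩ ⟨t, htT⟩)
    have hTC : (T : Subgroup G) ≤ centralizer ({t} : Set G) := fun x hx =>
      mem_centralizer_singleton_iff.2 (hTt x hx)
    obtain ⟨Q, hQT, g, hg, ho, hgc⟩ := exists_mover (T.subtype hTC) hns
    have hQT' : Q.map (centralizer ({t} : Set G)).subtype ≤ (T : Subgroup G) := by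
      rintro _ ⟨x, hx, rfl⟩
      exact hQT hx
    obtain ⟨-, h⟩ := key T _ hQT' (g : G) (le_normalizer_map _ (mem_map_of_mem _ hg))
      (by rwa [Subgroup.orderOf_coe]) fun hc => hgc (mem_centralizer_iff.2 fun x hx =>
        Subtype.ext (mem_centralizer_iff.1 hc (x : G) ⟨x, hx, rfl⟩))
    exact h t htT ht hTt (mem_centralizer_singleton_iff.1 g.2)
  rcases abelian_sylow_solvable_centralizers hGW S hS hC with h | ⟨F, i1, i2, hq, L, hLn, ⟨f⟩, -⟩
  · exact absurd h hs
  haveI hOn : (Cfsg.oddCore G).Normal := Grp.pPrimeCore_isNormal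
  have hodd : Odd (Nat.card (Cfsg.oddCore G)) := Nat.coprime_two_right.1 Grp.pPrimeCore_coprime
  have hQ := Subgroup.card_eq_card_quotient_mul_card_subgroup (Cfsg.oddCore G)
  have hdvd : Nat.card L ∣ Nat.card G :=
    (Subgroup.card_subgroup_dvd_card L).trans (Subgroup.card_quotient_dvd_card _)
  have hfc : Nat.card L = Nat.card (Matrix.ProjectiveSpecialLinearGroup (Fin 2) F) := Nat.card_congr f.toEquiv
  have h4q : 4 ≤ Fintype.card F := by
    rcases hq with ⟨-, h⟩ | ⟨n, hn2, hn'⟩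
    · omega
    · exact hn' ▸ (show 2 ^ 2 ≤ 2 ^ n from Nat.pow_le_pow_right two_pos hn2)
  have hL8 : ¬ 8 ∣ Nat.card L := by
    rcases hq with ⟨h, -⟩ | ⟨n, hn2, hn'⟩
    · exact hfc ▸ not_eight_dvd h
    · have hc := card_psl_two_pow (F := F) (by rw [hn']; exact Nat.even_pow.2 ⟨even_two, by omega⟩)
      rw [hn'] at hc
      rcases (show n = 2 ∨ n = 3 ∨ 4 ≤ n by omega) with rfl | rfl | h4
      · rw [hfc, hc]; norm_num
      · exfalso
        have h9 : 9 ∣ Nat.card G := (show 9 ∣ Nat.card L by rw [hfc, hc]; norm_num).trans hdvd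
        rw [hn] at h9
        omega
      · exfalso
        refine h16 (Dvd.dvd.trans ?_ hdvd)
        rw [hfc, hc]
        exact dvd_mul_of_dvd_left (show 2 ^ 4 ∣ 2 ^ n from Nat.pow_dvd_pow 2 h4) _
  have hLns := psl_not_solvable h4q f
  have hL4 : 4 ∣ Nat.card L := by
    by_contra h
    exact hLns (isSolvable_of_not_four h)
  obtain ⟨V⟩ : Nonempty (Sylow 2 L) := inferInstance
  obtain ⟨hV, h3, -⟩ := sylow_four_facts hLns hL4 hL8 V
  have hV' : Nat.card ((V : Subgroup L).map L.subtype) = 4 := by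
    rw [Subgroup.card_map_of_injective L.subtype_injective, hV]
  have h3' : 3 ∣ Nat.card ↥(normalizer (((V : Subgroup L).map L.subtype : Subgroup _) : Set (G ⧸ Cfsg.oddCore G))) :=
    h3.trans ((Subgroup.card_map_of_injective L.subtype_injective).symm.dvd.trans
      (Subgroup.card_dvd_of_le (le_normalizer_map L.subtype)))
  have h8Q : 8 ∣ Nat.card (G ⧸ Cfsg.oddCore G) :=
    (Nat.Coprime.pow_left 3 (Nat.coprime_two_left.2 hodd)).dvd_of_dvd_mul_right (hQ ▸ h8)
  have h16Q : ¬ 16 ∣ Nat.card (G ⧸ Cfsg.oddCore G) := fun h => h16 (hQ ▸ h.mul_right _)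
  exact hall_of_quotient (Cfsg.oddCore G) (Cfsg.Agent.S0205.result hodd) _ (normalizer_four_solvable hV' h16Q)
    hn hcop (Dvd.dvd.mul_left (Nat.Coprime.mul_dvd_of_dvd_of_dvd (by norm_num : Nat.Coprime 8 3)
      (eight_dvd_normalizer hV' h8Q h16Q) h3') _)

/-- A group of exponent two and order four is dihedral. -/
theorem dihedral_of_klein {T : Type u} [Group T] [IsKleinFour T] : Nonempty (T ≃* DihedralGroup 2) := by
  classical
  haveI : Finite T := Nat.finite_of_card_ne_zero (by rw [IsKleinFour.card_four]; norm_num)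
  obtain ⟨e⟩ : Nonempty (T ≃ DihedralGroup 2) := by
    refine ⟨(Finite.equivFin T).trans ((finCongr ?_).trans (Finite.equivFin (DihedralGroup 2)).symm)⟩
    rw [IsKleinFour.card_four, IsKleinFour.card_four]
  exact ⟨IsKleinFour.mulEquiv (e.trans (Equiv.swap (e 1) 1)) (by simp)⟩

/-- An exact divisor 60. -/
theorem sixty (hGW : GWStatement.{u}) {i : ℕ} (hn : Nat.card G = 60 * i) (hcop : (60 : ℕ).Coprime i) :
    ∃ H : Subgroup G, Nat.card H = 60 := by
  haveI : Fact (Nat.Prime 2) := ⟨Nat.prime_two⟩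
  have hi2 : ¬ 2 ∣ i := fun h => Nat.not_coprime_of_dvd_of_dvd (by norm_num) (by norm_num : (2 : ℕ) ∣ 60) h hcop
  by_cases hs : Group.IsSolvable G
  · haveI := hs
    exact Grp.exists_hall hn hcop
  have h4 : 4 ∣ Nat.card G := ⟨15 * i, by rw [hn]; ring⟩
  have h8 : ¬ 8 ∣ Nat.card G := by rw [hn]; omega
  haveI hOn : (Cfsg.oddCore G).Normal := Grp.pPrimeCore_isNormal
  have hodd : Odd (Nat.card (Cfsg.oddCore G)) := Nat.coprime_two_right.1 Grp.pPrimeCore_coprime
  have hOs : Group.IsSolvable (Cfsg.oddCore G) := Cfsg.Agent.S0205.result hodd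
  have hQ := Subgroup.card_eq_card_quotient_mul_card_subgroup (Cfsg.oddCore G)
  have hQns : ¬ Group.IsSolvable (G ⧸ Cfsg.oddCore G) := fun h =>
    hs ((Group.isSolvable_iff_subgroup_quotient (Cfsg.oddCore G)).2 ⟨hOs, h⟩)
  have h4Q : 4 ∣ Nat.card (G ⧸ Cfsg.oddCore G) :=
    (Nat.Coprime.pow_left 2 (Nat.coprime_two_left.2 hodd)).dvd_of_dvd_mul_right (hQ ▸ h4)
  have h8Q : ¬ 8 ∣ Nat.card (G ⧸ Cfsg.oddCore G) := fun h => h8 (hQ ▸ h.mul_right _)
  obtain ⟨T⟩ : Nonempty (Sylow 2 (G ⧸ Cfsg.oddCore G)) := inferInstance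
  obtain ⟨-, -, hkl⟩ := sylow_four_facts hQns h4Q h8Q T
  haveI := hkl
  obtain ⟨eT⟩ := dihedral_of_klein (T := (T : Subgroup (G ⧸ Cfsg.oddCore G)))
  obtain ⟨L, hLn, hLm, -⟩ := exists_socle hGW Grp.pPrimeCore_quotient_eq_bot hQns T eT
  haveI := hLn
  have hdvd : Nat.card L ∣ Nat.card (G ⧸ Cfsg.oddCore G) := Subgroup.card_subgroup_dvd_card L
  have hL8 : ¬ 8 ∣ Nat.card L := fun h => h8Q (h.trans hdvd)
  rcases hLm with ⟨F, hF, hFf, hFo, hF3, ⟨f⟩⟩ | ⟨⟨f⟩⟩
  swap
  · refine absurd ?_ hL8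
    rw [Nat.card_congr f.toEquiv, nat_card_alternatingGroup, Nat.card_eq_fintype_card, Fintype.card_fin]
    decide
  by_cases h5 : 5 ∣ Fintype.card F * (Fintype.card F ^ 2 - 1)
  · -- a subgroup isomorphic to A₅, and Schur–Zassenhaus
    obtain ⟨A, ⟨eA⟩⟩ := (Cfsg.Agent.S0804.result (F := F) rfl).2 h5
    obtain ⟨K, hK⟩ : ∃ K : Subgroup (G ⧸ Cfsg.oddCore G), Nat.card K = 60 := by
      refine ⟨(A.map f.symm.toMonoidHom).map L.subtype, ?_⟩
      rw [Subgroup.card_map_of_injective L.subtype_injective, Subgroup.card_map_of_injective f.symm.injective,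
        Nat.card_congr eA.toEquiv, nat_card_alternatingGroup, Nat.card_eq_fintype_card, Fintype.card_fin]
      rfl
    set X := K.comap (QuotientGroup.mk' (Cfsg.oddCore G)) with hX
    have hOX : Cfsg.oddCore G ≤ X := fun x hx => by
      rw [hX, mem_comap, show QuotientGroup.mk' (Cfsg.oddCore G) x = 1 from (QuotientGroup.eq_one_iff x).2 hx]
      exact one_mem K
    haveI : ((Cfsg.oddCore G).subgroupOf X).Normal := hOn.subgroupOf X
    have hOc : Nat.card ((Cfsg.oddCore G).subgroupOf X) = Nat.card (Cfsg.oddCore G) :=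
      Nat.card_congr (subgroupOfEquivOfLe hOX).toEquiv
    have hidx : ((Cfsg.oddCore G).subgroupOf X).index = 60 := by
      have h1 := Subgroup.card_mul_index X
      rw [hX, Subgroup.index_comap_of_surjective _ (QuotientGroup.mk'_surjective _), ← hX] at h1
      have h2 := Subgroup.card_mul_index K
      rw [hK] at h2
      have h3 := Subgroup.card_mul_index ((Cfsg.oddCore G).subgroupOf X)
      rw [hOc] at h3
      rw [← h3, hQ, ← h2] at h1
      refine Nat.eq_of_mul_eq_mul_left (Nat.card_pos (α := Cfsg.oddCore G)) ?_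
      refine Nat.eq_of_mul_eq_mul_right (Nat.pos_of_ne_zero (Subgroup.index_ne_zero_of_finite (H := K))) ?_
      rw [h1]; ring
    obtain ⟨H, hH⟩ := Subgroup.exists_right_complement'_of_coprime (N := (Cfsg.oddCore G).subgroupOf X) (by
      rw [hidx, hOc]
      refine Nat.Coprime.coprime_dvd_left ?_ hcop.symm
      have h60 : 60 * Nat.card (Cfsg.oddCore G) ∣ 60 * i := by
        rw [← hn, hQ]
        exact Nat.mul_dvd_mul_right (hK ▸ Subgroup.card_subgroup_dvd_card K) _
      exact (Nat.mul_dvd_mul_iff_left (by norm_num)).1 h60)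
    exact ⟨H.map X.subtype, by
      rw [Subgroup.card_map_of_injective X.subtype_injective, ← hH.symm.index_eq_card, hidx]⟩
  -- five outside the socle: the normalizer of a four-group
  have h4q : 4 ≤ Fintype.card F := by omega
  have hLns := psl_not_solvable h4q f
  have hL4 : 4 ∣ Nat.card L := by
    by_contra h
    exact hLns (isSolvable_of_not_four h)
  obtain ⟨V⟩ : Nonempty (Sylow 2 L) := inferInstance
  obtain ⟨hV, h3, -⟩ := sylow_four_facts hLns hL4 hL8 V
  set V' := (V : Subgroup L).map L.subtype with hV'def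
  have hV' : Nat.card V' = 4 := by rw [hV'def, Subgroup.card_map_of_injective L.subtype_injective, hV]
  have h3' : 3 ∣ Nat.card ↥(normalizer (V' : Set (G ⧸ Cfsg.oddCore G))) :=
    h3.trans ((Subgroup.card_map_of_injective L.subtype_injective).symm.dvd.trans
      (Subgroup.card_dvd_of_le (le_normalizer_map L.subtype)))
  have hfrat : Nat.card ((G ⧸ Cfsg.oddCore G) ⧸ L) ∣ Nat.card ↥(normalizer (V' : Set (G ⧸ Cfsg.oddCore G))) := by
    have htop : (normalizer (V' : Set (G ⧸ Cfsg.oddCore G))).map (QuotientGroup.mk' L) = ⊤ := by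
      rw [← Subgroup.map_top_of_surjective _ (QuotientGroup.mk'_surjective L), ← Sylow.normalizer_sup_eq_top V,
        Subgroup.map_sup, (Subgroup.map_eq_bot_iff _).2 (le_of_eq (QuotientGroup.ker_mk' L).symm), sup_bot_eq]
    rw [← Subgroup.card_top (G := (G ⧸ Cfsg.oddCore G) ⧸ L), ← htop]
    exact Subgroup.card_map_dvd _ _
  have h5L : ¬ 5 ∣ Nat.card L := fun h => h5 (by
    have hc := Klein.PSL.card_mul (F := F) hFo
    rw [← Nat.card_congr f.toEquiv] at hc
    have e : Fintype.card F ^ 2 - 1 = (Fintype.card F - 1) * (Fintype.card F + 1) := by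
      rw [mul_comm, ← Nat.sq_sub_sq, one_pow]
    rw [e, ← hc]
    exact h.mul_left 2)
  refine hall_of_quotient (Cfsg.oddCore G) hOs _ (normalizer_four_solvable hV' fun h => h8Q (Dvd.dvd.trans ⟨2, rfl⟩ h))
    hn hcop ?_
  have h5' : 5 ∣ Nat.card (Cfsg.oddCore G) * Nat.card ↥(normalizer (V' : Set (G ⧸ Cfsg.oddCore G))) := by
    have h := Subgroup.card_eq_card_quotient_mul_card_subgroup L
    have h5n : 5 ∣ Nat.card G := ⟨12 * i, by rw [hn]; ring⟩
    rw [hQ, h] at h5n
    rcases (Nat.prime_five.dvd_mul).1 h5n with h' | h'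
    · rcases (Nat.prime_five.dvd_mul).1 h' with h'' | h''
      · exact (h''.trans hfrat).mul_left _
      · exact absurd h'' h5L
    · exact h'.mul_right _
  exact Nat.Coprime.mul_dvd_of_dvd_of_dvd (by norm_num : Nat.Coprime 12 5)
    ((Nat.Coprime.mul_dvd_of_dvd_of_dvd (by norm_num : Nat.Coprime 4 3)
      (hV' ▸ Subgroup.card_dvd_of_le le_normalizer) h3').mul_left _) h5'

/-- Statement S4044, given S0483. -/
theorem hall_numbers (hGW : GWStatement.{0}) (m : ℕ) (hm : 2 ≤ m) :
    (∀ (G : Type) [Group G] [Finite G], m ∣ Nat.card G → m.Coprime (Nat.card G / m) →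
        ∃ H : Subgroup G, Nat.card H = m) ↔
    (IsPrimePow m ∨ m % 4 = 2 ∨ m = 12 ∨ m = 24 ∨ m = 60) := by
  constructor
  · intro h
    by_contra hb
    exact Transfer.HallCounter.not_hall_number hm hb h
  intro hb G _ _ hd hcop
  obtain ⟨i, hn⟩ := hd
  rw [hn, Nat.mul_div_cancel_left _ (by omega)] at hcop
  rcases hb with hpp | h4 | rfl | rfl | rfl
  · obtain ⟨p, k, hp, -, rfl⟩ := hpp
    haveI := Fact.mk hp.nat_prime
    exact Sylow.exists_subgroup_card_pow_prime p (hn ▸ Dvd.intro i rfl)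
  · haveI : Group.IsSolvable G := isSolvable_of_not_four fun h => by
      have hi : i % 2 = 1 := by
        by_contra hi
        exact Nat.not_coprime_of_dvd_of_dvd (by norm_num) (show 2 ∣ m by omega) (show 2 ∣ i by omega) hcop
      rw [hn] at h
      obtain ⟨a, rfl⟩ : ∃ a, m = 4 * a + 2 := ⟨m / 4, by omega⟩
      obtain ⟨b, rfl⟩ : ∃ b, i = 2 * b + 1 := ⟨i / 2, by omega⟩
      rw [show (4 * a + 2) * (2 * b + 1) = 4 * (2 * a * b + a + b) + 2 by ring] at h
      omega
    exact Grp.exists_hall hn hcop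
  · exact twelve hn hcop
  · exact twentyfour hGW hn hcop
  · exact sixty hGW hn hcop

end Cfsg.Agent.Invol.GW.HallNumbers
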