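import Cfsg.Agent.Lib.Invol.QuasiDihedral
import Cfsg.Agent.Lib.Invol.Wreathed

/-!
# Normal non-abelian subgroups of quasi-dihedral and wreathed 2-groups

Such a subgroup contains the derived group, its centraliser is central, and a few consequences used for groups whose
involution centralisers are almost covers of `PSL₂(q)`.
-/

set_option autoImplicit false

open scoped commutatorElement

namespace Cfsg.Agent.Invol.GW

universe u

variable {S : Type u} [Group S]

theorem qd_commutator_le {n : ℕ} {x y : S} (h : Invol.QD S n x y) :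
    commutator S ≤ Subgroup.zpowers (x ^ (2 : ℤ)) := by
  have hmem : ∀ k : ℤ, x ^ (2 * k) ∈ Subgroup.zpowers (x ^ (2 : ℤ)) := fun k =>
    Subgroup.mem_zpowers_iff.2 ⟨k, by rw [← zpow_mul]⟩
  rw [_root_.commutator_def, Subgroup.commutator_le]
  intro a _ b _
  have hcomm : ⁅a, b⁆ = a * b * (b * a)⁻¹ := by rw [commutatorElement_def]; group
  rw [hcomm]
  obtain ⟨i, rfl | rfl⟩ := h.cases' a <;> obtain ⟨j, rfl | rfl⟩ := h.cases' b
  · rw [← zpow_add, ← zpow_add, add_comm i, mul_inv_cancel]; exact one_mem _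
  · rw [← mul_assoc, ← zpow_add, h.mul_y_mul_zpow, mul_inv_rev, mul_assoc, mul_inv_cancel_left,
      ← zpow_neg, ← zpow_add]
    convert hmem (i * (1 - Invol.qq n)) using 2
    ring
  · rw [h.mul_y_mul_zpow, ← mul_assoc (x ^ j), ← zpow_add, mul_inv_rev, mul_assoc, mul_inv_cancel_left,
      ← zpow_neg, ← zpow_add]
    convert hmem (-(j * (1 - Invol.qq n))) using 2
    ring
  · rw [h.mul_y_mul, h.mul_y_mul, ← zpow_neg, ← zpow_add]
    convert hmem ((i - j) * (1 - Invol.qq n)) using 2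
    ring

theorem qd_normal_facts {n : ℕ} {x y : S} (h : Invol.QD S n x y) (T : Subgroup S) [T.Normal]
    (hT : ∃ a ∈ T, ∃ b ∈ T, a * b ≠ b * a) :
    (∃ i : ℤ, x ^ i * y ∈ T) ∧ x ^ (2 : ℤ) ∈ T := by
  obtain ⟨a, ha, b, hb, hab⟩ := hT
  obtain ⟨i, hi⟩ : ∃ i : ℤ, x ^ i * y ∈ T := by
    by_contra hno
    push Not at hno
    have hcyc : ∀ c ∈ T, ∃ k : ℤ, c = x ^ k := fun c hc => by
      obtain ⟨k, rfl | rfl⟩ := h.cases' c
      · exact ⟨k, rfl⟩
      · exact absurd hc (hno k)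
    obtain ⟨i, rfl⟩ := hcyc a ha
    obtain ⟨j, rfl⟩ := hcyc b hb
    exact hab (zpow_mul_comm x i j)
  refine ⟨⟨i, hi⟩, ?_⟩
  have hc := T.mul_mem ((inferInstance : T.Normal).conj_mem _ hi (x ^ (1 : ℤ))) (T.inv_mem hi)
  rw [h.conj_x, mul_inv_rev, mul_assoc, mul_inv_cancel_left, ← zpow_neg, ← zpow_add] at hc
  have h2 := T.zpow_mem hc (1 + Invol.qq n)
  rw [← zpow_mul] at h2
  convert h2 using 1
  rw [h.zpow_eq]
  obtain ⟨c, hc'⟩ := Invol.QD.qq_sq h
  exact ⟨c, by linear_combination (2 : ℤ) * hc'⟩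

theorem wr_normal_facts {n : ℕ} {x y z : S} (h : Invol.WR S n x y z) (T : Subgroup S) [T.Normal]
    (hT : ∃ a ∈ T, ∃ b ∈ T, a * b ≠ b * a) :
    (∃ i j : ℤ, h.el i j * z ∈ T) ∧ h.el 1 (-1) ∈ T := by
  obtain ⟨a, ha, b, hb, hab⟩ := hT
  obtain ⟨i, j, hij⟩ : ∃ i j : ℤ, h.el i j * z ∈ T := by
    by_contra hno
    push Not at hno
    have hbase : ∀ c ∈ T, ∃ k l : ℤ, c = h.el k l := fun c hc => by
      obtain ⟨k, l, rfl | rfl⟩ := h.cases' c
      · exact ⟨k, l, rfl⟩
      · exact absurd hc (hno k l)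
    obtain ⟨i, j, rfl⟩ := hbase a ha
    obtain ⟨k, l, rfl⟩ := hbase b hb
    exact hab (h.el_comm i j k l)
  refine ⟨⟨i, j, hij⟩, ?_⟩
  have hc := T.mul_mem ((inferInstance : T.Normal).conj_mem _ hij (h.el 1 0)) (T.inv_mem hij)
  rw [h.conj_el_z, mul_inv_rev, mul_assoc, mul_inv_cancel_left, h.el_inv, h.el_mul] at hc
  convert hc using 1
  rw [h.el_eq]
  exact ⟨⟨0, by ring⟩, ⟨0, by ring⟩⟩

/-- A normal non-abelian subgroup contains the derived group. -/
theorem commutator_le_of_normal (hS : Cfsg.IsQuasiDihedral S ∨ Cfsg.IsWreathed S) (T : Subgroup S) [T.Normal]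
    (hT : ∃ a ∈ T, ∃ b ∈ T, a * b ≠ b * a) : commutator S ≤ T := by
  rcases hS with hS | hS
  · obtain ⟨n, x, y, h⟩ := Invol.exists_qd hS
    exact (qd_commutator_le h).trans (Subgroup.zpowers_le.2 (qd_normal_facts h T hT).2)
  · obtain ⟨n, x, y, z, h⟩ := Invol.exists_wr hS
    rw [h.commutator_eq]
    exact Subgroup.zpowers_le.2 (wr_normal_facts h T hT).2

/-- Its centraliser is central. -/
theorem centralizer_le_center_of_normal (hS : Cfsg.IsQuasiDihedral S ∨ Cfsg.IsWreathed S) (T : Subgroup S)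
    [T.Normal] (hT : ∃ a ∈ T, ∃ b ∈ T, a * b ≠ b * a) :
    Subgroup.centralizer (T : Set S) ≤ Subgroup.center S := by
  intro s hs
  rw [Subgroup.mem_centralizer_iff] at hs
  rcases hS with hS | hS
  · obtain ⟨n, x, y, h⟩ := Invol.exists_qd hS
    obtain ⟨⟨i, hi⟩, h2⟩ := qd_normal_facts h T hT
    obtain ⟨j, rfl | rfl⟩ := h.cases' s
    · have h1 := hs _ hi
      rw [h.mul_y_mul_zpow, ← mul_assoc, ← zpow_add, mul_left_inj, h.zpow_eq] at h1
      have hy : y * x ^ j = x ^ j * y := by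
        rw [h.y_mul_zpow, mul_left_inj, h.zpow_eq]
        convert h1 using 1
        ring
      refine Subgroup.mem_center_iff.2 fun g => ?_
      obtain ⟨k, rfl | rfl⟩ := h.cases' g
      · exact zpow_mul_comm x k j
      · rw [mul_assoc, hy, ← mul_assoc, zpow_mul_comm x k j, mul_assoc]
    · exfalso
      have h1 := hs _ h2
      rw [h.mul_y_mul_zpow, ← mul_assoc, ← zpow_add, mul_left_inj, h.zpow_eq] at h1
      obtain ⟨c, hc⟩ := h1
      obtain ⟨r, hr⟩ := h.qq_even
      have : 2 * r * (c + 1) = 1 := by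
        rw [hr] at hc
        linarith
      have h3 : 2 * (r * (c + 1)) = 1 := by linarith
      generalize r * (c + 1) = m at h3
      omega
  · obtain ⟨n, x, y, z, h⟩ := Invol.exists_wr hS
    obtain ⟨⟨i, j, hij⟩, hu⟩ := wr_normal_facts h T hT
    obtain ⟨a, b, rfl | rfl⟩ := h.cases' s
    · exact h.mem_center_el.2 (h.commute_el_z_el (hs _ hij))
    · exfalso
      obtain ⟨c, hc⟩ := h.commute_el_z_el (hs _ hu).symm
      obtain ⟨r, hr⟩ := h.hh_even
      rw [hr] at hc
      have h3 : 2 * (r * c) = 1 := by linarith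
      generalize r * c = m at h3
      omega

/-- With a single involution, it does not cover the group modulo the centre. -/
theorem sup_center_ne_top [Finite S] (hS : Cfsg.IsQuasiDihedral S ∨ Cfsg.IsWreathed S) (T : Subgroup S) [T.Normal]
    (hT : ∃ a ∈ T, ∃ b ∈ T, a * b ≠ b * a)
    (huniq : ∀ a ∈ T, ∀ b ∈ T, orderOf a = 2 → orderOf b = 2 → a = b) : T ⊔ Subgroup.center S ≠ ⊤ := by
  intro htop
  rcases hS with hS | hS
  · obtain ⟨n, x, y, h⟩ := Invol.exists_qd hS
    obtain ⟨-, h2⟩ := qd_normal_facts h T hT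
    have hz : x ^ (2 * Invol.qq n) ∈ T := by rw [zpow_mul]; exact T.zpow_mem h2 _
    have hcT : Subgroup.center S ≤ T := by
      intro s hs
      rw [Subgroup.mem_center_iff] at hs
      obtain ⟨j, rfl | rfl⟩ := h.cases' s
      · have h1 := hs y
        rw [h.y_mul_zpow, mul_left_inj, h.zpow_eq] at h1
        obtain ⟨c, hc⟩ := h1
        obtain ⟨r, hr⟩ := h.qq_even
        -- then `2j` is a multiple of `4q`
        obtain ⟨e, he⟩ : ∃ e, j = 2 * Invol.qq n * e := by
          have hj : j * (Invol.qq n - 1) = 2 * Invol.qq n * c := by linarith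
          obtain ⟨d, hd⟩ := Invol.QD.qq_sq h
          exact ⟨j * d - c * (Invol.qq n + 1), by linear_combination (j : ℤ) * hd - (Invol.qq n + 1) * hj⟩
        rw [he, zpow_mul]
        exact T.zpow_mem hz e
      · exfalso
        have h1 := hs (x ^ (1 : ℤ))
        rw [h.mul_y_mul_zpow, ← mul_assoc, ← zpow_add, mul_left_inj, h.zpow_eq] at h1
        obtain ⟨c, hc⟩ := h1
        obtain ⟨r, hr⟩ := h.qq_even
        rw [hr] at hc
        have h3 : 2 * (r * (2 * c + 1)) = 1 := by linarith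
        generalize r * (2 * c + 1) = m at h3
        omega
    rw [sup_eq_left.2 hcT] at htop
    have hyT : y ∈ T := htop ▸ Subgroup.mem_top y
    exact h.y_notMem (huniq _ hz y hyT h.orderOf_z h.oy ▸
      Subgroup.mem_zpowers_iff.2 ⟨2 * Invol.qq n, rfl⟩)
  · obtain ⟨n, x, y, z, h⟩ := Invol.exists_wr hS
    obtain ⟨-, hu⟩ := wr_normal_facts h T hT
    have hx : h.el 1 0 ∈ T ⊔ Subgroup.center S := htop ▸ Subgroup.mem_top _
    obtain ⟨t, ht, c, hc, hxe⟩ := Subgroup.mem_sup_of_normal_right.1 hx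
    rw [h.center_eq] at hc
    obtain ⟨l, rfl⟩ := Subgroup.mem_zpowers_iff.1 hc
    have hte : t = h.el (1 - l) (-l) := by
      rw [eq_mul_inv_of_mul_eq hxe, ← zpow_neg, h.el_zpow, h.el_mul]
      congr 1 <;> ring
    have hw : h.el (Invol.hh n) (Invol.hh n) ∈ T := by
      have h1 := T.zpow_mem hu (Invol.hh n)
      rw [h.el_zpow] at h1
      convert h1 using 1
      rw [h.el_eq]
      exact ⟨⟨0, by ring⟩, ⟨1, by ring⟩⟩
    have hv : h.el (Invol.hh n * (1 - l)) (Invol.hh n * -l) ∈ T := by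
      have h1 := T.zpow_mem (hte ▸ ht) (Invol.hh n)
      rwa [h.el_zpow] at h1
    have hpos := h.hh_pos
    have h01 : ¬ 2 * Invol.hh n ∣ Invol.hh n := fun hd => by
      obtain ⟨e, he⟩ := hd
      have h3 : 2 * e = 1 := by
        have : Invol.hh n * (2 * e - 1) = 0 := by linarith
        rcases mul_eq_zero.1 this with h4 | h4 <;> omega
      omega
    have hv1 : h.el (Invol.hh n * (1 - l)) (Invol.hh n * -l) ≠ 1 := fun he => by
      obtain ⟨⟨a, ha⟩, ⟨b, hb⟩⟩ := h.el_eq_one.1 he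
      exact h01 ⟨a - b, by linarith⟩
    have hv2 : orderOf (h.el (Invol.hh n * (1 - l)) (Invol.hh n * -l)) = 2 := by
      refine orderOf_eq_prime ?_ hv1
      rw [pow_two, h.el_mul, h.el_eq_one]
      exact ⟨⟨1 - l, by ring⟩, ⟨-l, by ring⟩⟩
    obtain ⟨⟨a, ha⟩, ⟨b, hb⟩⟩ := h.el_eq.1 (huniq _ hv _ hw hv2 h.orderOf_w)
    exact h01 ⟨a - b, by linarith⟩

/-- With an element of order at least eight, some squared commutator is not central. -/
theorem exists_commutator_sq_notMem (hS : Cfsg.IsQuasiDihedral S ∨ Cfsg.IsWreathed S) (T : Subgroup S)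
    [T.Normal] (hT : ∃ a ∈ T, ∃ b ∈ T, a * b ≠ b * a)
    (huniq : ∀ a ∈ T, ∀ b ∈ T, orderOf a = 2 → orderOf b = 2 → a = b)
    (u : S) (hu : u ∈ T) (hu8 : 8 ≤ orderOf u) (hunc : ∃ v ∈ T, (u * u) * v ≠ v * (u * u)) :
    ∃ a b : S, ⁅a, b⁆ * ⁅a, b⁆ ∉ Subgroup.center S := by
  rcases hS with hS | hS
  · obtain ⟨n, x, y, h⟩ := Invol.exists_qd hS
    haveI := h.finite
    have hn : 4 ≤ n := by
      by_contra hlt
      obtain rfl : n = 3 := by have := h.hn; omega
      obtain ⟨⟨i, hi⟩, -⟩ := qd_normal_facts h T hT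
      obtain ⟨k, rfl | rfl⟩ := h.cases' u
      · have hcard : Nat.card (Subgroup.zpowers x) ≤ Nat.card (Subgroup.zpowers (x ^ k)) := by
          rw [Nat.card_zpowers, Nat.card_zpowers, h.ox]; exact hu8
        have heq := Subgroup.eq_of_le_of_card_ge (Subgroup.zpowers_le.2 (Subgroup.zpow_mem _ (Subgroup.mem_zpowers x) k)) hcard
        have hxT : x ∈ T := by
          have : x ∈ Subgroup.zpowers (x ^ k) := heq ▸ Subgroup.mem_zpowers x
          exact Subgroup.zpowers_le.2 hu this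
        have hyT : y ∈ T := by
          have := T.mul_mem (T.inv_mem (T.zpow_mem hxT i)) hi
          rwa [inv_mul_cancel_left] at this
        exact h.y_notMem (huniq _ (T.zpow_mem hxT (2 * Invol.qq 3)) y hyT h.orderOf_z h.oy ▸
          Subgroup.mem_zpowers_iff.2 ⟨2 * Invol.qq 3, rfl⟩)
      · rcases Int.emod_two_eq k with hk | hk
        · rw [h.orderOf_mul_y_even (Int.dvd_of_emod_eq_zero hk)] at hu8; omega
        · rw [h.orderOf_mul_y_odd (fun hd => by omega)] at hu8; omega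
    refine ⟨x ^ (1 : ℤ), y, fun hc => ?_⟩
    rw [Subgroup.mem_center_iff] at hc
    have hcm : ⁅x ^ (1 : ℤ), y⁆ = x ^ (2 - 2 * Invol.qq n) := by
      rw [commutatorElement_def, ← zpow_neg, mul_assoc (x ^ (1 : ℤ)) y, h.y_mul_zpow, ← mul_assoc,
        ← zpow_add, mul_inv_cancel_right, h.zpow_eq]
      exact ⟨0, by ring⟩
    have h1 := hc y
    rw [hcm, ← zpow_add, h.y_mul_zpow, mul_left_inj, h.zpow_eq] at h1
    obtain ⟨c, hc'⟩ := h1
    obtain ⟨d, hd⟩ := Invol.QD.qq_sq h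
    have h4 : Invol.qq n = 4 * 2 ^ (n - 4) := by
      rw [Invol.qq, show n - 2 = (n - 4) + 2 by omega, pow_add]; ring
    have h5 : Invol.qq n * (4 * c + 8 * Invol.qq n - 16) = -8 := by linear_combination -hc'
    rw [h4] at h5
    obtain ⟨e, he⟩ : ∃ e, (2 : ℤ) ^ (n - 4) = e := ⟨_, rfl⟩
    rw [he] at h5
    have h6 : 2 * (e * (c + 8 * e - 4)) = -1 := by linarith
    generalize e * (c + 8 * e - 4) = m at h6
    omega
  · obtain ⟨n, x, y, z, h⟩ := Invol.exists_wr hS
    have hn : 3 ≤ n := by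
      by_contra hlt
      obtain rfl : n = 2 := by have := h.hn; omega
      obtain ⟨k, l, rfl | rfl⟩ := h.cases' u
      · have : h.el k l ^ 4 = 1 := by
          rw [← zpow_natCast, h.el_zpow, h.el_eq_one]
          norm_num [Invol.hh]
        have := Nat.le_of_dvd (by norm_num) (orderOf_dvd_of_pow_eq_one this)
        omega
      · obtain ⟨v, -, hne⟩ := hunc
        rw [h.sq_el_z] at hne
        exact hne (h.el_diag_central _ v).symm
    refine ⟨x, z, fun hc => ?_⟩
    have hcm : ⁅x, z⁆ = h.el 1 (-1) := by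
      conv_lhs => rw [← h.el_x]
      rw [commutatorElement_def, h.el_inv, mul_assoc (h.el 1 0) z, h.z_el, ← mul_assoc, h.el_mul,
        mul_inv_cancel_right]
      norm_num
    rw [hcm, h.el_mul, h.mem_center_el] at hc
    obtain ⟨c, hc'⟩ := hc
    have h4 : Invol.hh n = 4 * 2 ^ (n - 3) := by
      rw [Invol.hh, show n - 1 = (n - 3) + 2 by omega, pow_add]; ring
    rw [h4] at hc'
    have h6 : 2 * ((2 : ℤ) ^ (n - 3) * c) = 1 := by linarith
    generalize (2 : ℤ) ^ (n - 3) * c = m at h6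
    omega

end Cfsg.Agent.Invol.GW
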