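import Mathlib

/-!
# The 2-subgroups of the symmetric group of degree seven

They are contained in a conjugate of `D₈ × Z₂`, so squared commutators vanish.
-/

set_option autoImplicit false

open scoped commutatorElement

namespace Cfsg.Agent.Invol.GW

/-- The symmetries of a square. -/
def squareHom : DihedralGroup 4 →* Equiv.Perm (ZMod 4) where
  toFun
    | DihedralGroup.r i => Equiv.addRight i
    | DihedralGroup.sr i => (Equiv.addLeft i).trans (Equiv.neg _)
  map_one' := by
    show Equiv.addRight (0 : ZMod 4) = 1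
    ext x; simp
  map_mul' := by
    rintro (i | i) (j | j) <;> ext x <;>
      simp [DihedralGroup.r_mul_r, DihedralGroup.r_mul_sr, DihedralGroup.sr_mul_r, DihedralGroup.sr_mul_sr] <;> ring

theorem squareHom_injective : Function.Injective squareHom := by
  intro a b
  revert a b
  decide

theorem square_commutators : ∀ (a b : DihedralGroup 4), ⁅a, b⁆ * ⁅a, b⁆ = 1 := by decide +kernel

theorem pair_commutators : ∀ (a b : Equiv.Perm (Fin 2)), ⁅a, b⁆ * ⁅a, b⁆ = 1 := by decide +kernel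

/-- The embedding of `D₈ × Z₂`. -/
noncomputable def sevenModel : DihedralGroup 4 × Equiv.Perm (Fin 2) →* Equiv.Perm (Fin 7) :=
  ((Fintype.equivFinOfCardEq (by simp) : ZMod 4 ⊕ (Fin 2 ⊕ Fin 1) ≃ Fin 7).permCongrHom.toMonoidHom.comp
    (Equiv.Perm.sumCongrHom (ZMod 4) (Fin 2 ⊕ Fin 1))).comp
      (squareHom.prodMap ((Equiv.Perm.sumCongrHom (Fin 2) (Fin 1)).comp (MonoidHom.inl _ _)))

theorem sevenModel_injective : Function.Injective sevenModel := by
  rw [sevenModel, MonoidHom.coe_comp, MonoidHom.coe_comp]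
  refine ((MulEquiv.injective _).comp Equiv.Perm.sumCongrHom_injective).comp ?_
  exact Function.Injective.prodMap squareHom_injective
      (Equiv.Perm.sumCongrHom_injective.comp fun x y h => congrArg Prod.fst h)

theorem sevenModel_sign (w : DihedralGroup 4 × Equiv.Perm (Fin 2)) :
    Equiv.Perm.sign (sevenModel w) = Equiv.Perm.sign (squareHom w.1) * Equiv.Perm.sign w.2 := by
  simp [sevenModel, Equiv.Perm.sign_permCongr, Equiv.Perm.sign_sumCongr]

/-- It is a Sylow subgroup: every 2-subgroup lies in a conjugate. -/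
theorem exists_seven_conj {P : Subgroup (Equiv.Perm (Fin 7))} (hP : IsPGroup 2 P) :
    ∃ g : Equiv.Perm (Fin 7), ∀ x ∈ P, ∃ p, MulAut.conj g (sevenModel p) = x := by
  haveI : Fact (Nat.Prime 2) := ⟨Nat.prime_two⟩
  have hc : Nat.card sevenModel.range = 2 ^ 4 := by
    rw [← Nat.card_congr (MonoidHom.ofInjective sevenModel_injective).toEquiv, Nat.card_prod,
      DihedralGroup.nat_card, Nat.card_perm, Nat.card_fin]
    rfl
  obtain ⟨W, hW⟩ := (IsPGroup.of_card hc).exists_le_sylow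
  have hWeq : sevenModel.range = (W : Subgroup (Equiv.Perm (Fin 7))) := by
    refine Subgroup.eq_of_le_of_card_ge hW ?_
    obtain ⟨k, hk⟩ := IsPGroup.iff_card.1 W.isPGroup'
    rw [hk, hc]
    have h5 : 2 ^ k ∣ 5040 := by
      rw [← hk]
      refine (Subgroup.card_subgroup_dvd_card _).trans ?_
      rw [Nat.card_perm, Nat.card_fin]
      rfl
    refine Nat.pow_le_pow_right two_pos ?_
    by_contra hk4
    have := (Nat.pow_dvd_pow 2 (show 5 ≤ k by omega)).trans h5
    norm_num at this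
  obtain ⟨R, hR⟩ := hP.exists_le_sylow
  obtain ⟨g, hg⟩ := MulAction.exists_smul_eq (Equiv.Perm (Fin 7)) W R
  refine ⟨g, fun x hx => ?_⟩
  have := hR hx
  rw [← hg, Sylow.coe_subgroup_smul, ← hWeq, Subgroup.mem_smul_pointwise_iff_exists] at this
  obtain ⟨_, ⟨p, rfl⟩, hp⟩ := this
  exact ⟨p, hp⟩

/-- Squared commutators vanish in a 2-group of permutations of seven points. -/
theorem seven_commutator_sq {P : Subgroup (Equiv.Perm (Fin 7))} (hP : IsPGroup 2 P) {a b : Equiv.Perm (Fin 7)}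
    (ha : a ∈ P) (hb : b ∈ P) : ⁅a, b⁆ * ⁅a, b⁆ = 1 := by
  obtain ⟨g, key⟩ := exists_seven_conj hP
  obtain ⟨p, rfl⟩ := key a ha
  obtain ⟨q, rfl⟩ := key b hb
  rw [← map_commutatorElement, ← map_commutatorElement, ← map_mul, ← map_mul,
    show ⁅p, q⁆ * ⁅p, q⁆ = 1 from Prod.ext (square_commutators p.1 q.1) (pair_commutators p.2 q.2),
    map_one, map_one]

set_option synthInstance.maxHeartbeats 400000 in
set_option synthInstance.maxSize 1024 in
theorem seven_four_facts : ∀ w : DihedralGroup 4 × Equiv.Perm (Fin 2), w * w = 1 →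
    ∃ u v : DihedralGroup 4 × Equiv.Perm (Fin 2), u * u = 1 ∧ v * v = 1 ∧ u ≠ 1 ∧ v ≠ 1 ∧ u ≠ v ∧ u * v = v * u ∧
      u * w = w * u ∧ v * w = w * v ∧
      Equiv.Perm.sign (squareHom u.1) * Equiv.Perm.sign u.2 = 1 ∧
      Equiv.Perm.sign (squareHom v.1) * Equiv.Perm.sign v.2 = 1 := by
  decide +kernel

/-- An involutory permutation of seven points centralises two commuting even involutions. -/
theorem seven_four (x : Equiv.Perm (Fin 7)) (hx : x * x = 1) :
    ∃ u v : Equiv.Perm (Fin 7), u ∈ alternatingGroup (Fin 7) ∧ v ∈ alternatingGroup (Fin 7) ∧ u * u = 1 ∧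
      v * v = 1 ∧ u ≠ 1 ∧ v ≠ 1 ∧ u ≠ v ∧ u * v = v * u ∧ u * x = x * u ∧ v * x = x * v := by
  have hP : IsPGroup 2 (Subgroup.zpowers x) := fun ⟨y, hy⟩ => by
    obtain ⟨k, rfl⟩ := Subgroup.mem_zpowers_iff.1 hy
    refine ⟨1, Subtype.ext ?_⟩
    show (x ^ k) ^ (2 ^ 1) = 1
    rw [pow_one, pow_two, (Commute.refl x).mul_zpow k |>.symm, hx, one_zpow]
  obtain ⟨g, key⟩ := exists_seven_conj hP
  obtain ⟨w, rfl⟩ := key x (Subgroup.mem_zpowers x)
  have hw : w * w = 1 := sevenModel_injective ((MulAut.conj g).injective (by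
    rw [map_mul, map_mul, hx, map_one, map_one]))
  obtain ⟨u, v, hu, hv, hu1, hv1, hne, huv, huw, hvw, hsu, hsv⟩ := seven_four_facts w hw
  let ψ := (MulAut.conj g).toMonoidHom.comp sevenModel
  have hψ : Function.Injective ψ := (MulAut.conj g).injective.comp sevenModel_injective
  have hsign : ∀ p, Equiv.Perm.sign (ψ p) = Equiv.Perm.sign (squareHom p.1) * Equiv.Perm.sign p.2 := fun p => by
    rw [← sevenModel_sign]
    show Equiv.Perm.sign (g * sevenModel p * g⁻¹) = _
    rw [map_mul, map_mul, map_inv, mul_comm (Equiv.Perm.sign g), mul_inv_cancel_right]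
  refine ⟨ψ u, ψ v, ?_, ?_, by rw [← map_mul, hu, map_one], by rw [← map_mul, hv, map_one],
    (map_ne_one_iff ψ hψ).2 hu1, (map_ne_one_iff ψ hψ).2 hv1, fun h => hne (hψ h), ?_, ?_, ?_⟩
  · rw [Equiv.Perm.mem_alternatingGroup, hsign, hsu]
  · rw [Equiv.Perm.mem_alternatingGroup, hsign, hsv]
  · rw [← map_mul, ← map_mul, huv]
  · show ψ u * ψ w = ψ w * ψ u
    rw [← map_mul, ← map_mul, huw]
  · show ψ v * ψ w = ψ w * ψ v
    rw [← map_mul, ← map_mul, hvw]

end Cfsg.Agent.Invol.GW
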