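import Cfsg.Agent.Lib.Invol.GW.Consumers.OutAdjust
import Cfsg.Agent.Lib.Invol.GW.Consumers.QDWFacts
import Cfsg.Agent.Lib.Invol.GW.Consumers.SevenSylow
import Cfsg.Agent.S2119

/-!
# No double cover of the alternating group of degree seven under a quasi-dihedral or wreathed group
-/

set_option autoImplicit false

open scoped commutatorElement

namespace Cfsg.Agent.Invol.GW

open Subgroup

universe u

/-- The action on `K ⧸ Z` of a group normalising `K` and `Z`. -/
noncomputable def autQuot {H : Type u} [Group H] (K : Subgroup H) [K.Normal] (Z : Subgroup K) [Z.Normal]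
    (hZ : ∀ h : H, Z.map (MulAut.conjNormal h : K ≃* K).toMonoidHom = Z) : H →* MulAut (K ⧸ Z) :=
  MonoidHom.mk' (fun h => QuotientGroup.congr Z Z (MulAut.conjNormal h) (hZ h))
    fun a b => MulEquiv.ext fun q => QuotientGroup.induction_on q fun s => by
      simp [MulAut.mul_apply]; rfl

theorem autQuot_mk {H : Type u} [Group H] (K : Subgroup H) [K.Normal] (Z : Subgroup K) [Z.Normal]
    (hZ : ∀ h : H, Z.map (MulAut.conjNormal h : K ≃* K).toMonoidHom = Z) (h : H) (k : K) :
    autQuot K Z hZ h (k : K ⧸ Z) = ((MulAut.conjNormal h k : K) : K ⧸ Z) := rfl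

theorem quat_facts {T : Type u} [Group T] {m : ℕ} (hm : 1 ≤ m) (e : T ≃* QuaternionGroup (2 ^ m)) :
    (∃ a b : T, a * b ≠ b * a) ∧ ∀ a b : T, orderOf a = 2 → orderOf b = 2 → a = b := by
  haveI : NeZero (2 ^ m) := ⟨by positivity⟩
  refine ⟨⟨e.symm (QuaternionGroup.a 1), e.symm (QuaternionGroup.xa 0), fun h => ?_⟩, fun a b ha hb => ?_⟩
  · rw [← map_mul, ← map_mul, e.symm.injective.eq_iff, QuaternionGroup.a_mul_xa, QuaternionGroup.xa_mul_a,
      QuaternionGroup.xa.injEq, zero_sub, zero_add] at h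
    have h2 : ((2 : ℕ) : ZMod (2 * 2 ^ m)) = 0 := by push_cast; linear_combination -h
    rw [ZMod.natCast_eq_zero_iff] at h2
    have h3 := Nat.le_of_dvd two_pos h2
    have h4 : 2 ^ 1 ≤ 2 ^ m := Nat.pow_le_pow_right two_pos hm
    omega
  · have key : ∀ w : T, orderOf w = 2 →
        e w = QuaternionGroup.a ((2 ^ m : ℕ) : ZMod (2 * 2 ^ m)) := fun w hw => by
      rcases BS.quaternion_sq_one (x := e w)
        ((map_pow e w 2).symm.trans (by rw [orderOf_dvd_iff_pow_eq_one.1 hw.dvd, map_one])) with h | h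
      · rw [map_eq_one_iff e e.injective] at h
        rw [h, orderOf_one] at hw
        omega
      · exact h
    exact e.injective ((key a ha).trans (key b hb).symm)

/-- The quotient of a group with quaternion Sylow subgroup by a central involution. -/
theorem quotient_sylow_dihedral {K : Type u} [Group K] [Finite K] [Fact (Nat.Prime 2)] (P : Sylow 2 K) {m : ℕ}
    (e : (P : Subgroup K) ≃* QuaternionGroup (2 ^ m)) (Z : Subgroup K) [Z.Normal] (hZ : Nat.card Z = 2)
    (hZP : Z ≤ (P : Subgroup K)) :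
    Nonempty (((P.mapSurjective (QuotientGroup.mk'_surjective Z) : Sylow 2 (K ⧸ Z)) : Subgroup (K ⧸ Z)) ≃*
      DihedralGroup (2 ^ m)) := by
  haveI : NeZero (2 ^ m) := ⟨by positivity⟩
  haveI : (Z.subgroupOf (P : Subgroup K)).Normal := (inferInstance : Z.Normal).subgroupOf _
  obtain ⟨eq⟩ := quotient_two_dihedral e (Z.subgroupOf (P : Subgroup K))
    (by rw [Nat.card_congr (Subgroup.subgroupOfEquivOfLe hZP).toEquiv, hZ])
  have e1 := QuotientGroup.quotientKerEquivRange ((QuotientGroup.mk' Z).comp (P : Subgroup K).subtype)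
  have e2 : ((QuotientGroup.mk' Z).comp (P : Subgroup K).subtype).range =
      ((P.mapSurjective (QuotientGroup.mk'_surjective Z) : Sylow 2 (K ⧸ Z)) : Subgroup (K ⧸ Z)) := by
    rw [MonoidHom.range_comp, Subgroup.range_subtype]
    rfl
  have e3 : ((QuotientGroup.mk' Z).comp (P : Subgroup K).subtype).ker = Z.subgroupOf (P : Subgroup K) := by
    ext x
    rw [MonoidHom.mem_ker, Subgroup.mem_subgroupOf]
    exact QuotientGroup.eq_one_iff _
  exact ⟨((MulEquiv.subgroupCongr e2).symm.trans (e1.symm.trans (QuotientGroup.quotientMulEquivOfEq e3))).trans eq⟩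

theorem card_alt_seven : Nat.card (alternatingGroup (Fin 7)) = 2520 := by
  rw [nat_card_alternatingGroup, Nat.card_fin]; rfl

/-- The cover of the alternating group of degree seven is excluded. -/
theorem no_seven {H : Type u} [Group H] [Finite H] (S : Sylow 2 H)
    (hS : Cfsg.IsQuasiDihedral (S : Subgroup H) ∨ Cfsg.IsWreathed (S : Subgroup H))
    (K : Subgroup H) [K.Normal] (Z : Subgroup K) [Z.Normal] (hZc : Z ≤ center K) (hZcard : Nat.card Z = 2)
    (hZmap : ∀ h : H, Z.map (MulAut.conjNormal h : K ≃* K).toMonoidHom = Z) (P : Sylow 2 K)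
    (hP : (P : Subgroup K) = (S : Subgroup H).subgroupOf K) {m : ℕ} (hm : 1 ≤ m)
    (eP : (P : Subgroup K) ≃* QuaternionGroup (2 ^ m))
    (huniq : ∀ x y : K, orderOf x = 2 → orderOf y = 2 → x = y)
    (f : K ⧸ Z ≃* alternatingGroup (Fin 7)) : False := by
  haveI : Fact (Nat.Prime 2) := ⟨Nat.prime_two⟩
  haveI : NeZero (2 ^ m) := ⟨by positivity⟩
  obtain ⟨z, hz⟩ := exists_prime_orderOf_dvd_card' (G := Z) 2 (dvd_of_eq hZcard.symm)
  have hZP : Z ≤ (P : Subgroup K) := by
    obtain ⟨w, hw⟩ := exists_prime_orderOf_dvd_card' (G := (P : Subgroup K)) 2 (by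
      rw [Nat.card_congr eP.toEquiv, Nat.card_eq_fintype_card, QuaternionGroup.card]
      exact Dvd.intro (2 * 2 ^ m) (by ring))
    intro x hx
    by_cases hx1 : x = 1
    · rw [hx1]; exact one_mem _
    rw [huniq x w (orderOf_eq_prime (by
      have := congrArg Subtype.val (pow_card_eq_one' (x := (⟨x, hx⟩ : Z)))
      rwa [hZcard, SubgroupClass.coe_pow, OneMemClass.coe_one] at this) hx1)
      (by rw [Subgroup.orderOf_coe, hw])]
    exact w.2
  -- the cover is perfect
  haveI : IsSimpleGroup (alternatingGroup (Fin 7)) := alternatingGroup.isSimpleGroup (by simp)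
  have hA : commutator (alternatingGroup (Fin 7)) = ⊤ := by
    have hn : (commutator (alternatingGroup (Fin 7))).Normal := inferInstance
    refine hn.eq_bot_or_eq_top.resolve_left fun h => ?_
    have h2 : center (alternatingGroup (Fin 7)) = ⊤ := eq_top_iff.2 fun a _ => Subgroup.mem_center_iff.2 fun b => by
      have := Subgroup.commutator_mem_commutator (Subgroup.mem_top b) (Subgroup.mem_top a)
      rw [← _root_.commutator_def, h, Subgroup.mem_bot, commutatorElement_eq_one_iff_mul_comm] at this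
      exact this
    rw [alternatingGroup.center_eq_bot (by simp)] at h2
    exact bot_ne_top h2
  let ρ : K →* alternatingGroup (Fin 7) := f.toMonoidHom.comp (QuotientGroup.mk' Z)
  have hρk : ρ.ker = Z := by
    ext x
    rw [MonoidHom.mem_ker]
    exact (map_eq_one_iff f f.injective).trans (QuotientGroup.eq_one_iff x)
  have hKp : commutator K = ⊤ := perfect_cover hA (by rw [card_alt_seven]; norm_num) ρ
    (f.surjective.comp (QuotientGroup.mk'_surjective Z)) (by rw [hρk, hZcard]) huniq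
  -- an element of order eight
  obtain ⟨eY⟩ := quotient_sylow_dihedral P eP Z hZcard hZP
  have hm2 : 2 ≤ m := by
    have h8 := (P.mapSurjective (QuotientGroup.mk'_surjective Z)).pow_dvd_card_of_pow_dvd_card (n := 3)
      (by rw [Nat.card_congr f.toEquiv, card_alt_seven]; norm_num)
    rw [Nat.card_congr eY.toEquiv, DihedralGroup.nat_card] at h8
    by_contra hlt
    obtain rfl : m = 1 := by omega
    norm_num at h8
  let T : Subgroup (S : Subgroup H) := K.subgroupOf (S : Subgroup H)
  haveI : T.Normal := (inferInstance : K.Normal).subgroupOf _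
  have hmem : ∀ p : (P : Subgroup K), ((p : K) : H) ∈ (S : Subgroup H) := fun p =>
    Subgroup.mem_subgroupOf.1 (hP ▸ p.2)
  let ι : (P : Subgroup K) →* (S : Subgroup H) :=
    (K.subtype.comp (P : Subgroup K).subtype).codRestrict _ hmem
  have hιT : ∀ p, ι p ∈ T := fun p => Subgroup.mem_subgroupOf.2 (p : K).2
  have hιi : Function.Injective ι := fun p q h =>
    Subtype.ext (Subtype.ext (congrArg (fun s : (S : Subgroup H) => (s : H)) h))
  have hTι : ∀ t ∈ T, ∃ p, ι p = t := fun t ht =>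
    ⟨⟨⟨(t : H), Subgroup.mem_subgroupOf.1 ht⟩, hP.symm ▸ Subgroup.mem_subgroupOf.2 t.2⟩, rfl⟩
  obtain ⟨⟨a, b, hab⟩, -⟩ := quat_facts hm eP
  have hTnc : ∃ a ∈ T, ∃ b ∈ T, a * b ≠ b * a :=
    ⟨ι a, hιT a, ι b, hιT b, fun h => hab (hιi (by rw [map_mul, map_mul, h]))⟩
  have hTu : ∀ a ∈ T, ∀ b ∈ T, orderOf a = 2 → orderOf b = 2 → a = b := fun a ha b hb ha2 hb2 => by
    have h := huniq ⟨(a : H), Subgroup.mem_subgroupOf.1 ha⟩ ⟨(b : H), Subgroup.mem_subgroupOf.1 hb⟩
      (by rw [Subgroup.orderOf_mk, Subgroup.orderOf_coe, ha2])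
      (by rw [Subgroup.orderOf_mk, Subgroup.orderOf_coe, hb2])
    exact Subtype.ext (Subtype.mk.inj h)
  let p₀ := eP.symm (QuaternionGroup.a 1)
  have hu8 : 8 ≤ orderOf (ι p₀) := by
    rw [orderOf_injective ι hιi, MulEquiv.orderOf_eq, QuaternionGroup.orderOf_a_one]
    have : 2 ^ 2 ≤ 2 ^ m := Nat.pow_le_pow_right two_pos hm2
    omega
  have hunc : ∃ v ∈ T, (ι p₀ * ι p₀) * v ≠ v * (ι p₀ * ι p₀) := by
    refine ⟨ι (eP.symm (QuaternionGroup.xa 0)), hιT _, fun h => ?_⟩
    have h1 : p₀ * p₀ * eP.symm (QuaternionGroup.xa 0) = eP.symm (QuaternionGroup.xa 0) * (p₀ * p₀) :=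
      hιi (by simpa using h)
    have h' := congrArg eP h1
    simp only [p₀, map_mul, MulEquiv.apply_symm_apply, QuaternionGroup.a_mul_a, QuaternionGroup.a_mul_xa,
      QuaternionGroup.xa_mul_a, QuaternionGroup.xa.injEq, zero_sub, zero_add] at h'
    have h2 : ((4 : ℕ) : ZMod (2 * 2 ^ m)) = 0 := by push_cast; linear_combination -h'
    rw [ZMod.natCast_eq_zero_iff] at h2
    have h3 := Nat.le_of_dvd (by norm_num) h2
    have : 2 ^ 2 ≤ 2 ^ m := Nat.pow_le_pow_right two_pos hm2
    omega
  obtain ⟨a, b, hc⟩ := exists_commutator_sq_notMem hS T hTnc hTu (ι p₀) (hιT p₀) hu8 hunc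
  apply hc
  -- it acts trivially on the cover
  let conjEquiv : Equiv.Perm (Fin 7) ≃* MulAut (alternatingGroup (Fin 7)) :=
    MulEquiv.ofBijective MulAut.conjNormal (S2119.result 7 (by norm_num) (by norm_num))
  let θ : H →* Equiv.Perm (Fin 7) :=
    (conjEquiv.symm.toMonoidHom.comp (MulAut.congr f).toMonoidHom).comp (autQuot K Z hZmap)
  let c : (S : Subgroup H) := ⁅a, b⁆ * ⁅a, b⁆
  have hθc : θ (c : H) = 1 := by
    have h := seven_commutator_sq (S.isPGroup'.map θ) (Subgroup.mem_map_of_mem θ a.2)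
      (Subgroup.mem_map_of_mem θ b.2)
    rw [← map_commutatorElement, ← map_mul] at h
    exact h
  have hQc : autQuot K Z hZmap (c : H) = 1 := by
    have h : conjEquiv.symm (MulAut.congr f (autQuot K Z hZmap (c : H))) = 1 := hθc
    rwa [map_eq_one_iff _ conjEquiv.symm.injective, map_eq_one_iff _ (MulAut.congr f).injective] at h
  have hfix := eq_id_of_central hKp (MulAut.conjNormal (c : H)).toMonoidHom fun y => hZc <| by
    rw [← QuotientGroup.eq]
    exact (DFunLike.congr_fun hQc (y : K ⧸ Z)).symm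
  refine centralizer_le_center_of_normal hS T hTnc (Subgroup.mem_centralizer_iff.2 fun t ht => ?_)
  obtain ⟨p, rfl⟩ := hTι t ht
  have h5 := congrArg Subtype.val (hfix (p : K))
  rw [MulEquiv.coe_toMonoidHom, MulAut.conjNormal_apply] at h5
  exact Subtype.ext (mul_inv_eq_iff_eq_mul.1 h5).symm

end Cfsg.Agent.Invol.GW
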