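import Cfsg.Agent.Lib.Invol.GW.Consumers.Basic
import Cfsg.Agent.Lib.Fus.PSLTwo
import Cfsg.Agent.Lib.Grp.Components
import Cfsg.Agent.S0811
import Cfsg.Agent.S0812
import Cfsg.Agent.S0255
import Cfsg.Agent.S0494

/-!
# Simple groups with dihedral Sylow subgroups and a non-maximal involution centraliser (for S3287)
-/

set_option autoImplicit false

namespace Cfsg.Agent.Invol.GW

open Subgroup

universe u

theorem card_PSLTwo {F : Type} [Field F] [Fintype F] (hodd : Odd (Fintype.card F)) :
    2 * Nat.card (Matrix.ProjectiveSpecialLinearGroup (Fin 2) F) =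
      Fintype.card F * ((Fintype.card F - 1) * (Fintype.card F + 1)) := by
  have h := Classical.natCard_PSL_mul (F := F) 2 (by norm_num)
  rw [Fus.PSLTwo.natCard_SL_two, Nat.card_units, Nat.card_eq_fintype_card (α := F)] at h
  obtain ⟨k, hk⟩ := hodd
  rwa [Nat.gcd_eq_left ⟨k, by omega⟩] at h

/-- For odd `q ∉ {5, 7, 9}` the centraliser of an involution of `PSL₂(q)` is maximal. -/
theorem centralizer_isCoatom {F : Type} [Field F] [Fintype F] (hodd : Odd (Fintype.card F))
    (h3 : 3 < Fintype.card F) (h5 : Fintype.card F ≠ 5) (h7 : Fintype.card F ≠ 7) (h9 : Fintype.card F ≠ 9)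
    {t : Matrix.ProjectiveSpecialLinearGroup (Fin 2) F} (ht : orderOf t = 2) :
    IsCoatom (centralizer ({t} : Set (Matrix.ProjectiveSpecialLinearGroup (Fin 2) F))) := by
  haveI hsimp : IsSimpleGroup (Matrix.ProjectiveSpecialLinearGroup (Fin 2) F) :=
    Classical.PSL_isSimple le_rfl fun _ => by omega
  set q := Fintype.card F with hq
  have hg : Nat.gcd 2 (q - 1) = 2 := by
    obtain ⟨k, hk⟩ := hodd
    exact Nat.gcd_eq_left ⟨k, by omega⟩
  obtain ⟨H, hH, h, hh, he⟩ : ∃ H : Subgroup (Matrix.ProjectiveSpecialLinearGroup (Fin 2) F),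
      IsCoatom H ∧ ∃ h : ℕ, (2 ∣ h ∧ 2 ≤ h) ∧ Nonempty (H ≃* DihedralGroup h) := by
    obtain ⟨k, hk⟩ := hodd
    rcases Nat.even_or_odd k with ⟨j, hj⟩ | ⟨j, hj⟩
    · have hne : q ∉ ({2, 3, 5, 7, 9, 11} : Finset ℕ) := by
        simp only [Finset.mem_insert, Finset.mem_singleton]; omega
      obtain ⟨H, hH, he⟩ := S0812.result hq.symm hne
      exact ⟨H, hH, _, by rw [hg]; omega, he⟩
    · have hne : q ∉ ({2, 7, 9} : Finset ℕ) := by
        simp only [Finset.mem_insert, Finset.mem_singleton]; omega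
      obtain ⟨H, hH, he⟩ := S0811.result hq.symm hne
      exact ⟨H, hH, _, by rw [hg]; omega, he⟩
  obtain ⟨e⟩ := he
  obtain ⟨⟨k, rfl⟩, hh2⟩ := hh
  haveI : NeZero (2 * k) := ⟨by omega⟩
  let z : DihedralGroup (2 * k) := DihedralGroup.r (k : ZMod (2 * k))
  have hkk : (k : ZMod (2 * k)) + k = 0 := by
    rw [← Nat.cast_add, ← two_mul, ZMod.natCast_self]
  have hzc : ∀ y, z * y = y * z := by
    rintro (i | i)
    · simp only [z, DihedralGroup.r_mul_r, add_comm]
    · simp only [z, DihedralGroup.r_mul_sr, DihedralGroup.sr_mul_r]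
      congr 1
      linear_combination -hkk
  have hz : orderOf z = 2 := by
    refine orderOf_eq_prime ?_ fun h1 => ?_
    · rw [pow_two, DihedralGroup.r_mul_r, hkk, DihedralGroup.one_def]
    · rw [DihedralGroup.one_def] at h1
      have h2 : (k : ZMod (2 * k)) = 0 := DihedralGroup.r.inj h1
      rw [ZMod.natCast_eq_zero_iff] at h2
      have := Nat.le_of_dvd (by omega) h2
      omega
  set s := ((e.symm z : H) : Matrix.ProjectiveSpecialLinearGroup (Fin 2) F) with hs
  have hso : orderOf s = 2 := by rw [hs, Subgroup.orderOf_coe, MulEquiv.orderOf_eq, hz]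
  have hle : H ≤ centralizer ({s} : Set (Matrix.ProjectiveSpecialLinearGroup (Fin 2) F)) := by
    intro y hy
    rw [Subgroup.mem_centralizer_singleton_iff]
    have := congrArg e.symm (hzc (e ⟨y, hy⟩))
    rw [map_mul, map_mul, MulEquiv.symm_apply_apply] at this
    exact (congrArg Subtype.val this).symm
  have hne : centralizer ({s} : Set (Matrix.ProjectiveSpecialLinearGroup (Fin 2) F)) ≠ ⊤ := by
    intro htop
    have hsc : s ∈ center (Matrix.ProjectiveSpecialLinearGroup (Fin 2) F) :=
      Subgroup.mem_center_iff.2 fun g =>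
        Subgroup.mem_centralizer_singleton_iff.1 (htop.symm ▸ Subgroup.mem_top g)
    rcases (inferInstance : (center (Matrix.ProjectiveSpecialLinearGroup (Fin 2) F)).Normal).eq_bot_or_eq_top with
      hb | hb
    · rw [hb, Subgroup.mem_bot] at hsc
      rw [hsc, orderOf_one] at hso
      omega
    · have hne' : H ≠ ⊥ := fun hb' => by
        rw [hs, Subgroup.orderOf_coe] at hso
        have h2 := orderOf_dvd_natCard (e.symm z)
        rw [hso, hb', Subgroup.card_bot] at h2
        omega
      haveI : H.Normal := ⟨fun a ha g => by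
        rwa [Subgroup.mem_center_iff.1 (hb ▸ Subgroup.mem_top a) g, mul_inv_cancel_right]⟩
      exact hH.1 ((‹H.Normal›.eq_bot_or_eq_top).resolve_left hne')
  have heq : centralizer ({s} : Set (Matrix.ProjectiveSpecialLinearGroup (Fin 2) F)) = H :=
    ((hH.le_iff.1 hle).resolve_left hne)
  obtain ⟨c, hc⟩ := isConj_iff.1 (Fus.PSLTwo.involutions_conj (Nat.odd_iff.1 hodd) hso ht)
  have hmap : (centralizer ({s} : Set (Matrix.ProjectiveSpecialLinearGroup (Fin 2) F))).map
      (MulAut.conj c).toMonoidHom = centralizer ({t} : Set (Matrix.ProjectiveSpecialLinearGroup (Fin 2) F)) := by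
    ext y
    rw [Subgroup.mem_map_equiv, MulAut.conj_symm_apply, Subgroup.mem_centralizer_singleton_iff,
      Subgroup.mem_centralizer_singleton_iff, ← hc]
    constructor <;> intro hh'
    · calc y * (c * s * c⁻¹) = c * (c⁻¹ * y * c * s) * c⁻¹ := by group
        _ = _ := by rw [hh']; group
    · calc c⁻¹ * y * c * s = c⁻¹ * (y * (c * s * c⁻¹)) * c := by group
        _ = _ := by rw [hh']; group
  rw [← hmap, heq]
  exact ((MulAut.conj c).mapSubgroup.isCoatom_iff H).2 hH

/-- S3287, given S0483. -/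
theorem nonmaximal_centralizer (hGW : GWStatement.{u}) {G : Type u} [Group G] [Finite G] [IsSimpleGroup G]
    (S : Sylow 2 G) (m : ℕ) (eS : ↥(S : Subgroup G) ≃* DihedralGroup m) (t : G) (ht : orderOf t = 2)
    (K : Subgroup G) (hlt : centralizer ({t} : Set G) < K)
    (hK : Cfsg.generalizedFittingSubgroup ↥K = Cfsg.fittingSubgroup ↥K) :
    Nonempty (G ≃* ↥(alternatingGroup (Fin 5))) ∨ Nonempty (G ≃* ↥(alternatingGroup (Fin 7))) ∨
      (∃ (F : Type) (_ : Field F) (_ : Fintype F), Fintype.card F = 2 ∧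
        Nonempty (G ≃* Matrix.ProjectiveSpecialLinearGroup (Fin 3) F)) ∨
      (∃ (F : Type) (_ : Field F) (_ : Fintype F), Fintype.card F = 9 ∧
        Nonempty (G ≃* Matrix.ProjectiveSpecialLinearGroup (Fin 2) F)) := by
  haveI : Fact (Nat.Prime 2) := ⟨Nat.prime_two⟩
  have hnab : ¬ IsMulCommutative G := fun hab => by
    have : centralizer ({t} : Set G) = ⊤ := eq_top_iff.2 fun g _ =>
      Subgroup.mem_centralizer_singleton_iff.2 (hab.is_comm.comm g t)
    exact not_top_lt (this ▸ hlt)
  have hcomm : commutator G = ⊤ := by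
    rcases (inferInstance : (commutator G).Normal).eq_bot_or_eq_top with h | h
    · exfalso
      refine hnab ⟨⟨fun a b => ?_⟩⟩
      have h1 := Subgroup.commutator_mem_commutator (Subgroup.mem_top a) (Subgroup.mem_top b)
      rw [← _root_.commutator_def, h, Subgroup.mem_bot] at h1
      exact commutatorElement_eq_one_iff_mul_comm.1 h1
    · exact h
  have hm : 2 ≤ m := by
    by_contra hm
    interval_cases m
    · haveI : Finite (DihedralGroup 0) := Finite.of_equiv _ eS.toEquiv
      haveI : Finite (ZMod 0) := Finite.of_injective (DihedralGroup.r : ZMod 0 → _)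
        fun a b hab => DihedralGroup.r.inj hab
      exact not_finite (ZMod 0)
    · have hc : IsCyclic (S : Subgroup G) := by
        haveI := isCyclic_of_prime_card (α := DihedralGroup 1) (p := 2) (by rw [DihedralGroup.nat_card])
        exact isCyclic_of_surjective eS.symm eS.symm.surjective
      haveI := subsingleton_of_cyclic hcomm S hc
      exact hnab ⟨⟨fun a b => Subsingleton.elim _ _⟩⟩
  have hO : Cfsg.oddCore G = ⊥ := by
    haveI hn : (Cfsg.pPrimeCore 2 G).Normal := Grp.pPrimeCore_isNormal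
    refine (hn.eq_bot_or_eq_top).resolve_right fun h => ?_
    have h2 : (Nat.card (Cfsg.pPrimeCore 2 G)).Coprime 2 := Grp.pPrimeCore_coprime
    rw [h, Subgroup.card_top] at h2
    exact (Nat.Prime.coprime_iff_not_dvd Nat.prime_two).1 h2.symm (ht ▸ orderOf_dvd_natCard t)
  haveI : Group.IsPerfect G := ⟨hcomm⟩
  have strip : ∀ {Q : Type} [Group Q], Nonempty (G ⧸ Cfsg.oddCore G ≃* Q) → Nonempty (G ≃* Q) :=
    fun {Q} _ ⟨f⟩ => ⟨((QuotientGroup.quotientMulEquivOfEq hO).trans QuotientGroup.quotientBot).symm.trans f⟩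
  rcases hGW (X := G) S m hm ⟨eS⟩ with ⟨F, hF, hFf, hodd, h3, hf⟩ | hf
  swap
  · exact Or.inr (Or.inl (strip hf))
  obtain ⟨f⟩ := strip hf
  by_cases h9 : Fintype.card F = 9
  · exact Or.inr (Or.inr (Or.inr ⟨F, hF, hFf, h9, ⟨f⟩⟩))
  by_cases h7 : Fintype.card F = 7
  · haveI : Fact (Nat.Prime 2) := ⟨Nat.prime_two⟩
    obtain ⟨g⟩ := S0255.result (F := F) (K := ZMod 2) h7 (ZMod.card 2)
    exact Or.inr (Or.inr (Or.inl ⟨ZMod 2, inferInstance, inferInstance, ZMod.card 2, ⟨f.trans g⟩⟩))
  by_cases h5 : Fintype.card F = 5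
  · refine Or.inl (S0494.result ?_)
    have h := card_PSLTwo hodd
    rw [← Nat.card_congr f.toEquiv, h5] at h
    omega
  exfalso
  have hcoat := centralizer_isCoatom hodd h3 h5 h7 h9 (t := f t) (by rw [MulEquiv.orderOf_eq, ht])
  have hmap : (centralizer ({t} : Set G)).map f.toMonoidHom =
      centralizer ({f t} : Set (Matrix.ProjectiveSpecialLinearGroup (Fin 2) F)) := by
    ext y
    obtain ⟨x, rfl⟩ := f.surjective y
    rw [Subgroup.mem_map_equiv, MulEquiv.symm_apply_apply, Subgroup.mem_centralizer_singleton_iff,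
      Subgroup.mem_centralizer_singleton_iff, ← map_mul, ← map_mul, f.injective.eq_iff]
  have hKtop : K = ⊤ := by
    have hc : IsCoatom (centralizer ({t} : Set G)) := by
      rw [← f.mapSubgroup.isCoatom_iff, MulEquiv.mapSubgroup_apply]
      exact hmap ▸ hcoat
    exact hc.2 K hlt
  have hcomp : Cfsg.IsComponent (⊤ : Subgroup K) := by
    refine ⟨Subgroup.IsSubnormal.top, (Grp.isQuasisimple_congr (Subgroup.topEquiv.trans
      ((MulEquiv.subgroupCongr hKtop).trans Subgroup.topEquiv))).2 ?_⟩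
    exact Grp.isQuasisimple_of ⟨hcomm⟩ fun N hN => by
      rcases hN.eq_bot_or_eq_top with h | h
      · exact Or.inr (h ▸ bot_le)
      · exact Or.inl h
  have hfit : Cfsg.fittingSubgroup ↥K = ⊤ :=
    hK ▸ eq_top_iff.2 ((Grp.IsComponent.le_layer hcomp).trans le_sup_left)
  have hnil : Group.IsNilpotent ↥K := by
    have h := Grp.fittingSubgroup_isNilpotent (G := K)
    rw [hfit] at h
    exact (Group.isNilpotent_congr Subgroup.topEquiv).1 h
  have hG : Group.IsNilpotent G :=
    (Group.isNilpotent_congr ((MulEquiv.subgroupCongr hKtop).trans Subgroup.topEquiv)).1 hnil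
  haveI : Nontrivial G := IsSimpleGroup.toNontrivial
  haveI := hG
  haveI : Group.IsSolvable G := inferInstance
  exact (Group.IsSolvable.commutator_lt_top_of_nontrivial (G := G)).ne hcomm

end Cfsg.Agent.Invol.GW
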