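import Cfsg.Agent.Lib.Transfer.CentralFour.Main
import Cfsg.Agent.Lib.Invol.GW.Consumers.AbelianSylow
import Cfsg.Agent.Lib.Invol.GW.Consumers.HallNumbers
import Cfsg.Agent.Lib.Invol.TransferControl
import Cfsg.Agent.Lib.Grp.BaseCop.Maschke
import Cfsg.Agent.Lib.Block.CpQuot.Basic
import Cfsg.Agent.S2116

/-!
# Quasisimple groups with a Sylow 2-subgroup whose centre has index four, given S0483 (for S4594)
-/

set_option autoImplicit false
set_option linter.style.haveILetI false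
set_option linter.unusedSectionVars false

namespace Cfsg.Agent.Invol.GW.CentralFour

open Subgroup Transfer.SmallTwo
open Cfsg.Agent.Transfer.CentralFour

universe u

theorem perfect_of_simple {X : Type u} [Group X] [IsSimpleGroup X] (hX : ¬ IsMulCommutative X) :
    Group.IsPerfect X :=
  ⟨((inferInstance : (commutator X).Normal).eq_bot_or_eq_top).resolve_left fun e =>
    hX ⟨⟨fun a b => commutatorElement_eq_one_iff_mul_comm.1
      (mem_bot.1 (e ▸ commutator_mem_commutator (mem_top a) (mem_top b)))⟩⟩⟩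

theorem pPrimeCore_eq_bot {X : Type u} [Group X] [Finite X] [IsSimpleGroup X] (h2 : 2 ∣ Nat.card X) :
    Cfsg.pPrimeCore 2 X = ⊥ := by
  refine (Grp.pPrimeCore_isNormal (p := 2) (G := X)).eq_bot_or_eq_top.resolve_right fun h => ?_
  have hc : (Nat.card (Cfsg.pPrimeCore 2 X)).Coprime 2 := Grp.pPrimeCore_coprime
  rw [h, Subgroup.card_top] at hc
  have := Nat.eq_one_of_dvd_coprimes hc h2 dvd_rfl
  omega

theorem even_of_simple {X : Type u} [Group X] [Finite X] [IsSimpleGroup X] (hX : ¬ IsMulCommutative X) :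
    Even (Nat.card X) :=
  Nat.not_odd_iff_even.1 fun h => hX ⟨⟨IsSimpleGroup.comm_iff_isSolvable.2 (Cfsg.Agent.S0205.result h)⟩⟩

/-- The model of a simple group with dihedral Sylow 2-subgroups. -/
theorem simple_model (hGW : GWStatement.{u}) {X : Type u} [Group X] [Finite X] [IsSimpleGroup X]
    (hX : ¬ IsMulCommutative X) (T : Sylow 2 X) {n : ℕ} (hn : 2 ≤ n)
    (e : Nonempty ((T : Subgroup X) ≃* DihedralGroup n)) : IsPSLTwoOrSeven X := by
  haveI := perfect_of_simple hX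
  have hO : Cfsg.oddCore X = ⊥ := pPrimeCore_eq_bot (even_iff_two_dvd.1 (even_of_simple hX))
  have strip : ∀ {Q : Type} [Group Q], Nonempty (X ⧸ Cfsg.oddCore X ≃* Q) → Nonempty (X ≃* Q) :=
    fun {Q} _ ⟨f⟩ => ⟨((QuotientGroup.quotientMulEquivOfEq hO).trans QuotientGroup.quotientBot).symm.trans f⟩
  rcases hGW T n hn e with ⟨F, hF, hFf, hodd, h3, hf⟩ | hf
  · exact Or.inl ⟨F, hF, hFf, hodd, h3, strip hf⟩
  · exact Or.inr (strip hf)

section Abelian

variable {X : Type u} [Group X] [Finite X] [IsSimpleGroup X]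

/-- Rank at most two and abelian: order four. -/
theorem card_four_of_rank_two (hX : ¬ IsMulCommutative X) (hrX : Cfsg.PRankLE 2 2 X) (S : Sylow 2 X)
    (hS : IsMulCommutative (S : Subgroup X)) : Nat.card (S : Subgroup X) = 4 := by
  haveI : Fact (Nat.Prime 2) := ⟨Nat.prime_two⟩
  letI : Fintype (GaloisField 2 4) := Fintype.ofFinite _
  have hF : Fintype.card (GaloisField 2 4) = 16 := by
    rw [← Nat.card_eq_fintype_card, GaloisField.card 2 4 (by norm_num)]
    norm_num
  obtain ⟨P⟩ : Nonempty (Sylow 2 (Cfsg.PSU 3 (GaloisField 2 4) 4)) := inferInstance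
  rcases OddUse.simple_rank_two_sylow hX (even_of_simple hX) hrX S hF P with ⟨n, hn, ⟨e⟩⟩ | h | h | ⟨⟨e⟩⟩
  · obtain rfl := dihedral_two_of_comm hn fun a b => e.symm.injective (by
      rw [map_mul, map_mul]
      exact hS.is_comm.comm _ _)
    rw [Nat.card_congr e.toEquiv, DihedralGroup.nat_card]
  · exact absurd hS (not_comm_quasiDihedral h)
  · exact absurd hS (not_comm_wreathed h)
  · refine absurd ?_ (CentInt.psu_sylow_nonabelian (F := GaloisField 2 4) (q := 4) (n := 2)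
      (by rw [hF]; rfl) rfl (by norm_num) P)
    exact ⟨⟨fun a b => e.symm.injective (by rw [map_mul, map_mul]; exact hS.is_comm.comm _ _)⟩⟩

/-- An abelian Sylow 2-subgroup with an invariant subgroup of index four has order four. -/
theorem card_four_of_index_four (hX : ¬ IsMulCommutative X) (Q : Sylow 2 X)
    (hQ : IsMulCommutative (Q : Subgroup X)) (R : Subgroup X) (hRQ : R ≤ (Q : Subgroup X))
    (hR4 : (R.subgroupOf (Q : Subgroup X)).index = 4)
    (hRn : ∀ n ∈ normalizer ((Q : Subgroup X) : Set X), ∀ r ∈ R, n * r * n⁻¹ ∈ R) :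
    Nat.card (Q : Subgroup X) = 4 := by
  classical
  haveI : Fact (Nat.Prime 2) := ⟨Nat.prime_two⟩
  refine card_four_of_rank_two hX ?_ Q hQ
  set Q' := (Q : Subgroup X)
  have hqc : ∀ a ∈ Q', ∀ b ∈ Q', a * b = b * a := fun a ha b hb =>
    congrArg Subtype.val (hQ.is_comm.comm ⟨a, ha⟩ ⟨b, hb⟩)
  set N := normalizer (Q' : Set X)
  -- an odd complement
  obtain ⟨H0, hH0⟩ := Subgroup.exists_right_complement'_of_coprime (N := Q'.subgroupOf N) (by
    obtain ⟨k, hk⟩ := IsPGroup.iff_card.1 Q.isPGroup'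
    rw [Nat.card_congr (subgroupOfEquivOfLe le_normalizer).toEquiv, hk]
    refine Nat.Coprime.pow_left k (Nat.prime_two.coprime_iff_not_dvd.2 fun h => ?_)
    exact (Q.subtype le_normalizer).not_dvd_index h)
  have hH0odd : Odd (Nat.card H0) := by
    rw [Nat.odd_iff, ← Nat.two_dvd_ne_zero, ← hH0.symm.index_eq_card]
    exact (Q.subtype le_normalizer).not_dvd_index
  set H := H0.map N.subtype with hH
  have hHN : H ≤ N := map_subtype_le _
  have hHodd : Odd (Nat.card H) := by rwa [hH, Subgroup.card_map_of_injective N.subtype_injective]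
  have hdec : ∀ n ∈ N, ∃ q ∈ Q', ∃ a ∈ H, n = q * a := by
    intro n hn
    obtain ⟨q, hq, a, ha, e⟩ := Subgroup.mem_sup_of_normal_left.1
      (hH0.sup_eq_top ▸ mem_top (⟨n, hn⟩ : N))
    exact ⟨q, hq, a, mem_map_of_mem _ ha, (congrArg Subtype.val e).symm⟩
  have hN_of_H : ∀ {M : Subgroup X}, M ≤ Q' → (∀ a ∈ H, ∀ x ∈ M, a * x * a⁻¹ ∈ M) →
      ∀ n ∈ N, ∀ x ∈ M, n * x * n⁻¹ ∈ M := by
    intro M hMQ hMi n hn x hx
    obtain ⟨q, hq, a, ha, rfl⟩ := hdec n hn
    have h1 := hMi a ha x hx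
    rw [show q * a * x * (q * a)⁻¹ = q * (a * x * a⁻¹) * q⁻¹ by group, hqc q hq _ (hMQ h1),
      mul_inv_cancel_right]
    exact h1
  -- the involutions
  let Ω : Subgroup X :=
    { carrier := {x | x ∈ Q' ∧ x * x = 1}
      one_mem' := ⟨one_mem _, one_mul 1⟩
      mul_mem' := fun {a b} ha hb => ⟨mul_mem ha.1 hb.1, by
        rw [mul_assoc, ← mul_assoc b, hqc b hb.1 a ha.1, mul_assoc a b b, hb.2, mul_one, ha.2]⟩
      inv_mem' := fun {a} ha => ⟨inv_mem ha.1, by rw [← mul_inv_rev, ha.2, inv_one]⟩ }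
  have hΩH : ∀ a ∈ H, ∀ x ∈ Ω, a * x * a⁻¹ ∈ Ω := fun a ha x hx =>
    ⟨(mem_normalizer_iff.1 (hHN ha) x).1 hx.1, by
      calc a * x * a⁻¹ * (a * x * a⁻¹) = a * (x * x) * a⁻¹ := by group
        _ = 1 := by rw [hx.2]; group⟩
  have hO : Cfsg.pPrimeCore 2 X = ⊥ := pPrimeCore_eq_bot (even_iff_two_dvd.1 (even_of_simple hX))
  have hclosed : ∀ {M : Subgroup X}, M ≤ Q' → (∀ a ∈ H, ∀ x ∈ M, a * x * a⁻¹ ∈ M) →
      ∀ x ∈ M, ∀ g : X, g * x * g⁻¹ ∈ Q' → g * x * g⁻¹ ∈ M := by
    intro M hMQ hMi x hx g hg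
    obtain ⟨n, hn, e⟩ := Transfer.exists_normalizer_conj_of_abelian Q hQ (hMQ hx) hg
    exact e ▸ hN_of_H hMQ hMi n hn x hx
  -- irreducibility
  have irred : ∀ M : Subgroup X, M ≤ Ω → (∀ a ∈ H, ∀ x ∈ M, a * x * a⁻¹ ∈ M) → M ≠ ⊥ → Ω ≤ M := by
    intro M hM hMi hMne
    letI : CommGroup Ω :=
      { (inferInstance : Group Ω) with mul_comm := fun a b => Subtype.ext (hqc a a.2.1 b b.2.1) }
    letI : DistribMulAction H (Additive Ω) :=
      { smul := fun a v => Additive.ofMul ⟨(a : X) * (v.toMul : X) * (a : X)⁻¹, hΩH a a.2 _ v.toMul.2⟩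
        one_smul := fun v => congrArg Additive.ofMul
          (Subtype.ext (show ((1 : H) : X) * (v.toMul : X) * ((1 : H) : X)⁻¹ = (v.toMul : X) by simp))
        mul_smul := fun a b v => congrArg Additive.ofMul (Subtype.ext
          (show ((a * b : H) : X) * (v.toMul : X) * ((a * b : H) : X)⁻¹ =
            (a : X) * ((b : X) * (v.toMul : X) * (b : X)⁻¹) * (a : X)⁻¹ by rw [coe_mul]; group))
        smul_zero := fun a => congrArg Additive.ofMul
          (Subtype.ext (show (a : X) * 1 * (a : X)⁻¹ = 1 by group))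
        smul_add := fun a v w => congrArg Additive.ofMul (Subtype.ext
          (show (a : X) * ((v.toMul : X) * (w.toMul : X)) * (a : X)⁻¹ =
            (a : X) * (v.toMul : X) * (a : X)⁻¹ * ((a : X) * (w.toMul : X) * (a : X)⁻¹) by group)) }
    have hcop : (Nat.card H).Coprime (Nat.card (Additive Ω)) := by
      obtain ⟨k, hk⟩ := IsPGroup.iff_card.1 (Q.isPGroup'.to_le (show Ω ≤ Q' from fun x hx => hx.1))
      rw [Nat.card_congr Additive.toMul, hk]
      exact (Nat.coprime_two_right.2 hHodd).pow_right k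
    obtain ⟨W, hW, hUW, hsup⟩ := BaseCop.isCR_of_coprime (A := H) (V := Additive Ω) Nat.prime_two
      (fun v => by
        rw [two_nsmul]
        exact congrArg Additive.ofMul (Subtype.ext v.toMul.2.2)) hcop
      (Subgroup.toAddSubgroup (M.subgroupOf Ω)) (fun a v hv => hMi a a.2 _ hv)
    set M' := (AddSubgroup.toSubgroup W).map Ω.subtype with hM'
    have hM'Q : M' ≤ Q' := fun x hx => (map_subtype_le _ hx).1
    have hM'i : ∀ a ∈ H, ∀ x ∈ M', a * x * a⁻¹ ∈ M' := by
      rintro a ha _ ⟨v, hv, rfl⟩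
      exact ⟨_, hW ⟨a, ha⟩ _ hv, rfl⟩
    have hdisj : ∀ x ∈ M', x ∈ M → x = 1 := by
      rintro _ ⟨v, hv, rfl⟩ hx
      have : Additive.ofMul v ∈ Subgroup.toAddSubgroup (M.subgroupOf Ω) ⊓ W := ⟨hx, hv⟩
      rw [hUW, AddSubgroup.mem_bot] at this
      exact congrArg Subtype.val (Additive.ofMul.injective this : v = 1)
    by_cases hM'b : M' = ⊥
    · intro x hx
      have hmem := AddSubgroup.mem_top (Additive.ofMul (⟨x, hx⟩ : Ω))
      rw [← hsup] at hmem
      obtain ⟨a, ha, b, hb, e⟩ := AddSubgroup.mem_sup.1 hmem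
      have hb1 : ((b.toMul : Ω) : X) = 1 := by
        have : ((b.toMul : Ω) : X) ∈ M' := ⟨b.toMul, hb, rfl⟩
        rwa [hM'b, mem_bot] at this
      have e' : ((a.toMul : Ω) : X) * ((b.toMul : Ω) : X) = x :=
        congrArg (fun w => ((Additive.toMul w : Ω) : X)) e
      rw [hb1, mul_one] at e'
      exact e' ▸ ha
    exfalso
    obtain ⟨⟨y, hy⟩, hy1'⟩ := Subgroup.ne_bot_iff_exists_ne_one.1 hM'b
    have hy1 : y ≠ 1 := fun e => hy1' (Subtype.ext e)
    refine hMne (eq_bot_of_pair hX hO Q M ⟨fun x hx => (hM hx).1, hclosed (fun x hx => (hM hx).1) hMi⟩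
      {x | x ∈ M' ∧ x ≠ 1} (y₀ := y) ⟨hy, hy1⟩
      (fun x hx => orderOf_eq_prime (by rw [pow_two]; exact (map_subtype_le _ hx.1).2) hx.2)
      (fun x hx => hM'Q hx.1)
      (fun x hx g hg => ⟨hclosed hM'Q hM'i x hx.1 g hg, fun e => hx.2 (conj_eq_one_iff.1 e)⟩)
      (fun x hx x' hx' hne _ => ⟨mul_mem hx.1 hx'.1, fun e => hne ?_⟩)
      (fun x hx hxM => hx.2 (hdisj x hx.1 hxM))
      (fun r hr x hx => hqc r (hM hr).1 x (hM'Q hx.1)))
    exact (eq_inv_of_mul_eq_one_left e).trans (inv_eq_of_mul_eq_one_right (map_subtype_le _ hx'.1).2)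
  -- the action on the quotient
  set R' := R.subgroupOf Q' with hR'
  haveI : R'.Normal := ⟨fun x hx a => by
    have : a * x * a⁻¹ = x := Subtype.ext (by
      show (a : X) * x * (a : X)⁻¹ = x
      rw [hqc a a.2 x x.2, mul_inv_cancel_right])
    rwa [this]⟩
  let φ : H →* MulAut Q' := Q'.normalizerMonoidHom.comp (inclusion hHN)
  have hmap : ∀ a : H, R'.map (φ a).toMonoidHom = R' := by
    intro a
    refine Subgroup.ext fun x => ⟨?_, fun hx => ⟨(φ a).symm x, ?_, (φ a).apply_symm_apply x⟩⟩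
    · rintro ⟨y, hy, rfl⟩
      exact hRn _ (hHN a.2) _ hy
    · have h1 := hRn _ (inv_mem (hHN a.2)) _ hx
      rw [inv_inv] at h1
      have h2 : ((φ a⁻¹ x : Q') : X) = (a : X)⁻¹ * x * (a : X) := by
        show ((a⁻¹ : H) : X) * x * ((a⁻¹ : H) : X)⁻¹ = _
        rw [Subgroup.coe_inv, inv_inv]
      rw [map_inv] at h2
      show ((φ a).symm x : X) ∈ R
      exact (show (((φ a).symm x : Q') : X) = _ from h2) ▸ h1
  let f : H →* Equiv.Perm (Q' ⧸ R') :=
    { toFun := fun a => (QuotientGroup.congr R' R' (φ a) (hmap a)).toEquiv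
      map_one' := Equiv.ext fun v => by
        obtain ⟨x, rfl⟩ := QuotientGroup.mk_surjective v
        show QuotientGroup.mk (φ 1 x) = _
        rw [map_one]; rfl
      map_mul' := fun a b => Equiv.ext fun v => by
        obtain ⟨x, rfl⟩ := QuotientGroup.mk_surjective v
        show QuotientGroup.mk (φ (a * b) x) = _
        rw [map_mul]; rfl }
  have hrange : Nat.card f.range ∣ 3 := by
    have h1 : Nat.card f.range ∣ Nat.card (Equiv.Perm (Q' ⧸ R')) := Subgroup.card_subgroup_dvd_card _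
    rw [Nat.card_perm, ← Subgroup.index_eq_card, hR4] at h1
    have h2 : Nat.card f.range ∣ Nat.card H := Subgroup.card_dvd_of_surjective _ f.rangeRestrict_surjective
    exact ((Nat.coprime_two_right.2 (hHodd.of_dvd_nat h2)).pow_right 3).dvd_of_dvd_mul_right
      (show Nat.card f.range ∣ 3 * 2 ^ 3 from h1)
  obtain ⟨g0, hg0⟩ : ∃ g0 : H, ∀ a : H, ∃ i : ℤ, (g0 ^ i)⁻¹ * a ∈ f.ker := by
    haveI : IsCyclic f.range := by
      rcases (Nat.dvd_prime Nat.prime_three).1 hrange with h | h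
      · haveI := (Nat.card_eq_one_iff_unique.1 h).1
        infer_instance
      · haveI : Fact (Nat.Prime 3) := ⟨Nat.prime_three⟩
        exact isCyclic_of_prime_card h
    obtain ⟨⟨_, g0, rfl⟩, hg⟩ := IsCyclic.exists_generator (α := f.range)
    refine ⟨g0, fun a => ?_⟩
    obtain ⟨i, hi⟩ := mem_zpowers_iff.1 (hg ⟨f a, a, rfl⟩)
    refine ⟨i, MonoidHom.mem_ker.2 ?_⟩
    have e : f g0 ^ i = f a := congrArg Subtype.val hi
    rw [map_mul, map_inv, map_zpow, e, inv_mul_cancel]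
  have hg3 : g0 ^ 3 ∈ f.ker := by
    rw [MonoidHom.mem_ker, map_pow, ← orderOf_dvd_iff_pow_eq_one]
    refine Dvd.dvd.trans ?_ hrange
    exact Subgroup.orderOf_dvd_natCard _ ⟨g0, rfl⟩
  -- the kernel centralizes the involutions
  set MM := f.ker.map H.subtype with hMM
  have hMMH : MM ≤ H := map_subtype_le _
  have hMMQ : MM ≤ normalizer (Q' : Set X) := hMMH.trans hHN
  have hMMi : ∀ a ∈ H, ∀ m ∈ MM, a * m * a⁻¹ ∈ MM := by
    rintro a ha _ ⟨m, hm, rfl⟩
    exact ⟨_, f.normal_ker.conj_mem m hm ⟨a, ha⟩, rfl⟩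
  have hcopM : (Nat.card MM).Coprime (Nat.card Q') := by
    obtain ⟨k, hk⟩ := IsPGroup.iff_card.1 Q.isPGroup'
    rw [hk]
    exact (Nat.coprime_two_right.2 (hHodd.of_dvd_nat (Subgroup.card_dvd_of_le hMMH))).pow_right k
  obtain ⟨c, hcQ, hc1, hcM⟩ : ∃ c ∈ Q', c ≠ 1 ∧ ∀ m ∈ MM, m * c = c * m := by
    obtain ⟨x, hx⟩ : ∃ x : Q', x ∉ R' := by
      by_contra hh
      push Not at hh
      rw [(eq_top_iff.2 fun x _ => hh x : R' = ⊤), index_top] at hR4
      omega
    obtain ⟨c, ⟨hcQ, hcC⟩, hcR⟩ := Grp.exists_fixed_rep MM Q' R hMMQ (Grp.inf_eq_bot_of_coprime hcopM)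
      (hcopM.coprime_dvd_right (Subgroup.card_dvd_of_le hRQ))
      (Or.inl (Cfsg.Agent.S0205.result (hHodd.of_dvd_nat (Subgroup.card_dvd_of_le hMMH)))) hRQ
      (fun q hq => mem_normalizer_iff.2 fun r => by
        constructor
        · intro hr
          rw [hqc q hq r (hRQ hr), mul_inv_cancel_right]
          exact hr
        · intro hr
          have h1 := hqc q⁻¹ (inv_mem hq) _ (hRQ hr)
          rw [show r = q⁻¹ * (q * r * q⁻¹) * q by group, h1, inv_mul_cancel_right]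
          exact hr)
      (fun m hm => mem_normalizer_iff.2 fun r => ⟨fun hr => hRn m (hMMQ hm) r hr, fun hr => by
        have h1 := hRn m⁻¹ (inv_mem (hMMQ hm)) _ hr
        rwa [show m⁻¹ * (m * r * m⁻¹) * m⁻¹⁻¹ = r by group] at h1⟩)
      x.2 (by
        rintro _ ⟨m, hm, rfl⟩
        have h1 : f m (QuotientGroup.mk x) = QuotientGroup.mk x := by rw [MonoidHom.mem_ker.1 hm]; rfl
        have h2 : (φ m x)⁻¹ * x ∈ R' := QuotientGroup.eq.1 h1
        have h3 : ((φ m x : Q') : X)⁻¹ * x ∈ R := h2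
        have h4 : ((m : X) * x * (m : X)⁻¹)⁻¹ * x ∈ R := h3
        have h5 := inv_mem h4
        rw [mul_inv_rev, inv_inv, hqc _ (inv_mem x.2) _ ((mem_normalizer_iff.1 (hHN m.2) x).1 x.2)] at h5
        exact h5)
    refine ⟨c, hcQ, fun e => hx ?_, fun m hm => mem_centralizer_iff.1 hcC m hm⟩
    rw [e, mul_one] at hcR
    have := inv_mem hcR
    rw [inv_inv] at this
    exact this
  let FM : Subgroup X := Ω ⊓ centralizer (MM : Set X)
  have hΩM : ∀ w ∈ Ω, ∀ m ∈ MM, m * w = w * m := by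
    have hne : FM ≠ ⊥ := fun e => by
      obtain ⟨⟨w, hwC⟩, hw⟩ := exists_prime_orderOf_dvd_card' (G := zpowers c) 2 (by
        obtain ⟨k, hk⟩ := IsPGroup.iff_card.1 (Q.isPGroup'.to_le (zpowers_le.2 hcQ))
        rcases k with _ | k
        · rw [pow_zero, Nat.card_zpowers, orderOf_eq_one_iff] at hk
          exact absurd hk hc1
        · exact hk ▸ dvd_pow_self 2 (Nat.succ_ne_zero k))
      rw [Subgroup.orderOf_mk] at hw
      have hwF : w ∈ FM := ⟨⟨(zpowers_le.2 hcQ) hwC, by rw [← pow_two, ← hw, pow_orderOf_eq_one]⟩,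
        mem_centralizer_iff.2 fun m hm => by
          obtain ⟨i, rfl⟩ := mem_zpowers_iff.1 hwC
          exact ((show Commute m c from hcM m hm).zpow_right i).eq⟩
      rw [e, mem_bot] at hwF
      rw [hwF, orderOf_one] at hw
      omega
    have hle := irred FM inf_le_left (fun a ha w hw => ⟨hΩH a ha w hw.1, mem_centralizer_iff.2 fun m hm => by
      have h1 := mem_centralizer_iff.1 hw.2 _ (hMMi a⁻¹ (inv_mem ha) m hm)
      rw [inv_inv] at h1
      calc m * (a * w * a⁻¹) = a * (a⁻¹ * m * a * w) * a⁻¹ := by group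
        _ = a * (w * (a⁻¹ * m * a)) * a⁻¹ := by rw [h1]
        _ = a * w * a⁻¹ * m := by group⟩) hne
    exact fun w hw m hm => mem_centralizer_iff.1 (hle hw).2 m hm
  have hH' : ∀ a ∈ H, ∃ i : ℤ, ∀ w ∈ Ω, a * w * a⁻¹ = (g0 : X) ^ i * w * ((g0 : X) ^ i)⁻¹ := by
    intro a ha
    obtain ⟨i, hi⟩ := hg0 ⟨a, ha⟩
    refine ⟨i, fun w hw => ?_⟩
    have hm : ((g0 : X) ^ i)⁻¹ * a ∈ MM := ⟨_, hi, by simp⟩
    have := hΩM w hw _ hm
    calc a * w * a⁻¹ = (g0 : X) ^ i * (((g0 : X) ^ i)⁻¹ * a * w * (((g0 : X) ^ i)⁻¹ * a)⁻¹) * ((g0 : X) ^ i)⁻¹ := by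
          group
      _ = _ := by rw [this, mul_inv_cancel_right]
  have hinv : ∀ U : Subgroup X, U ≤ Ω → (∀ x ∈ U, (g0 : X) * x * (g0 : X)⁻¹ ∈ U) →
      ∀ a ∈ H, ∀ x ∈ U, a * x * a⁻¹ ∈ U := by
    intro U hU hg a ha x hx
    have hnat : ∀ k : ℕ, ∀ x ∈ U, (g0 : X) ^ k * x * ((g0 : X) ^ k)⁻¹ ∈ U := by
      intro k
      induction k with
      | zero => simp
      | succ k ih =>
        intro x hx
        rw [show (g0 : X) ^ (k + 1) * x * ((g0 : X) ^ (k + 1))⁻¹ =
          (g0 : X) ^ k * ((g0 : X) * x * (g0 : X)⁻¹) * ((g0 : X) ^ k)⁻¹ by rw [pow_succ]; group]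
        exact ih _ (hg x hx)
    obtain ⟨i, hi⟩ := hH' a ha
    obtain ⟨k, hk⟩ : ∃ k : ℕ, (g0 : X) ^ k = (g0 : X) ^ i :=
      mem_powers_iff_mem_zpowers.2 (mem_zpowers_iff.2 ⟨i, rfl⟩)
    rw [hi x (hU hx), ← hk]
    exact hnat k x hx
  -- at most four involutions and the identity
  have hΩ4 : Nat.card Ω ≤ 4 := by
    by_cases hb : Ω = ⊥
    · rw [hb, Subgroup.card_bot]; omega
    obtain ⟨⟨w, hw⟩, hw1⟩ := Subgroup.ne_bot_iff_exists_ne_one.1 hb
    have hw1' : w ≠ 1 := fun e => hw1 (Subtype.ext e)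
    set g := (g0 : X) with hg
    set w1 := g * w * g⁻¹ with hw1d
    have hw1Ω : w1 ∈ Ω := hΩH _ g0.2 _ hw
    have hw2Ω : g * w1 * g⁻¹ ∈ Ω := hΩH _ g0.2 _ hw1Ω
    have h3w : g * (g * w1 * g⁻¹) * g⁻¹ = w := by
      have hm : g ^ 3 ∈ MM := ⟨_, hg3, by simp [hg]⟩
      calc g * (g * w1 * g⁻¹) * g⁻¹ = g ^ 3 * w * (g ^ 3)⁻¹ := by rw [hw1d, pow_succ, sq]; group
        _ = w := by rw [hΩM w hw _ hm, mul_inv_cancel_right]
    set m := w * w1 * (g * w1 * g⁻¹) with hmd
    have hmΩ : m ∈ Ω := mul_mem (mul_mem hw hw1Ω) hw2Ω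
    have hgm : g * m * g⁻¹ = m := by
      have h1 : g * m * g⁻¹ = w1 * (g * w1 * g⁻¹) * (g * (g * w1 * g⁻¹) * g⁻¹) := by rw [hmd, hw1d]; group
      rw [h1, h3w, hqc _ (mul_mem hw1Ω.1 hw2Ω.1) w hw.1, ← mul_assoc]
    by_cases hm1 : m = 1
    · -- generated by `w` and its image
      have hw2eq : g * w1 * g⁻¹ = w * w1 := by
        have := eq_inv_of_mul_eq_one_right hm1
        rw [this, inv_eq_of_mul_eq_one_right (Ω.mul_mem hw hw1Ω).2]
      by_cases he : w = w1
      · have hle := irred (zpowers w) (zpowers_le.2 hw) (hinv _ (zpowers_le.2 hw) fun x hx => by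
          obtain ⟨i, rfl⟩ := mem_zpowers_iff.1 hx
          have : g * w ^ i * g⁻¹ = w1 ^ i := by rw [hw1d]; exact (conj_zpow (i := i)).symm
          rw [this, ← he]
          exact zpow_mem (mem_zpowers w) i) (by simpa using hw1')
        have h1 := card_le_of_le hle
        rw [Nat.card_zpowers, orderOf_eq_prime (by rw [pow_two, hw.2]) hw1'] at h1
        omega
      · obtain ⟨K, hK4, -, hK⟩ := Transfer.TwoByCyclic.exists_klein hw.2 hw1Ω.2 (hqc w hw.1 w1 hw1Ω.1) hw1'
          (fun e => hw1' (conj_eq_one_iff.1 e)) he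
        have hKΩ : K ≤ Ω := fun x hx => by
          rcases (hK x).1 hx with rfl | rfl | rfl | rfl
          exacts [one_mem _, hw, hw1Ω, mul_mem hw hw1Ω]
        have hle := irred K hKΩ (hinv K hKΩ fun x hx => by
          rcases (hK x).1 hx with rfl | rfl | rfl | rfl
          · simp
          · exact (hK _).2 (Or.inr (Or.inr (Or.inl rfl)))
          · exact (hK _).2 (Or.inr (Or.inr (Or.inr hw2eq)))
          · refine (hK _).2 (Or.inr (Or.inl ?_))
            calc g * (w * w1) * g⁻¹ = w1 * (g * w1 * g⁻¹) := by rw [hw1d]; group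
              _ = w := by rw [hw2eq, ← mul_assoc, hqc w1 hw1Ω.1 w hw.1, mul_assoc, hw1Ω.2, mul_one])
          (fun e => hw1' (mem_bot.1 (e ▸ (hK w).2 (Or.inr (Or.inl rfl)))))
        exact (card_le_of_le hle).trans hK4.le
    · have hle := irred (zpowers m) (zpowers_le.2 hmΩ) (hinv _ (zpowers_le.2 hmΩ) fun x hx => by
        obtain ⟨i, rfl⟩ := mem_zpowers_iff.1 hx
        have : g * m ^ i * g⁻¹ = m ^ i := by
          conv_rhs => rw [← hgm]
          exact (conj_zpow (i := i)).symm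
        rw [this]
        exact zpow_mem (mem_zpowers m) i) (by simpa using hm1)
      have h1 := card_le_of_le hle
      rw [Nat.card_zpowers, orderOf_eq_prime (by rw [pow_two, hmΩ.2]) hm1] at h1
      omega
  intro A hA hA2
  obtain ⟨T, hT⟩ := (Grp.elemAb_isPGroup (p := 2) ⟨hA, hA2⟩).exists_le_sylow
  obtain ⟨t, ht⟩ := MulAction.exists_smul_eq X T Q
  have hle : A.map (MulAut.conj t).toMonoidHom ≤ Ω := by
    rintro _ ⟨a, ha, rfl⟩
    refine ⟨?_, ?_⟩
    · show _ ∈ (Q : Subgroup X)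
      rw [← ht, Sylow.coe_subgroup_smul, ← Grp.map_conj_eq_smul]
      exact ⟨a, hT ha, rfl⟩
    · rw [← map_mul, ← pow_two, hA2 a ha, map_one]
  have h1 := card_le_of_le hle
  rw [Subgroup.card_map_of_injective (MulAut.conj t).injective] at h1
  exact le_trans h1 hΩ4

end Abelian

/-- The statement of S4594, given S0483. -/
theorem central_index_four (hGW : GWStatement.{u}) {G : Type u} [Group G] [Finite G]
    (hq : Cfsg.IsQuasisimple G) (P : Sylow 2 G) (hna : ¬ IsMulCommutative (P : Subgroup G))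
    (hZ : (center (P : Subgroup G)).index = 4) :
    Nat.card (P : Subgroup G) = 8 ∧
      (Nonempty (G ≃* alternatingGroup (Fin 7)) ∨
       (Nat.card (center G) = 3 ∧ Nonempty (G ⧸ center G ≃* alternatingGroup (Fin 7))) ∨
       ∃ (F : Type) (_ : Field F) (_ : Fintype F), Odd (Fintype.card F) ∧
         Nonempty (G ⧸ center G ≃* Matrix.ProjectiveSpecialLinearGroup (Fin 2) F)) := by
  classical
  haveI : Fact (Nat.Prime 2) := ⟨Nat.prime_two⟩
  haveI := hq.2
  haveI := hq.1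
  have hperf : commutator G = ⊤ := Group.IsPerfect.commutator_eq_top
  set π := QuotientGroup.mk' (center G) with hπdef
  have hπ : Function.Surjective π := QuotientGroup.mk'_surjective _
  have hker : ∀ x, π x = 1 ↔ x ∈ center G := fun x => QuotientGroup.eq_one_iff x
  have hX : ¬ IsMulCommutative (G ⧸ center G) := fun hc => by
    have h1 : commutator G ≤ π.ker := by
      rw [commutator_def, commutator_le]
      intro a _ b _
      rw [MonoidHom.mem_ker, map_commutatorElement, commutatorElement_eq_one_iff_mul_comm]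
      exact hc.is_comm.comm _ _
    obtain ⟨a, b, hab⟩ : ∃ a b : G, a * b ≠ b * a := by
      by_contra hh
      push Not at hh
      exact hna ⟨⟨fun a b => Subtype.ext (hh a b)⟩⟩
    rw [hperf, QuotientGroup.ker_mk'] at h1
    exact hab (mem_center_iff.1 (h1 (mem_top b)) a)
  obtain ⟨z, h⟩ := exists_quarter P hna hZ
  set Z := (center (P : Subgroup G)).map (P : Subgroup G).subtype with hZdef
  set Q : Sylow 2 (G ⧸ center G) := P.mapSurjective hπ with hQdef
  have hQ : (Q : Subgroup (G ⧸ center G)) = (P : Subgroup G).map π := Sylow.coe_mapSurjective hπ P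
  by_cases htriv : ∀ w ∈ (P : Subgroup G), w ∈ center G → w = 1
  · -- the Sylow subgroup embeds
    have hinj : Function.Injective (π.comp (P : Subgroup G).subtype) := by
      refine (MonoidHom.ker_eq_bot_iff _).1 (eq_bot_iff.2 fun x hx => mem_bot.2 (Subtype.ext ?_))
      exact htriv x x.2 ((hker _).1 hx)
    have hrange : (π.comp (P : Subgroup G).subtype).range = (Q : Subgroup (G ⧸ center G)) := by
      rw [hQ, MonoidHom.range_eq_map, ← Subgroup.map_map, ← MonoidHom.range_eq_map, range_subtype]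
    let e : (P : Subgroup G) ≃* (Q : Subgroup (G ⧸ center G)) :=
      (MonoidHom.ofInjective hinj).trans (MulEquiv.subgroupCongr hrange)
    have hnaQ : ¬ IsMulCommutative (Q : Subgroup (G ⧸ center G)) := fun hc =>
      hna ⟨⟨fun a b => e.injective (by rw [map_mul, map_mul]; exact hc.is_comm.comm _ _)⟩⟩
    have hZQ : (center (Q : Subgroup (G ⧸ center G))).index = 4 := by
      have h1 : (center (Q : Subgroup (G ⧸ center G))).comap e.toMonoidHom = center (P : Subgroup G) := by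
        ext x
        rw [mem_comap, mem_center_iff, mem_center_iff]
        exact ⟨fun hx y => e.injective (by rw [map_mul, map_mul]; exact hx (e y)),
          fun hx y => by
            obtain ⟨y, rfl⟩ := e.surjective y
            show e y * e x = e x * e y
            rw [← map_mul, ← map_mul, hx y]⟩
      rw [← Subgroup.index_comap_of_surjective (center _) (f := e.toMonoidHom) e.surjective, h1, hZ]
    obtain ⟨eQ⟩ := dihedral_of_center_index_four hX
      (pPrimeCore_eq_bot (even_iff_two_dvd.1 (even_of_simple hX))) Q hnaQ hZQ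
    refine ⟨by rw [Nat.card_congr (e.trans eQ).toEquiv, DihedralGroup.nat_card], ?_⟩
    have hodd : ¬ 2 ∣ Nat.card (center G) := fun h2 => by
      obtain ⟨w, hw⟩ := exists_prime_orderOf_dvd_card' (G := center G) 2 h2
      have hwp : IsPGroup 2 (zpowers (w : G)) :=
        IsPGroup.of_card (n := 1) (by rw [Nat.card_zpowers, Subgroup.orderOf_coe, hw, pow_one])
      obtain ⟨T, hT⟩ := hwp.exists_le_sylow
      obtain ⟨t, ht⟩ := MulAction.exists_smul_eq G T P
      have hwP : (w : G) ∈ (P : Subgroup G) := by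
        rw [← ht, Sylow.coe_subgroup_smul, ← Grp.map_conj_eq_smul]
        exact ⟨w, hT (mem_zpowers _), mul_inv_eq_iff_eq_mul.2 (mem_center_iff.1 w.2 t)⟩
      have := htriv w hwP w.2
      rw [← Subgroup.orderOf_coe, this, orderOf_one] at hw
      omega
    rcases simple_model hGW hX Q (by norm_num) ⟨eQ⟩ with ⟨F, hF, hFf, hFo, -, hf⟩ | ⟨⟨f⟩⟩
    · exact Or.inr (Or.inr ⟨F, hF, hFf, hFo, hf⟩)
    have h6 := Block.CpQuot.card_center_dvd (Cfsg.Agent.S2116.result 7 (Or.inr rfl)) hq f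
    rw [Nat.card_congr Multiplicative.toAdd, Nat.card_zmod] at h6
    rcases (Nat.dvd_prime Nat.prime_three).1
        ((Nat.prime_two.coprime_iff_not_dvd.2 hodd).symm.dvd_of_dvd_mul_left (show _ ∣ 2 * 3 from h6)) with h1 | h3
    · exact Or.inl ⟨((QuotientGroup.quotientMulEquivOfEq (Subgroup.card_eq_one.1 h1)).trans
        QuotientGroup.quotientBot).symm.trans f⟩
    · exact Or.inr (Or.inl ⟨h3, ⟨f⟩⟩)
  -- the commutator is central
  push Not at htriv
  obtain ⟨w, hwP, hwc, hw1⟩ := htriv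
  have hder : ⁅(P : Subgroup G), (P : Subgroup G)⁆ ≤ zpowers z := by
    rw [commutator_le]
    intro a ha b hb
    rw [commutatorElement_def]
    rcases h.der a ha b hb with e | e <;> rw [e]
    · rw [mul_inv_cancel]; exact one_mem _
    · rw [mul_inv_cancel_right]; exact mem_zpowers z
  have hzz : ∀ v ∈ zpowers z, v = 1 ∨ v = z := by
    intro v hv
    obtain ⟨i, rfl⟩ := mem_zpowers_iff.1 hv
    rcases Int.even_or_odd i with ⟨j, rfl⟩ | ⟨j, rfl⟩
    · exact Or.inl (by rw [← two_mul, zpow_mul, show z ^ (2 : ℤ) = 1 by rw [zpow_two, h.zz], one_zpow])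
    · exact Or.inr (by rw [zpow_add, zpow_mul, show z ^ (2 : ℤ) = 1 by rw [zpow_two, h.zz], one_zpow, one_mul, zpow_one])
  have hwz : ∀ v ∈ (P : Subgroup G), v ∈ center G → v = 1 ∨ v = z := fun v hv hvc =>
    hzz v (hder (Invol.mem_commutator_of_central P hv hvc (hperf ▸ mem_top v)))
  have hzc : z ∈ center G := ((hwz w hwP hwc).resolve_left hw1) ▸ hwc
  have hQc : IsMulCommutative (Q : Subgroup (G ⧸ center G)) := by
    refine ⟨⟨fun a b => Subtype.ext ?_⟩⟩
    obtain ⟨a, ha⟩ := a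
    obtain ⟨b, hb⟩ := b
    obtain ⟨a, ha', rfl⟩ : a ∈ (P : Subgroup G).map π := hQ ▸ ha
    obtain ⟨b, hb', rfl⟩ : b ∈ (P : Subgroup G).map π := hQ ▸ hb
    show π a * π b = π b * π a
    rcases h.der a ha' b hb' with e | e
    · rw [← map_mul, ← map_mul, mul_inv_eq_iff_eq_mul.1 e]
    · rw [← map_mul, mul_inv_eq_iff_eq_mul.1 e, map_mul, map_mul, (hker z).2 hzc, one_mul]
  set R := Z.map π with hR
  have hRQ : R ≤ (Q : Subgroup (G ⧸ center G)) := hQ ▸ Subgroup.map_mono h.le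
  have hR4 : (R.subgroupOf (Q : Subgroup (G ⧸ center G))).index = 4 := by
    let ψ : (P : Subgroup G) →* (Q : Subgroup (G ⧸ center G)) :=
      (π.comp (P : Subgroup G).subtype).codRestrict _ fun x => by rw [hQ]; exact mem_map_of_mem _ x.2
    have hψ : Function.Surjective ψ := by
      rintro ⟨v, hv⟩
      rw [hQ] at hv
      obtain ⟨x, hx, rfl⟩ := hv
      exact ⟨⟨x, hx⟩, rfl⟩
    rw [← Subgroup.index_comap_of_surjective (R.subgroupOf _) (f := ψ) hψ, ← hZ]
    congr 1
    ext x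
    constructor
    · rintro ⟨v, hv, e⟩
      have e1 : π ((x : G)⁻¹ * v) = 1 := by
        rw [map_mul, map_inv, e]; exact inv_mul_cancel _
      have hxv : (x : G)⁻¹ * v ∈ Z := h.cen _ (mul_mem (inv_mem x.2) (h.le hv)) fun p _ =>
        (mem_center_iff.1 ((hker _).1 e1) p).symm
      have hxZ : (x : G) ∈ Z := by
        have := mul_mem hv (inv_mem hxv)
        rwa [mul_inv_rev, mul_inv_cancel_left, inv_inv] at this
      obtain ⟨y, hy, hyx⟩ := hxZ
      exact (Subtype.ext hyx : y = x) ▸ hy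
    · intro hx
      exact ⟨x, mem_map_of_mem _ hx, rfl⟩
  have hRn : ∀ n ∈ normalizer (((Q : Subgroup (G ⧸ center G)) : Subgroup _) : Set (G ⧸ center G)),
      ∀ r ∈ R, n * r * n⁻¹ ∈ R := by
    intro n hn r hr
    obtain ⟨n, rfl⟩ := hπ n
    obtain ⟨v, hv, rfl⟩ := hr
    set C := ((P : Subgroup G).map π).comap π with hC
    have hPC : (P : Subgroup G) ≤ C := Subgroup.le_comap_map _ _
    have hCN : C ≤ normalizer ((P : Subgroup G) : Set G) := by
      intro x hx
      rw [hC, Subgroup.comap_map_eq, QuotientGroup.ker_mk'] at hx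
      obtain ⟨p, hp, c, hc, rfl⟩ := Subgroup.mem_sup_of_normal_right.1 hx
      refine mul_mem (le_normalizer hp) (mem_normalizer_iff.2 fun y => ?_)
      rw [← mem_center_iff.1 hc y, mul_inv_cancel_right]
    have hnC : ((n • P : Sylow 2 G) : Subgroup G) ≤ C := by
      intro x hx
      rw [Sylow.coe_subgroup_smul, ← Grp.map_conj_eq_smul] at hx
      obtain ⟨p, hp, rfl⟩ := hx
      rw [hC, mem_comap, show π ((MulAut.conj n).toMonoidHom p) = π n * π p * (π n)⁻¹ by simp]
      rw [hQ] at hn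
      exact (mem_normalizer_iff.1 hn _).1 (mem_map_of_mem _ hp)
    obtain ⟨c, hc⟩ := MulAction.exists_smul_eq C ((n • P : Sylow 2 G).subtype hnC) (P.subtype hPC)
    rw [Sylow.smul_subtype] at hc
    have hcP : (c : G) • n • P = P := Sylow.subtype_injective hc
    have hnP : n ∈ normalizer ((P : Subgroup G) : Set G) := by
      have h1 : (c : G) * n ∈ normalizer ((P : Subgroup G) : Set G) :=
        Sylow.smul_eq_iff_mem_normalizer.1 (by rw [mul_smul, hcP])
      have := mul_mem (inv_mem (hCN c.2)) h1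
      rwa [inv_mul_cancel_left] at this
    exact ⟨n * v * n⁻¹, h.normalizer_center hnP hv, by simp⟩
  have hQ4 := card_four_of_index_four hX Q hQc R hRQ hR4 hRn
  have hP8 : Nat.card (P : Subgroup G) = 8 := by
    set K := (π.comp (P : Subgroup G).subtype).ker with hK
    have hK2 : Nat.card K = 2 := by
      rw [Nat.card_eq_two_iff' (1 : K)]
      refine ⟨⟨⟨z, h.z_mem⟩, (hker z).2 hzc⟩, fun e => h.z1 (congrArg (fun v : K => ((v : (P : Subgroup G)) : G)) e),
        fun v hv => Subtype.ext (Subtype.ext ((hwz _ v.1.2 ((hker _).1 v.2)).resolve_left fun e =>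
          hv (Subtype.ext (Subtype.ext e))))⟩
    have h1 := K.card_mul_index
    rw [hK2, hK, Subgroup.index_ker, show (π.comp (P : Subgroup G).subtype).range = (Q : Subgroup (G ⧸ center G)) by
      rw [hQ, MonoidHom.range_eq_map, ← Subgroup.map_map, ← MonoidHom.range_eq_map, range_subtype], hQ4] at h1
    exact h1.symm
  refine ⟨hP8, Or.inr (Or.inr ?_)⟩
  have hns : ¬ Group.IsSolvable (G ⧸ center G) := fun hs => by
    haveI := hs
    exact hX ⟨⟨IsSimpleGroup.comm_iff_isSolvable.2 hs⟩⟩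
  have h4 : 4 ∣ Nat.card (G ⧸ center G) := hQ4 ▸ Subgroup.card_subgroup_dvd_card _
  have h8 : ¬ 8 ∣ Nat.card (G ⧸ center G) := fun h8 => by
    have := Q.pow_dvd_card_of_pow_dvd_card (show 2 ^ 3 ∣ Nat.card (G ⧸ center G) from h8)
    rw [hQ4] at this
    norm_num at this
  obtain ⟨-, -, hkl⟩ := sylow_four_facts hns h4 h8 Q
  haveI := hkl
  obtain ⟨eQ⟩ := HallNumbers.dihedral_of_klein (T := (Q : Subgroup (G ⧸ center G)))
  rcases simple_model hGW hX Q le_rfl ⟨eQ⟩ with ⟨F, hF, hFf, hFo, -, hf⟩ | ⟨⟨f⟩⟩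
  · exact ⟨F, hF, hFf, hFo, hf⟩
  · refine absurd ?_ h8
    rw [Nat.card_congr f.toEquiv, nat_card_alternatingGroup, Nat.card_eq_fintype_card, Fintype.card_fin]
    decide

end Cfsg.Agent.Invol.GW.CentralFour
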