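import Cfsg.Agent.Lib.Invol.GW.Consumers.OutAdjust

/-!
# The only normal `SL₂` of odd degree
-/

set_option autoImplicit false

open scoped commutatorElement

namespace Cfsg.Agent.Invol.GW

open Subgroup

universe u

theorem two_ne_zero_of_odd {F : Type} [Field F] [Fintype F] (hodd : Odd (Fintype.card F)) : (2 : F) ≠ 0 := by
  intro h
  obtain ⟨p, hp⟩ := CharP.exists F
  obtain ⟨n, hprime, hn⟩ := FiniteField.card F p
  have h2 : p ∣ 2 := (CharP.cast_eq_zero_iff F p 2).1 (by exact_mod_cast h)
  have hp2 : p = 2 := (Nat.prime_dvd_prime_iff_eq hprime Nat.prime_two).1 h2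
  rw [hn, hp2, Nat.odd_pow_iff n.ne_zero] at hodd
  exact absurd hodd (by decide)

/-- Some squared commutator is non-trivial. -/
theorem sl_commutator_sq {F : Type} [Field F] [Fintype F] (hodd : Odd (Fintype.card F)) :
    ∃ u v : Matrix.SpecialLinearGroup (Fin 2) F, ⁅u, v⁆ * ⁅u, v⁆ ≠ 1 := by
  refine ⟨Fus.PSLTwo.mk2 1 1 0 1 (by ring), Fus.PSLTwo.mk2 1 0 1 1 (by ring), fun h => two_ne_zero_of_odd hodd ?_⟩
  have h' := congrFun (congrFun (congrArg
    (fun M : Matrix.SpecialLinearGroup (Fin 2) F => (M : Matrix (Fin 2) (Fin 2) F)) h) 1) 1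
  simp [commutatorElement_def, Matrix.SpecialLinearGroup.coe_inv, Matrix.adjugate_fin_two,
    Matrix.mul_apply, Fin.sum_univ_two] at h'
  linear_combination -h'

theorem card_SLTwo_ge {F : Type} [Field F] [Fintype F] (h3 : 3 < Fintype.card F) :
    24 < Nat.card (Matrix.SpecialLinearGroup (Fin 2) F) := by
  rw [Fus.PSLTwo.natCard_SL_two]
  have h1 : 3 * 5 ≤ (Fintype.card F - 1) * (Fintype.card F + 1) := Nat.mul_le_mul (by omega) (by omega)
  have h2 : 4 * (3 * 5) ≤ Fintype.card F * ((Fintype.card F - 1) * (Fintype.card F + 1)) :=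
    Nat.mul_le_mul (by omega) h1
  omega

theorem card_SLTwo_three {F : Type} [Field F] [Fintype F] (h : Fintype.card F = 3) :
    Nat.card (Matrix.SpecialLinearGroup (Fin 2) F) = 24 := by
  rw [Fus.PSLTwo.natCard_SL_two, h]

theorem three_le_card {F : Type} [Field F] [Fintype F] (hodd : Odd (Fintype.card F)) : 3 ≤ Fintype.card F := by
  have := Fintype.one_lt_card (α := F)
  obtain ⟨k, hk⟩ := hodd
  omega

/-- A perfect normal subgroup lies in the derived group. -/
theorem perfect_le_commutator {H : Type u} [Group H] (L : Subgroup H) {F : Type} [Field F] [Fintype F]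
    (h3 : 3 < Fintype.card F) (e : L ≃* Matrix.SpecialLinearGroup (Fin 2) F) : L ≤ commutator H := by
  have hL : commutator L = ⊤ := by
    refine Subgroup.map_injective (f := e.toMonoidHom) e.injective ?_
    rw [_root_.commutator_def, Subgroup.map_commutator, Subgroup.map_top_of_surjective _ e.surjective,
      ← _root_.commutator_def, SLTwo_perfect h3]
  calc L = (commutator L).map L.subtype := by rw [hL, ← MonoidHom.range_eq_map, Subgroup.range_subtype]
    _ ≤ commutator H := by
      rw [_root_.commutator_def, Subgroup.map_commutator, _root_.commutator_def]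
      exact Subgroup.commutator_mono le_top le_top

/-- With `SL₂(q)`, `q > 3`, as derived group, it is the only normal `SL₂`. -/
theorem unique_large {H : Type u} [Group H] [Finite H] {F : Type} [Field F] [Fintype F]
    (hodd : Odd (Fintype.card F)) (h3 : 3 < Fintype.card F)
    (e : commutator H ≃* Matrix.SpecialLinearGroup (Fin 2) F) (L₁ : Subgroup H) [L₁.Normal]
    {F₁ : Type} [Field F₁] [Fintype F₁] (hodd₁ : Odd (Fintype.card F₁))
    (e₁ : L₁ ≃* Matrix.SpecialLinearGroup (Fin 2) F₁) : L₁ = commutator H := by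
  haveI : IsSimpleGroup (Matrix.ProjectiveSpecialLinearGroup (Fin 2) F) :=
    Classical.PSL_isSimple le_rfl fun _ => by omega
  let N : Subgroup (Matrix.SpecialLinearGroup (Fin 2) F) := (L₁.subgroupOf (commutator H)).map e.toMonoidHom
  haveI : (L₁.subgroupOf (commutator H)).Normal := (inferInstance : L₁.Normal).subgroupOf _
  haveI : N.Normal := (inferInstance : (L₁.subgroupOf (commutator H)).Normal).map _ e.surjective
  by_cases hN : N ≤ center (Matrix.SpecialLinearGroup (Fin 2) F)
  · exfalso
    obtain ⟨u, v, huv⟩ := sl_commutator_sq hodd₁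
    apply huv
    let c : commutator H := ⟨⁅((e₁.symm u : L₁) : H), ((e₁.symm v : L₁) : H)⁆,
      Subgroup.commutator_mem_commutator (Subgroup.mem_top _) (Subgroup.mem_top _)⟩
    have hc : e c ∈ center (Matrix.SpecialLinearGroup (Fin 2) F) :=
      hN (Subgroup.mem_map_of_mem e.toMonoidHom (Subgroup.mem_subgroupOf.2 (⁅e₁.symm u, e₁.symm v⁆ : L₁).2))
    have h2 := congrArg Subtype.val (pow_card_eq_one' (x := (⟨e c, hc⟩ : center (Matrix.SpecialLinearGroup (Fin 2) F))))
    rw [card_center_SLTwo hodd, SubgroupClass.coe_pow, OneMemClass.coe_one, pow_two, ← map_mul,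
      map_eq_one_iff e e.injective] at h2
    apply e₁.symm.injective
    rw [map_mul, map_commutatorElement, map_one]
    have h3' := congrArg Subtype.val h2
    exact Subtype.ext h3'
  · have hNtop := Classical.SL_normal_eq_top (SLTwo_perfect h3) N hN
    have hle : commutator H ≤ L₁ := fun x hx => by
      have h1 : e ⟨x, hx⟩ ∈ N := hNtop ▸ Subgroup.mem_top _
      obtain ⟨y, hy, hye⟩ := h1
      have h2 : (y : H) = x := congrArg Subtype.val (e.injective hye)
      exact h2 ▸ hy
    refine le_antisymm (perfect_le_commutator L₁ ?_ e₁) hle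
    by_contra hlt
    have h1 := Nat.le_of_dvd Nat.card_pos (Subgroup.card_dvd_of_le hle)
    rw [Nat.card_congr e.toEquiv, Nat.card_congr e₁.toEquiv] at h1
    rw [card_SLTwo_three (F := F₁) (by have := three_le_card hodd₁; omega)] at h1
    have := card_SLTwo_ge h3
    omega

/-- With a normal subgroup of order 24 and 2-power index as derived group, it is the only normal `SL₂`. -/
theorem unique_small {H : Type u} [Group H] [Finite H] (K : Subgroup H) [K.Normal] {a : ℕ} (hidx : K.index = 2 ^ a)
    (hK : Nat.card K = 24) (hder : commutator H = K) (L₁ : Subgroup H)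
    {F₁ : Type} [Field F₁] [Fintype F₁] (hodd₁ : Odd (Fintype.card F₁))
    (e₁ : L₁ ≃* Matrix.SpecialLinearGroup (Fin 2) F₁) : L₁ = K := by
  have h13 := three_le_card hodd₁
  by_cases h3 : 3 < Fintype.card F₁
  · exfalso
    have h1 := Nat.le_of_dvd Nat.card_pos (Subgroup.card_dvd_of_le (hder ▸ perfect_le_commutator L₁ h3 e₁))
    rw [Nat.card_congr e₁.toEquiv, hK] at h1
    have := card_SLTwo_ge h3
    omega
  have hq : Fintype.card F₁ = 3 := by omega
  refine Subgroup.eq_of_le_of_card_ge ?_ (by rw [hK, Nat.card_congr e₁.toEquiv, card_SLTwo_three hq])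
  intro x hx
  suffices hN : (K.subgroupOf L₁).map e₁.toMonoidHom = ⊤ by
    obtain ⟨y, hy, hye⟩ := (hN ▸ Subgroup.mem_top (e₁ ⟨x, hx⟩) : e₁ ⟨x, hx⟩ ∈ (K.subgroupOf L₁).map e₁.toMonoidHom)
    have h2 : (y : H) = x := congrArg Subtype.val (e₁.injective hye)
    exact h2 ▸ hy
  rw [← top_le_iff, ← Classical.SL_closure_transvections, Subgroup.closure_le]
  rintro _ ⟨⟨i, j, hij, c⟩, rfl⟩
  show Matrix.SpecialLinearGroup.transvection hij c ∈ _
  refine ⟨e₁.symm (Matrix.SpecialLinearGroup.transvection hij c), ?_, e₁.apply_symm_apply _⟩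
  set y := e₁.symm (Matrix.SpecialLinearGroup.transvection hij c)
  have hy3 : y * y * y = 1 := by
    rw [← map_mul, ← map_mul, ← map_one e₁.symm]
    congr 1
    refine Subtype.ext ?_
    show Matrix.transvection i j c * Matrix.transvection i j c * Matrix.transvection i j c = 1
    rw [Matrix.transvection_mul_transvection_same _ _ hij, Matrix.transvection_mul_transvection_same _ _ hij]
    have h0 : c + c + c = 0 := by
      have h := Nat.cast_card_eq_zero F₁
      rw [hq] at h
      push_cast at h
      linear_combination c * h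
    rw [h0, Matrix.transvection_zero]
  show (y : H) ∈ K
  rw [← QuotientGroup.eq_one_iff, ← orderOf_eq_one_iff]
  refine Nat.eq_one_of_dvd_coprimes ((by norm_num : Nat.Coprime 3 2).pow_right a) ?_ ?_
  · refine orderOf_dvd_of_pow_eq_one ?_
    rw [pow_succ, pow_two, ← QuotientGroup.mk_mul, ← QuotientGroup.mk_mul,
      show (y : H) * y * y = 1 from congrArg Subtype.val hy3, QuotientGroup.mk_one]
  · rw [← hidx, Subgroup.index_eq_card]
    exact orderOf_dvd_natCard _

end Cfsg.Agent.Invol.GW
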