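import Cfsg.Agent.Lib.Invol.GW.Consumers.Basic
import Cfsg.Agent.Lib.Grp.AmbivalentSolvable
import Cfsg.Prelude.Def_SporadicB

/-!
# Perfect groups of 2-rank one, given the classification for dihedral Sylow subgroups (for S3099)
-/

set_option autoImplicit false

namespace Cfsg.Agent.Invol.GW

open Subgroup

universe u

theorem twoRankOne_quotient {X : Type u} [Group X] [Finite X] (h : BS.TwoRankOne X) (N : Subgroup X) [N.Normal]
    (hN : (Nat.card N).Coprime 2) : BS.TwoRankOne (X ⧸ N) := by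
  intro u v hu hv huv
  obtain ⟨x, hx, rfl⟩ := Cfsg.Agent.Grp.Ambivalent.exists_involution_lift N (Nat.coprime_two_right.1 hN) hu
  obtain ⟨y, hy, rfl⟩ := Cfsg.Agent.Grp.Ambivalent.exists_involution_lift N (Nat.coprime_two_right.1 hN) hv
  haveI : Fact (Nat.Prime 2) := ⟨Nat.prime_two⟩
  -- both lie in a Sylow subgroup of the quotient lifted from one of the group
  have hpg : IsPGroup 2 (Subgroup.zpowers (x : X ⧸ N) ⊔ Subgroup.zpowers (y : X ⧸ N) : Subgroup (X ⧸ N)) := by
    have hnorm : Subgroup.zpowers (x : X ⧸ N) ≤ Subgroup.normalizer (Subgroup.zpowers (y : X ⧸ N) : Set (X ⧸ N)) := by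
      refine le_trans ?_ (Subgroup.centralizer_le_normalizer _)
      rw [Subgroup.zpowers_le, Subgroup.mem_centralizer_iff]
      rintro _ ⟨k, rfl⟩
      exact (huv.zpow_right k).eq.symm
    exact (IsPGroup.of_card (n := 1) (by rw [Nat.card_zpowers, hu, pow_one])).to_sup_of_normal_right'
      (IsPGroup.of_card (n := 1) (by rw [Nat.card_zpowers, hv, pow_one])) hnorm
  obtain ⟨T, hT⟩ := hpg.exists_le_sylow
  obtain ⟨S, rfl⟩ := Sylow.mapSurjective_surjective (QuotientGroup.mk'_surjective N) 2 T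
  obtain ⟨e⟩ := sylow_mapSurjective_equiv S N hN
  have hS : ∀ a b : (S : Subgroup X), orderOf a = 2 → orderOf b = 2 → Commute a b → a = b := h.subgroup _
  have key := hS (e.symm ⟨(x : X ⧸ N), hT (le_sup_left (a := Subgroup.zpowers _) (Subgroup.mem_zpowers _))⟩)
    (e.symm ⟨(y : X ⧸ N), hT (le_sup_right (a := Subgroup.zpowers (x : X ⧸ N)) (Subgroup.mem_zpowers _))⟩)
    (by rw [MulEquiv.orderOf_eq, Subgroup.orderOf_mk]; exact hu)
    (by rw [MulEquiv.orderOf_eq, Subgroup.orderOf_mk]; exact hv)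
    ((show Commute (⟨(x : X ⧸ N), _⟩ : ((S.mapSurjective (QuotientGroup.mk'_surjective N) :
        Sylow 2 (X ⧸ N)) : Subgroup (X ⧸ N))) ⟨(y : X ⧸ N), _⟩ from Subtype.ext huv.eq).map e.symm.toMonoidHom)
  exact congrArg Subtype.val (e.symm.injective key)

/-- In a group of 2-rank one with trivial core, the involutions are central, so there is only one. -/
theorem central_involution {Y : Type u} [Group Y] [Finite Y] (h : BS.TwoRankOne Y)
    (hO : Cfsg.oddCore Y = ⊥) {z : Y} (hz : orderOf z = 2) :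
    z ∈ center Y ∧ ∀ w : Y, orderOf w = 2 → w = z := by
  haveI : Fact (Nat.Prime 2) := ⟨Nat.prime_two⟩
  have hc : z ∈ center Y := by
    refine Subgroup.mem_center_iff.2 fun g => ?_
    have h1 : z * g * z⁻¹ * g⁻¹ ∈ (⊥ : Subgroup Y) := hO ▸ BS.commutator_mem_oddCore _ Y rfl h z hz g
    have h2 := mul_inv_eq_one.1 (Subgroup.mem_bot.1 h1)
    exact (mul_inv_eq_iff_eq_mul.1 h2).symm
  exact ⟨hc, fun w hw => h w z hw hz (Subgroup.mem_center_iff.1 hc w)⟩

/-- The quotient of a perfect group of 2-rank one, with trivial core, by its involution. -/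
theorem perfect_rankOne_core (hGW : GWStatement.{u}) {Y : Type u} [Group Y] [Finite Y]
    (hp : commutator Y = ⊤) (hr : BS.TwoRankOne Y) (h2 : 2 ∣ Nat.card Y) (hO : Cfsg.oddCore Y = ⊥) :
    (∃ (F : Type) (_ : Field F) (_ : Fintype F), Odd (Fintype.card F) ∧ 3 < Fintype.card F ∧
        Nonempty (Y ≃* Matrix.SpecialLinearGroup (Fin 2) F)) ∨
      Cfsg.IsNonsplitDoubleCover Y ↥(alternatingGroup (Fin 7)) := by
  haveI : Fact (Nat.Prime 2) := ⟨Nat.prime_two⟩
  obtain ⟨z, hz⟩ := exists_prime_orderOf_dvd_card' (G := Y) 2 h2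
  obtain ⟨hzc, huniq⟩ := central_involution hr hO hz
  let Z := Subgroup.zpowers z
  haveI : Z.Normal := ⟨fun a ha g => by
    have hac : a ∈ center Y := Subgroup.zpowers_le.2 hzc ha
    rwa [Subgroup.mem_center_iff.1 hac g, mul_inv_cancel_right]⟩
  have hZc : Z ≤ center Y := Subgroup.zpowers_le.2 hzc
  have hZcard : Nat.card Z = 2 := by rw [Nat.card_zpowers, hz]
  obtain ⟨S⟩ := (inferInstance : Nonempty (Sylow 2 Y))
  have hzS : ∀ T : Sylow 2 Y, z ∈ (T : Subgroup Y) := fun T => by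
    obtain ⟨T', hT'⟩ := (IsPGroup.of_card (n := 1) (by rw [pow_one]; exact hZcard) :
      IsPGroup 2 Z).exists_le_sylow
    obtain ⟨g, hg⟩ := MulAction.exists_smul_eq Y T' T
    rw [← hg, Sylow.coe_subgroup_smul, Subgroup.mem_pointwise_smul_iff_inv_smul_mem]
    simpa [Subgroup.mem_center_iff.1 hzc] using hT' (Subgroup.mem_zpowers z)
  have hnc : ¬ IsCyclic (S : Subgroup Y) := fun hc => by
    haveI := subsingleton_of_cyclic hp S hc
    rw [Nat.card_unique] at h2
    omega
  obtain ⟨m, ⟨e⟩⟩ : ∃ m : ℕ, Nonempty ((S : Subgroup Y) ≃* QuaternionGroup (2 ^ (m + 1))) :=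
    (Cfsg.Agent.Grp.Ambivalent.cyclic_or_quaternion S.isPGroup' fun a b ha hb => Subtype.ext
      ((huniq a (by rw [Subgroup.orderOf_coe, ha])).trans
        (huniq b (by rw [Subgroup.orderOf_coe, hb])).symm)).resolve_left hnc
  let π := QuotientGroup.mk' Z
  let T : Sylow 2 (Y ⧸ Z) := S.mapSurjective (QuotientGroup.mk'_surjective Z)
  have hZS : Nat.card (Z.subgroupOf (S : Subgroup Y)) = 2 := by
    rw [Nat.card_congr (Subgroup.subgroupOfEquivOfLe (Subgroup.zpowers_le.2 (hzS S))).toEquiv, hZcard]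
  haveI : (Z.subgroupOf (S : Subgroup Y)).Normal := (inferInstance : Z.Normal).subgroupOf _
  obtain ⟨eq⟩ := quotient_two_dihedral e (Z.subgroupOf (S : Subgroup Y)) hZS
  have eT : (T : Subgroup (Y ⧸ Z)) ≃* DihedralGroup (2 ^ (m + 1)) := by
    have e1 := QuotientGroup.quotientKerEquivRange (π.comp (S : Subgroup Y).subtype)
    have e2 : (π.comp (S : Subgroup Y).subtype).range = (T : Subgroup (Y ⧸ Z)) := by
      rw [MonoidHom.range_comp, Subgroup.range_subtype]
      rfl
    have e3 : (π.comp (S : Subgroup Y).subtype).ker = Z.subgroupOf (S : Subgroup Y) := by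
      ext x
      rw [MonoidHom.mem_ker, Subgroup.mem_subgroupOf]
      exact QuotientGroup.eq_one_iff _
    exact ((MulEquiv.subgroupCongr e2).symm.trans (e1.symm.trans (QuotientGroup.quotientMulEquivOfEq e3))).trans eq
  haveI : Group.IsPerfect (Y ⧸ Z) := ⟨commutator_quotient Z hp⟩
  have hn : 2 ≤ 2 ^ (m + 1) := by
    calc 2 = 2 ^ 1 := rfl
      _ ≤ 2 ^ (m + 1) := Nat.pow_le_pow_right two_pos (by omega)
  have hOq := oddCore_quotient_central hO Z hZc hZcard
  have key := hGW (X := Y ⧸ Z) T (2 ^ (m + 1)) hn ⟨eT⟩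
  have strip : ∀ {Q : Type} [Group Q], Nonempty ((Y ⧸ Z) ⧸ Cfsg.oddCore (Y ⧸ Z) ≃* Q) →
      Nonempty (Y ⧸ Z ≃* Q) := fun {Q} _ ⟨f⟩ =>
    ⟨((QuotientGroup.quotientMulEquivOfEq hOq).trans QuotientGroup.quotientBot).symm.trans f⟩
  rcases key with ⟨F, hF, hFf, hodd, h3, hf⟩ | hf
  · obtain ⟨f⟩ := strip hf
    let σ := f.toMonoidHom.comp π
    have hker : σ.ker = Z := by
      ext x
      rw [MonoidHom.mem_ker]
      exact (map_eq_one_iff f f.injective).trans (QuotientGroup.eq_one_iff x)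
    exact Or.inl ⟨F, hF, hFf, hodd, h3, iso_SLTwo hp hodd h3 σ
      (f.surjective.comp (QuotientGroup.mk'_surjective Z)) (hker.le.trans hZc) (by rw [hker, hZcard])⟩
  · obtain ⟨f⟩ := strip hf
    have hA : center (alternatingGroup (Fin 7)) = ⊥ :=
      alternatingGroup.center_eq_bot (by simp)
    have hZeq : center Y = Z := by
      refine le_antisymm (fun x hx => ?_) hZc
      have hsurj : Function.Surjective (f.toMonoidHom.comp π) := f.surjective.comp (QuotientGroup.mk'_surjective Z)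
      have h1 : f (π x) ∈ center (alternatingGroup (Fin 7)) := Subgroup.mem_center_iff.2 fun g => by
        obtain ⟨y, rfl⟩ := hsurj g
        simp only [MonoidHom.comp_apply, MulEquiv.coe_toMonoidHom, ← map_mul, Subgroup.mem_center_iff.1 hx y]
      rw [hA, Subgroup.mem_bot, map_eq_one_iff f f.injective] at h1
      exact (QuotientGroup.eq_one_iff x).1 h1
    refine Or.inr ⟨by rw [hZeq, hZcard], ⟨(QuotientGroup.quotientMulEquivOfEq hZeq).trans f⟩, fun L hL => ?_⟩
    have hLA : Nat.card L = Nat.card (alternatingGroup (Fin 7)) := by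
      rw [← hL.symm.index_eq_card, hZeq, ← Nat.card_congr f.toEquiv]
      exact (Subgroup.index_eq_card Z)
    have hev : 2 ∣ Nat.card L := by
      rw [hLA, nat_card_alternatingGroup, Nat.card_fin]
      decide
    obtain ⟨w, hw⟩ := exists_prime_orderOf_dvd_card' (G := L) 2 hev
    have hwz : (w : Y) = z := huniq _ (by rw [Subgroup.orderOf_coe, hw])
    have : (w : Y) ∈ center Y ⊓ L := ⟨hwz ▸ hzc, w.2⟩
    rw [hL.disjoint.eq_bot, Subgroup.mem_bot] at this
    rw [← Subgroup.orderOf_coe, this, orderOf_one] at hw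
    omega

/-- S3099, given S0483. -/
theorem perfect_pRankLE_one (hGW : GWStatement.{u}) {X : Type u} [Group X] [Finite X] (hP : Group.IsPerfect X)
    (h1 : Cfsg.PRankLE 2 1 X) (h2 : Even (Nat.card X)) :
    (∃ (F : Type) (_ : Field F) (_ : Fintype F), Odd (Fintype.card F) ∧ 3 < Fintype.card F ∧
        Nonempty (X ⧸ Cfsg.oddCore X ≃* Matrix.SpecialLinearGroup (Fin 2) F)) ∨
      Cfsg.IsNonsplitDoubleCover (X ⧸ Cfsg.oddCore X) ↥(alternatingGroup (Fin 7)) := by
  haveI : Fact (Nat.Prime 2) := ⟨Nat.prime_two⟩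
  have hn : (Cfsg.pPrimeCore 2 X).Normal := Grp.pPrimeCore_isNormal
  have hcop : (Nat.card (Cfsg.pPrimeCore 2 X)).Coprime 2 := Grp.pPrimeCore_coprime
  refine perfect_rankOne_core hGW (commutator_quotient _ hP.commutator_eq_top)
    (twoRankOne_quotient (twoRankOne_of_pRankLE h1) _ hcop) ?_ Grp.pPrimeCore_quotient_eq_bot
  have h := Subgroup.card_eq_card_quotient_mul_card_subgroup (Cfsg.pPrimeCore 2 X)
  have h' : 2 ∣ Nat.card (X ⧸ Cfsg.pPrimeCore 2 X) * Nat.card (Cfsg.pPrimeCore 2 X) :=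
    h ▸ even_iff_two_dvd.1 h2
  exact (Nat.Prime.dvd_mul Nat.prime_two).1 h' |>.resolve_right
    ((Nat.Prime.coprime_iff_not_dvd Nat.prime_two).1 hcop.symm)

end Cfsg.Agent.Invol.GW
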