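import Cfsg.Agent.Lib.Invol.GW.Consumers.Basic
import Cfsg.Agent.Lib.Invol.GW.Endgame
import Cfsg.Agent.Lib.Transfer.TwoByCyclic
import Cfsg.Agent.Lib.Grp.Pyramidal.CentCase

/-!
# The socle of a non-solvable group with dihedral Sylow 2-subgroups and trivial core, given S0483
-/

set_option autoImplicit false

namespace Cfsg.Agent.Invol.GW

open Subgroup

universe u

theorem exists_two_pow {G : Type u} [Group G] [Finite G] {H : Subgroup G} (hH : IsPGroup 2 H) {n : ℕ}
    (e : H ≃* DihedralGroup n) : ∃ m : ℕ, n = 2 ^ m := by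
  haveI : Fact (Nat.Prime 2) := ⟨Nat.prime_two⟩
  obtain ⟨k, hk⟩ := IsPGroup.iff_card.1 hH
  rw [Nat.card_congr e.toEquiv, DihedralGroup.nat_card] at hk
  obtain ⟨m, -, hm⟩ := (Nat.dvd_prime_pow Nat.prime_two).1 (Dvd.intro_left 2 hk : n ∣ 2 ^ k)
  exact ⟨m, hm⟩

/-- An elementary abelian subgroup of a dihedral 2-group has at most four elements. -/
theorem card_elementary_le_four {X : Type u} [Group X] [Finite X] {m : ℕ} (e : X ≃* DihedralGroup (2 ^ m))
    (E : Subgroup X) (hE : ∀ x ∈ E, x * x = 1) : Nat.card E ≤ 4 := by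
  haveI : Fact (Nat.Prime 2) := ⟨Nat.prime_two⟩
  rcases Transfer.TwoByCyclic.dihedral_subgroup e E with hc | ⟨j, ⟨f⟩⟩
  · obtain ⟨g, hg⟩ := IsCyclic.exists_generator (α := E)
    have h1 : Nat.card E = orderOf g := (orderOf_eq_card_of_forall_mem_zpowers hg).symm
    have h2 : orderOf g ∣ 2 := orderOf_dvd_of_pow_eq_one (by
      rw [pow_two]; exact Subtype.ext (hE g g.2))
    have := Nat.le_of_dvd two_pos h2
    omega
  · haveI : NeZero (2 ^ j) := ⟨by positivity⟩
    have h1 : orderOf (DihedralGroup.r (1 : ZMod (2 ^ j))) ∣ 2 := orderOf_dvd_of_pow_eq_one (by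
      refine f.symm.injective ?_
      rw [map_pow, map_one, pow_two]
      exact Subtype.ext (hE _ (f.symm _).2))
    rw [DihedralGroup.orderOf_r_one] at h1
    have h2 := Nat.le_of_dvd two_pos h1
    rw [Nat.card_congr f.toEquiv, DihedralGroup.nat_card]
    omega

theorem isSimple_of_model {Y : Type u} [Group Y] (h : IsPSLTwoOrSeven Y) : IsSimpleGroup Y := by
  rcases h with ⟨F, hF, hFf, hodd, h3, ⟨f⟩⟩ | h7
  · haveI : IsSimpleGroup (Matrix.ProjectiveSpecialLinearGroup (Fin 2) F) :=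
      Classical.PSL_isSimple le_rfl fun _ => by omega
    exact f.isSimpleGroup
  · obtain ⟨f⟩ := h7
    haveI : IsSimpleGroup (alternatingGroup (Fin 7)) := alternatingGroup.isSimpleGroup (by simp)
    exact f.isSimpleGroup

/-- A non-solvable group with trivial core and dihedral Sylow 2-subgroups is almost simple over `PSL₂(q)` or the
alternating group of degree seven. -/
theorem exists_socle (hGW : GWStatement.{u}) {G : Type u} [Group G] [Finite G] (hO : Cfsg.oddCore G = ⊥)
    (hns : ¬ Group.IsSolvable G) (S : Sylow 2 G) {n : ℕ} (eS : (S : Subgroup G) ≃* DihedralGroup n) :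
    ∃ L : Subgroup G, L.Normal ∧ IsPSLTwoOrSeven L ∧ centralizer (L : Set G) = ⊥ := by
  haveI : Fact (Nat.Prime 2) := ⟨Nat.prime_two⟩
  obtain ⟨m, rfl⟩ := exists_two_pow S.isPGroup' eS
  obtain ⟨L, hLn, -, hLns, hLp⟩ := Grp.Pyramidal.exists_perfect_normal (G := G) (C := ⊤)
    (fun h => haveI := h; hns (Group.isSolvable_of_surjective (Subgroup.topEquiv (G := G)).surjective (f := (Subgroup.topEquiv (G := G)).toMonoidHom)))
  haveI := hLn
  have hLc : commutator L = ⊤ := by
    refine Subgroup.map_injective L.subtype_injective ?_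
    rw [Subgroup.map_subtype_commutator, hLp, ← MonoidHom.range_eq_map, Subgroup.range_subtype]
  haveI : Group.IsPerfect L := ⟨hLc⟩
  have hLO : Cfsg.oddCore L = ⊥ := by
    refine (Subgroup.map_eq_bot_iff_of_injective _ L.subtype_injective).1 (eq_bot_iff.2 ?_)
    show (Cfsg.pPrimeCore 2 L).map L.subtype ≤ ⊥
    rw [Grp.pPrimeCore_map_eq]
    exact inf_le_left.trans hO.le
  obtain ⟨T⟩ := (inferInstance : Nonempty (Sylow 2 L))
  obtain ⟨S', hS'⟩ := (T.isPGroup'.map L.subtype).exists_le_sylow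
  let eS' : (S' : Subgroup G) ≃* DihedralGroup (2 ^ m) := (Sylow.equiv S' S).trans eS
  let eT : (T : Subgroup L) ≃* ((T : Subgroup L).map L.subtype).subgroupOf (S' : Subgroup G) :=
    ((T : Subgroup L).equivMapOfInjective L.subtype L.subtype_injective).trans (Subgroup.subgroupOfEquivOfLe hS').symm
  obtain ⟨j, hj⟩ : ∃ j, Nonempty ((T : Subgroup L) ≃* DihedralGroup (2 ^ j)) := by
    rcases Transfer.TwoByCyclic.dihedral_subgroup eS' (((T : Subgroup L).map L.subtype).subgroupOf
      (S' : Subgroup G)) with hc | ⟨j, ⟨f⟩⟩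
    · exfalso
      haveI : IsCyclic (T : Subgroup L) := isCyclic_of_surjective eT.symm eT.symm.surjective
      haveI := subsingleton_of_cyclic hLc T inferInstance
      exact hLns inferInstance
    · exact ⟨j, ⟨eT.trans f⟩⟩
  obtain ⟨eTj⟩ := hj
  have hj1 : 1 ≤ j := by
    rcases Nat.eq_zero_or_pos j with rfl | h
    · exfalso
      haveI := isCyclic_of_prime_card (α := DihedralGroup (2 ^ 0)) (p := 2)
        (by rw [DihedralGroup.nat_card]; rfl)
      haveI : IsCyclic (T : Subgroup L) := isCyclic_of_surjective eTj.symm eTj.symm.surjective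
      haveI := subsingleton_of_cyclic hLc T inferInstance
      exact hLns inferInstance
    · exact h
  have hn2 : 2 ≤ 2 ^ j := Nat.le_self_pow (by omega) 2
  have hmodel : IsPSLTwoOrSeven L := by
    have strip : ∀ {Q : Type} [Group Q], Nonempty (L ⧸ Cfsg.oddCore L ≃* Q) → Nonempty (L ≃* Q) :=
      fun {Q} _ ⟨f⟩ =>
        ⟨((QuotientGroup.quotientMulEquivOfEq hLO).trans QuotientGroup.quotientBot).symm.trans f⟩
    rcases hGW (X := L) T (2 ^ j) hn2 ⟨eTj⟩ with ⟨F, hF, hFf, hodd, h3, hf⟩ | hf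
    · exact Or.inl ⟨F, hF, hFf, hodd, h3, strip hf⟩
    · exact Or.inr (strip hf)
  refine ⟨L, hLn, hmodel, ?_⟩
  haveI := isSimple_of_model hmodel
  have hZ : center L = ⊥ := ((inferInstance : (center L).Normal).eq_bot_or_eq_top).resolve_right fun h =>
    hLns (Group.isSolvable_of_comm fun a b => (Subgroup.mem_center_iff.1 (h ▸ Subgroup.mem_top b) a))
  have hdis : ∀ x ∈ centralizer (L : Set G), x ∈ L → x = 1 := fun x hx hxL => by
    have : (⟨x, hxL⟩ : L) ∈ center L :=
      Subgroup.mem_center_iff.2 fun y => Subtype.ext (Subgroup.mem_centralizer_iff.1 hx y y.2)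
    rw [hZ, Subgroup.mem_bot] at this
    exact congrArg Subtype.val this
  refine eq_bot_iff.2 ((Grp.le_pPrimeCore (inferInstance : (centralizer (L : Set G)).Normal) ?_).trans hO.le)
  rw [Nat.coprime_two_right, ← Nat.not_even_iff_odd, even_iff_two_dvd]
  intro hev
  obtain ⟨⟨c, hcC⟩, hc⟩ := exists_prime_orderOf_dvd_card' (G := centralizer (L : Set G)) 2 hev
  rw [Subgroup.orderOf_mk] at hc
  -- two commuting involutions of `L`
  haveI : NeZero (2 ^ j) := ⟨by positivity⟩
  obtain ⟨k, hk⟩ : ∃ k, 2 ^ j = 2 * k := ⟨2 ^ (j - 1), by rw [← pow_succ', Nat.sub_add_cancel hj1]⟩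
  have hkk : (k : ZMod (2 ^ j)) + k = 0 := by
    rw [← Nat.cast_add, ← two_mul, ← hk, ZMod.natCast_self]
  have hk0 : (k : ZMod (2 ^ j)) ≠ 0 := fun h => by
    rw [ZMod.natCast_eq_zero_iff, hk] at h
    have := Nat.le_of_dvd (by omega) h
    omega
  let φ : DihedralGroup (2 ^ j) →* G := (L.subtype.comp (T : Subgroup L).subtype).comp eTj.symm.toMonoidHom
  have hφ : Function.Injective φ :=
    (L.subtype_injective.comp (T : Subgroup L).subtype_injective).comp eTj.symm.injective
  have hφL : ∀ x, φ x ∈ L := fun x => (((eTj.symm x : (T : Subgroup L)) : L)).2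
  set a := φ (DihedralGroup.r (k : ZMod (2 ^ j))) with ha
  set b := φ (DihedralGroup.sr (0 : ZMod (2 ^ j))) with hb
  have haa : a * a = 1 := by rw [ha, ← map_mul, DihedralGroup.r_mul_r, hkk, ← DihedralGroup.one_def, map_one]
  have hbb : b * b = 1 := by rw [hb, ← map_mul, DihedralGroup.sr_mul_self, map_one]
  have hab : a * b = b * a := by
    rw [ha, hb, ← map_mul, ← map_mul, DihedralGroup.r_mul_sr, DihedralGroup.sr_mul_r]
    congr 2
    linear_combination -hkk
  have ha1 : a ≠ 1 := fun h => hk0 (DihedralGroup.r.inj (by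
    rw [← DihedralGroup.one_def]; exact hφ (h.trans (map_one φ).symm)))
  have hb1 : b ≠ 1 := fun h => by
    have := hφ (h.trans (map_one φ).symm)
    rw [DihedralGroup.one_def] at this
    cases this
  have hne : a ≠ b := fun h => by cases hφ h
  obtain ⟨K, hK4, hKsq, hKmem⟩ := Transfer.TwoByCyclic.exists_klein haa hbb hab ha1 hb1 hne
  have hKL : ∀ x ∈ K, x ∈ L := by
    intro x hx
    rcases (hKmem x).1 hx with rfl | rfl | rfl | rfl
    exacts [L.one_mem, hφL _, hφL _, L.mul_mem (hφL _) (hφL _)]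
  have hcc : c * c = 1 := Invol.mul_self_of_orderOf_two hc
  have hcK : ∀ x ∈ K, c * x = x * c := fun x hx => (Subgroup.mem_centralizer_iff.1 hcC x (hKL x hx)).symm
  let E : Subgroup G :=
    { carrier := {x | ∃ y ∈ K, x = y ∨ x = y * c}
      one_mem' := ⟨1, K.one_mem, Or.inl rfl⟩
      mul_mem' := by
        rintro v w ⟨y, hy, hv⟩ ⟨y', hy', hw⟩
        rcases hv with hv | hv <;> rcases hw with hw | hw <;> rw [hv, hw]
        · exact ⟨y * y', K.mul_mem hy hy', Or.inl rfl⟩
        · exact ⟨y * y', K.mul_mem hy hy', Or.inr (mul_assoc _ _ _).symm⟩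
        · exact ⟨y * y', K.mul_mem hy hy', Or.inr (by rw [mul_assoc, hcK y' hy', mul_assoc])⟩
        · exact ⟨y * y', K.mul_mem hy hy', Or.inl (by
            rw [mul_assoc, ← mul_assoc c y' c, hcK y' hy', mul_assoc y' c c, hcc, mul_one])⟩
      inv_mem' := by
        rintro v ⟨y, hy, hv⟩
        rcases hv with hv | hv <;> rw [hv]
        · exact ⟨y⁻¹, K.inv_mem hy, Or.inl rfl⟩
        · refine ⟨y⁻¹, K.inv_mem hy, Or.inr ?_⟩
          rw [mul_inv_rev, inv_eq_of_mul_eq_one_right hcc, hcK _ (K.inv_mem hy)] }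
  have hEsq : ∀ x ∈ E, x * x = 1 := by
    rintro v ⟨y, hy, hv⟩
    rcases hv with hv | hv <;> rw [hv]
    · rw [← pow_two]; exact hKsq _ hy
    · rw [mul_assoc, ← mul_assoc c, hcK y hy, mul_assoc y c c, hcc, mul_one, ← pow_two]; exact hKsq _ hy
  have hEp : IsPGroup 2 E := fun x => ⟨1, by rw [pow_one, pow_two]; exact Subtype.ext (hEsq x x.2)⟩
  obtain ⟨R, hR⟩ := hEp.exists_le_sylow
  have h4 := card_elementary_le_four ((Sylow.equiv R S).trans eS) (E.subgroupOf (R : Subgroup G))
    fun x hx => Subtype.ext (hEsq x hx)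
  rw [Nat.card_congr (Subgroup.subgroupOfEquivOfLe hR).toEquiv] at h4
  have hKE : K ≤ E := fun x hx => ⟨x, hx, Or.inl rfl⟩
  have heq := Subgroup.eq_of_le_of_card_ge hKE (by rw [hK4]; exact h4)
  have hcmem : c ∈ K := heq ▸ (⟨1, K.one_mem, Or.inr (one_mul c).symm⟩ : c ∈ E)
  have hc1 := hdis c hcC (hKL c hcmem)
  rw [hc1, orderOf_one] at hc
  omega

end Cfsg.Agent.Invol.GW
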