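import Cfsg.Agent.Lib.Invol.GW.Consumers.CentSmall
import Cfsg.Agent.Lib.Invol.GW.Consumers.CentUnique
import Cfsg.Agent.Lib.Invol.GW.Consumers.Socle
import Cfsg.Agent.Lib.Invol.GW.Consumers.RankOne
import Cfsg.Agent.S1213

/-!
# Groups with quasi-dihedral or wreathed Sylow subgroups having a quaternion normal section (for S1216, S1240)
-/

set_option autoImplicit false

open scoped commutatorElement

namespace Cfsg.Agent.Invol.GW

open Subgroup

universe u

/-- The derived group is `SL₂(q)`, and it is the only normal subgroup of this shape. -/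
theorem cent_struct (hGW : GWStatement.{u}) {H : Type u} [Group H] [Finite H] (S : Sylow 2 H)
    (hS : Cfsg.IsQuasiDihedral (S : Subgroup H) ∨ Cfsg.IsWreathed (S : Subgroup H)) (hO : Cfsg.oddCore H = ⊥)
    (K : Subgroup H) (hKn : K.Normal) (hidx : ∃ a : ℕ, K.index = 2 ^ a) (hK2 : ∀ M : Subgroup K, M.index ≠ 2)
    (hQ : ∀ P : Sylow 2 K, ∃ m : ℕ, 1 ≤ m ∧ Nonempty ((P : Subgroup K) ≃* QuaternionGroup (2 ^ m))) :
    (∃ (F : Type) (_ : Field F) (_ : Fintype F), Odd (Fintype.card F) ∧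
        Nonempty (commutator H ≃* Matrix.SpecialLinearGroup (Fin 2) F)) ∧
      ∀ L₁ : Subgroup H, L₁.Normal → (∃ (F : Type) (_ : Field F) (_ : Fintype F), Odd (Fintype.card F) ∧
        Nonempty (L₁ ≃* Matrix.SpecialLinearGroup (Fin 2) F)) → L₁ = commutator H := by
  haveI : Fact (Nat.Prime 2) := ⟨Nat.prime_two⟩
  haveI := hKn
  obtain ⟨a, ha⟩ := hidx
  have hodd' : ¬ 2 ∣ ((S : Subgroup H).subgroupOf K).index := Grp.sylow_inf_normal_relIndex S K
  let P : Sylow 2 K := ((S.isPGroup').comap_of_injective K.subtype K.subtype_injective :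
    IsPGroup 2 ((S : Subgroup H).subgroupOf K)).toSylow hodd'
  have hP : (P : Subgroup K) = (S : Subgroup H).subgroupOf K := rfl
  obtain ⟨m, hm, ⟨eP⟩⟩ := hQ P
  haveI : NeZero (2 ^ m) := ⟨by positivity⟩
  -- the group is covered by the Sylow subgroup and the normal one
  have hsup : ∀ h : H, ∃ s ∈ (S : Subgroup H), ∃ k ∈ K, h = s * k := by
    have h1 : ((S : Subgroup H) ⊔ K).index ∣ 2 ^ a := ha ▸ Subgroup.index_dvd_of_le le_sup_right
    have h2 : ((S : Subgroup H) ⊔ K).index ∣ (S : Subgroup H).index := Subgroup.index_dvd_of_le le_sup_left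
    have h3 : ((S : Subgroup H) ⊔ K).index = 1 := Nat.eq_one_of_dvd_coprimes
      (Nat.Coprime.pow_right a ((Nat.Prime.coprime_iff_not_dvd Nat.prime_two).2 S.not_dvd_index).symm) h2 h1
    intro h
    obtain ⟨s, hs, k, hk, hsk⟩ := Subgroup.mem_sup_of_normal_right.1
      ((Subgroup.index_eq_one.1 h3).symm ▸ Subgroup.mem_top h : h ∈ (S : Subgroup H) ⊔ K)
    exact ⟨s, hs, k, hk, hsk.symm⟩
  let T : Subgroup (S : Subgroup H) := K.subgroupOf (S : Subgroup H)
  haveI : T.Normal := hKn.subgroupOf _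
  obtain ⟨⟨p₁, p₂, hpp⟩, hPu⟩ := quat_facts hm eP
  have hTnc : ∃ a ∈ T, ∃ b ∈ T, a * b ≠ b * a := by
    refine ⟨⟨((p₁ : K) : H), Subgroup.mem_subgroupOf.1 p₁.2⟩, Subgroup.mem_subgroupOf.2 (p₁ : K).2,
      ⟨((p₂ : K) : H), Subgroup.mem_subgroupOf.1 p₂.2⟩, Subgroup.mem_subgroupOf.2 (p₂ : K).2, fun h => hpp ?_⟩
    exact Subtype.ext (Subtype.ext (congrArg (fun s : (S : Subgroup H) => (s : H)) h))
  have hderK : commutator H ≤ K := by
    let f : (S : Subgroup H) →* H ⧸ K := (QuotientGroup.mk' K).comp (S : Subgroup H).subtype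
    have hf : Function.Surjective f := fun q => by
      obtain ⟨h, rfl⟩ := QuotientGroup.mk'_surjective K q
      obtain ⟨s, hs, k, hk, rfl⟩ := hsup h
      refine ⟨⟨s, hs⟩, ?_⟩
      show (QuotientGroup.mk s : H ⧸ K) = QuotientGroup.mk (s * k)
      rw [QuotientGroup.eq]
      simpa using hk
    have h1 : commutator (H ⧸ K) = ⊥ := by
      rw [_root_.commutator_def, ← Subgroup.map_top_of_surjective f hf, ← Subgroup.map_commutator,
        ← _root_.commutator_def, eq_bot_iff]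
      rintro _ ⟨s, hs, rfl⟩
      exact Subgroup.mem_bot.2 ((QuotientGroup.eq_one_iff _).2
        (Subgroup.mem_subgroupOf.1 (commutator_le_of_normal hS T hTnc hs)))
    intro g hg
    have h2 : QuotientGroup.mk' K g ∈ (commutator H).map (QuotientGroup.mk' K) := Subgroup.mem_map_of_mem _ hg
    rw [_root_.commutator_def, Subgroup.map_commutator, Subgroup.map_top_of_surjective _
      (QuotientGroup.mk'_surjective K), ← _root_.commutator_def, h1, Subgroup.mem_bot] at h2
    exact (QuotientGroup.eq_one_iff g).1 h2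
  -- the kernel has trivial core and a single involution
  have hOK : Cfsg.oddCore K = ⊥ := by
    refine (Subgroup.map_eq_bot_iff_of_injective _ K.subtype_injective).1 (eq_bot_iff.2 ?_)
    show (Cfsg.pPrimeCore 2 K).map K.subtype ≤ ⊥
    rw [Grp.pPrimeCore_map_eq]
    exact inf_le_left.trans hO.le
  have hr : BS.TwoRankOne K := BS.twoRankOne_of_sylow P fun u hu v hv hu2 hv2 =>
    congrArg Subtype.val (hPu ⟨u, hu⟩ ⟨v, hv⟩ (by rw [Subgroup.orderOf_mk]; exact hu2)
      (by rw [Subgroup.orderOf_mk]; exact hv2))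
  have hPcard : Nat.card (P : Subgroup K) = 4 * 2 ^ m := by
    rw [Nat.card_congr eP.toEquiv, Nat.card_eq_fintype_card, QuaternionGroup.card]
  have h2K : 2 ∣ Nat.card K := (Dvd.intro (2 * 2 ^ m) (by rw [hPcard]; ring)).trans
    (Subgroup.card_subgroup_dvd_card (P : Subgroup K))
  obtain ⟨z, hz⟩ := exists_prime_orderOf_dvd_card' (G := K) 2 h2K
  obtain ⟨hzc, hzu⟩ := central_involution hr hOK hz
  have huniq : ∀ x y : K, orderOf x = 2 → orderOf y = 2 → x = y := fun x y hx hy =>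
    (hzu x hx).trans (hzu y hy).symm
  let Z := Subgroup.zpowers z
  have hZc : Z ≤ center K := Subgroup.zpowers_le.2 hzc
  haveI : Z.Normal := ⟨fun x hx g => by rwa [Subgroup.mem_center_iff.1 (hZc hx) g, mul_inv_cancel_right]⟩
  have hZcard : Nat.card Z = 2 := by rw [Nat.card_zpowers, hz]
  have hZmap : ∀ h : H, Z.map (MulAut.conjNormal h : K ≃* K).toMonoidHom = Z := fun h => by
    rw [MonoidHom.map_zpowers]
    congr 1
    exact hzu _ (by rw [MulEquiv.coe_toMonoidHom, MulEquiv.orderOf_eq, hz])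
  by_cases hsol : Group.IsSolvable (K ⧸ Z)
  · obtain ⟨h24, hder, ⟨e⟩⟩ := small_case S hS K hsup hderK hK2 hOK Z hZc hZcard hZmap P hP hm eP huniq hsol
    refine ⟨⟨ZMod 3, inferInstance, inferInstance, ⟨1, by simp⟩, ⟨(MulEquiv.subgroupCongr hder).trans e⟩⟩, ?_⟩
    rintro L₁ - ⟨F₁, hF₁, hF₁', hodd₁, ⟨e₁⟩⟩
    rw [hder]
    exact unique_small K ha h24 hder L₁ hodd₁ e₁
  -- the socle of the quotient
  have hOQ : Cfsg.oddCore (K ⧸ Z) = ⊥ := oddCore_quotient_central hOK Z hZc hZcard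
  have hZP : Z ≤ (P : Subgroup K) := by
    obtain ⟨w, hw⟩ := exists_prime_orderOf_dvd_card' (G := (P : Subgroup K)) 2
      (Dvd.intro (2 * 2 ^ m) (by rw [hPcard]; ring))
    rw [Subgroup.zpowers_le, ← hzu w (by rw [Subgroup.orderOf_coe, hw])]
    exact w.2
  obtain ⟨eY⟩ := quotient_sylow_dihedral P eP Z hZcard hZP
  obtain ⟨L, hLn, hLm, hCL⟩ := exists_socle hGW hOQ hsol _ eY
  haveI := hLn
  rcases hLm with ⟨F, hF, hFf, hodd, h3, ⟨f⟩⟩ | h7
  swap
  · exfalso
    obtain ⟨f⟩ := h7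
    let ψ : (K ⧸ Z) →* MulAut L := MulAut.conjNormal
    have hψ : Function.Injective ψ := by
      rw [← MonoidHom.ker_eq_bot_iff, eq_bot_iff, ← hCL]
      intro q hq
      refine Subgroup.mem_centralizer_iff.2 fun l hl => ?_
      have h2 := congrArg Subtype.val (DFunLike.congr_fun (show ψ q = 1 from hq) ⟨l, hl⟩)
      rw [MulAut.conjNormal_apply] at h2
      exact (mul_inv_eq_iff_eq_mul.1 h2).symm
    have hA : Nat.card (MulAut L) = 5040 := by
      rw [Nat.card_congr (MulAut.congr f).toEquiv,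
        ← Nat.card_congr (Equiv.ofBijective _ (S2119.result 7 (by norm_num) (by norm_num))), Nat.card_perm,
        Nat.card_fin]
      rfl
    have hQd : Nat.card (K ⧸ Z) ∣ 5040 := hA ▸ Subgroup.card_dvd_of_injective ψ hψ
    have hLi := L.card_mul_index
    rw [Nat.card_congr f.toEquiv, card_alt_seven] at hLi
    rw [← hLi, show (5040 : ℕ) = 2520 * 2 from rfl, Nat.mul_dvd_mul_iff_left (by norm_num)] at hQd
    have hLtop : L = ⊤ := by
      rcases (Nat.dvd_prime Nat.prime_two).1 hQd with h | h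
      · exact Subgroup.index_eq_one.1 h
      · exact absurd h (no_index_two_quotient Z hK2 L)
    exact no_seven S hS K Z hZc hZcard hZmap P hP hm eP huniq
      ((Subgroup.topEquiv.symm.trans (MulEquiv.subgroupCongr hLtop.symm)).trans f)
  -- the preimage of the socle
  let π := QuotientGroup.mk' Z
  let E : Subgroup K := L.comap π
  let ρ : E →* L := π.subgroupComap L
  have hρs : Function.Surjective ρ :=
    π.subgroupComap_surjective_of_surjective L (QuotientGroup.mk'_surjective Z)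
  have hρm : ∀ x : E, x ∈ ρ.ker ↔ (x : K) ∈ Z := fun x => by
    rw [MonoidHom.mem_ker, ← QuotientGroup.eq_one_iff]
    exact ⟨fun h => congrArg Subtype.val h, fun h => Subtype.ext h⟩
  have hZE : Z ≤ E := fun x hx => by
    show π x ∈ L
    rw [show π x = 1 from (QuotientGroup.eq_one_iff x).2 hx]
    exact one_mem _
  have hρk : Nat.card ρ.ker = 2 := by
    rw [show ρ.ker = Z.subgroupOf E from Subgroup.ext fun x => (hρm x).trans Subgroup.mem_subgroupOf.symm,
      Nat.card_congr (Subgroup.subgroupOfEquivOfLe hZE).toEquiv, hZcard]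
  have hLc : commutator L = ⊤ := by
    refine Subgroup.map_injective (f := f.toMonoidHom) f.injective ?_
    rw [_root_.commutator_def, Subgroup.map_commutator, Subgroup.map_top_of_surjective _ f.surjective,
      ← _root_.commutator_def, psl_commutator_top h3]
  have hEp : commutator E = ⊤ := perfect_cover hLc (Nat.card_congr f.toEquiv ▸ psl_two_dvd hodd) ρ hρs hρk
    fun x y hx hy => Subtype.ext (huniq x y (by rw [Subgroup.orderOf_coe, hx]) (by rw [Subgroup.orderOf_coe, hy]))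
  obtain ⟨e⟩ := iso_SLTwo hEp hodd h3 (f.toMonoidHom.comp ρ) (f.surjective.comp hρs)
    (fun x hx => by
      have hx' : x ∈ ρ.ker := (map_eq_one_iff f f.injective).1 hx
      exact Subgroup.mem_center_iff.2 fun y => Subtype.ext (Subgroup.mem_center_iff.1 (hZc ((hρm x).1 hx')) y))
    (by rw [show (f.toMonoidHom.comp ρ).ker = ρ.ker from Subgroup.ext fun x => map_eq_one_iff f f.injective, hρk])
  have hCE : centralizer (E : Set K) ≤ Z := fun c hc => by
    rw [← QuotientGroup.eq_one_iff, ← Subgroup.mem_bot, ← hCL, Subgroup.mem_centralizer_iff]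
    intro l hl
    obtain ⟨k, rfl⟩ := QuotientGroup.mk'_surjective Z l
    show π k * π c = π c * π k
    rw [← map_mul, ← map_mul, Subgroup.mem_centralizer_iff.1 hc k hl]
  have hKE : commutator K = E := by
    refine le_antisymm (fun g hg => ?_) ?_
    · obtain ⟨x, hx, hxg⟩ := exists_inner_adjust hodd h3 E e hg
      rw [show g = x * (x⁻¹ * g) from (mul_inv_cancel_left x g).symm]
      exact E.mul_mem hx (hZE (hCE hxg))
    · exact perfect_le_commutator E h3 e
  haveI : E.Characteristic := hKE ▸ (inferInstance : (commutator K).Characteristic)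
  let L₀ : Subgroup H := E.map K.subtype
  haveI : L₀.Normal := ConjAct.normal_of_characteristic_of_normal
  let e₀ : L₀ ≃* Matrix.SpecialLinearGroup (Fin 2) F :=
    (E.equivMapOfInjective K.subtype K.subtype_injective).symm.trans e
  have hder : commutator H = L₀ := by
    refine le_antisymm (fun g hg => ?_) (perfect_le_commutator L₀ h3 e₀)
    obtain ⟨x, hx, hxg⟩ := exists_inner_adjust hodd h3 L₀ e₀ hg
    rw [show g = x * (x⁻¹ * g) from (mul_inv_cancel_left x g).symm]
    refine L₀.mul_mem hx ?_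
    have hxK : x ∈ K := Subgroup.map_subtype_le E hx
    have hcK : x⁻¹ * g ∈ K := K.mul_mem (K.inv_mem hxK) (hderK hg)
    refine ⟨⟨x⁻¹ * g, hcK⟩, hZE (hCE (Subgroup.mem_centralizer_iff.2 fun k hk => Subtype.ext ?_)), rfl⟩
    exact Subgroup.mem_centralizer_iff.1 hxg (k : H) (Subgroup.mem_map_of_mem _ hk)
  refine ⟨⟨F, hF, hFf, hodd, ⟨(MulEquiv.subgroupCongr hder).trans e₀⟩⟩, ?_⟩
  rintro L₁ hL₁ ⟨F₁, hF₁, hF₁', hodd₁, ⟨e₁⟩⟩
  haveI := hL₁
  exact unique_large hodd h3 ((MulEquiv.subgroupCongr hder).trans e₀) L₁ hodd₁ e₁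

/-- S1216, given S0483. -/
theorem q_group_sl_two (hGW : GWStatement.{u}) {H : Type u} [Group H] [Finite H] (S : Sylow 2 H)
    (hS : Cfsg.IsQuasiDihedral (S : Subgroup H) ∨ Cfsg.IsWreathed (S : Subgroup H)) (hO : Cfsg.oddCore H = ⊥)
    (hQ : (∃ K : Subgroup H, K.Normal ∧ (∃ a : ℕ, K.index = 2 ^ a) ∧ (∀ M : Subgroup ↥K, M.index ≠ 2) ∧
      (∀ P : Sylow 2 ↥K, ∃ m : ℕ, 1 ≤ m ∧ Nonempty ((P : Subgroup ↥K) ≃* QuaternionGroup (2 ^ m)))) ∧
      (∀ Z₀ : Subgroup H, Z₀ ≤ ((Subgroup.center (S : Subgroup H)).map (S : Subgroup H).subtype) →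
        Cfsg.IsWeaklyClosed Z₀ (S : Subgroup H))) :
    ∃ L₀ : Subgroup H, L₀.Normal ∧ (∃ (F : Type) (_ : Field F) (_ : Fintype F), Odd (Fintype.card F) ∧
        Nonempty (L₀ ≃* Matrix.SpecialLinearGroup (Fin 2) F)) ∧
      ∀ L₁ : Subgroup H, L₁.Normal → (∃ (F : Type) (_ : Field F) (_ : Fintype F), Odd (Fintype.card F) ∧
        Nonempty (L₁ ≃* Matrix.SpecialLinearGroup (Fin 2) F)) → L₁ = L₀ := by
  obtain ⟨⟨K, hKn, hidx, hK2, hP⟩, -⟩ := hQ
  obtain ⟨h1, h2⟩ := cent_struct hGW S hS hO K hKn hidx hK2 hP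
  exact ⟨commutator H, inferInstance, h1, h2⟩

/-- S1240, given S0483. -/
theorem qd_wreathed_centralizer_mod_core (hGW : GWStatement.{u}) {G : Type u} [Group G] [Finite G] (S : Sylow 2 G)
    (hS : Cfsg.IsQuasiDihedral (S : Subgroup G) ∨ Cfsg.IsWreathed (S : Subgroup G))
    (hG : ∀ H : Subgroup G, H.index ≠ 2) (t : G) (ht : orderOf t = 2) :
    ∃ (F : Type) (_ : Field F) (_ : Fintype F), Odd (Fintype.card F) ∧
      Nonempty (↥(commutator (↥(Subgroup.centralizer ({t} : Set G)) ⧸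
        Cfsg.oddCore ↥(Subgroup.centralizer ({t} : Set G)))) ≃* Matrix.SpecialLinearGroup (Fin 2) F) := by
  haveI : Fact (Nat.Prime 2) := ⟨Nat.prime_two⟩
  obtain ⟨R, hR, ⟨K, hKn, ⟨a, ha⟩, hK2, hKP⟩, -⟩ := S1213.result S hS hG t ht
  let C := ↥(Subgroup.centralizer ({t} : Set G))
  haveI hOn : (Cfsg.oddCore C).Normal := Grp.pPrimeCore_isNormal
  have hcop : (Nat.card (Cfsg.oddCore C)).Coprime 2 := Grp.pPrimeCore_coprime
  let π : C →* C ⧸ Cfsg.oddCore C := QuotientGroup.mk' _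
  -- the Sylow subgroup keeps its shape
  obtain ⟨S', hS'⟩ := (R.isPGroup'.map (Subgroup.centralizer ({t} : Set G)).subtype).exists_le_sylow
  have heq : (R : Subgroup C).map (Subgroup.centralizer ({t} : Set G)).subtype = (S' : Subgroup G) :=
    Subgroup.eq_of_le_of_card_ge hS' (by
      rw [Subgroup.card_subtype, hR, Nat.card_congr (Sylow.equiv S' S).toEquiv])
  let eR : (R : Subgroup C) ≃* (S : Subgroup G) :=
    (((R : Subgroup C).equivMapOfInjective _ (Subgroup.subtype_injective _)).trans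
      (MulEquiv.subgroupCongr heq)).trans (Sylow.equiv S' S)
  let R' : Sylow 2 (C ⧸ Cfsg.oddCore C) := R.mapSurjective (QuotientGroup.mk'_surjective _)
  obtain ⟨e'⟩ := sylow_mapSurjective_equiv R (Cfsg.oddCore C) hcop
  have hR' : Cfsg.IsQuasiDihedral (R' : Subgroup (C ⧸ Cfsg.oddCore C)) ∨
      Cfsg.IsWreathed (R' : Subgroup (C ⧸ Cfsg.oddCore C)) := by
    let e := (eR.symm.trans e')
    rcases hS with ⟨n, hn, hc, x, y, hx, hy, hxy⟩ | ⟨n, hn, hc, x, y, z, hx, hxy, hdis, hz, hzx⟩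
    · refine Or.inl ⟨n, hn, by rw [← Nat.card_congr e.toEquiv, hc], e x, e y, ?_, ?_, ?_⟩
      · rw [MulEquiv.orderOf_eq, hx]
      · rw [MulEquiv.orderOf_eq, hy]
      · rw [← map_inv, ← map_mul, ← map_mul, ← map_pow, hxy]
    · refine Or.inr ⟨n, hn, by rw [← Nat.card_congr e.toEquiv, hc], e x, e y, e z, ?_, ?_, ?_, ?_, ?_⟩
      · rw [MulEquiv.orderOf_eq, hx]
      · rw [← map_mul, ← map_mul, hxy]
      · rw [eq_bot_iff]
        rintro w ⟨⟨i, hi⟩, ⟨j, hj⟩⟩
        have hi' : e x ^ i = w := hi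
        have hj' : e y ^ j = w := hj
        rw [← map_zpow] at hi' hj'
        have h1 : x ^ i ∈ Subgroup.zpowers x ⊓ Subgroup.zpowers y :=
          ⟨⟨i, rfl⟩, ⟨j, e.injective (hj'.trans hi'.symm)⟩⟩
        rw [hdis, Subgroup.mem_bot] at h1
        rw [Subgroup.mem_bot, ← hi', h1, map_one]
      · rw [MulEquiv.orderOf_eq, hz]
      · rw [← map_inv, ← map_mul, ← map_mul, hzx]
  let K' : Subgroup (C ⧸ Cfsg.oddCore C) := K.map π
  let ρ : K →* K' := π.subgroupMap K
  have hρ : Function.Surjective ρ := π.subgroupMap_surjective K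
  have hidx : ∃ b : ℕ, K'.index = 2 ^ b := by
    obtain ⟨b, -, hb⟩ := (Nat.dvd_prime_pow Nat.prime_two).1
      (ha ▸ Subgroup.index_map_dvd K (QuotientGroup.mk'_surjective (Cfsg.oddCore C)) : K'.index ∣ 2 ^ a)
    exact ⟨b, hb⟩
  have hK'2 : ∀ M : Subgroup K', M.index ≠ 2 := fun M hM =>
    hK2 (M.comap ρ) (by rw [Subgroup.index_comap_of_surjective _ hρ, hM])
  have hK'P : ∀ P : Sylow 2 K', ∃ m : ℕ, 1 ≤ m ∧ Nonempty ((P : Subgroup K') ≃* QuaternionGroup (2 ^ m)) := by
    intro P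
    obtain ⟨P₀, rfl⟩ := Sylow.mapSurjective_surjective hρ 2 P
    obtain ⟨m, hm, ⟨e⟩⟩ := hKP P₀
    refine ⟨m, hm, ⟨MulEquiv.trans (MulEquiv.symm ?_) e⟩⟩
    have hinj : Function.Injective (ρ.comp (P₀ : Subgroup K).subtype) := by
      rw [← MonoidHom.ker_eq_bot_iff, eq_bot_iff]
      intro x hx
      rw [Subgroup.mem_bot, ← orderOf_eq_one_iff]
      obtain ⟨k, hk⟩ := IsPGroup.iff_orderOf.1 P₀.isPGroup' x
      refine Nat.eq_one_of_dvd_coprimes (hcop.pow_right k) ?_ hk.dvd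
      rw [← Subgroup.orderOf_coe, ← Subgroup.orderOf_coe]
      exact Subgroup.orderOf_dvd_natCard _ ((QuotientGroup.eq_one_iff _).1 (congrArg Subtype.val hx))
    exact (MonoidHom.ofInjective hinj).trans (MulEquiv.subgroupCongr (by
      rw [MonoidHom.range_comp, Subgroup.range_subtype]; rfl))
  exact (cent_struct hGW R' hR' Grp.pPrimeCore_quotient_eq_bot K' (hKn.map π (QuotientGroup.mk'_surjective _))
    hidx hK'2 hK'P).1

end Cfsg.Agent.Invol.GW
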