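import Cfsg.Agent.Lib.Invol.GW.Consumers.Basic
import Cfsg.Agent.Lib.Invol.GW.Consumers.Dihedral
import Cfsg.Agent.S2602

/-!
# Automorphisms of a central cover of `PSL₂(q)`: derived elements act as inner automorphisms
-/

set_option autoImplicit false

open scoped commutatorElement

namespace Cfsg.Agent.Invol.GW

open Subgroup

universe u v

theorem psl_commutator_top {F : Type} [Field F] [Fintype F] (h3 : 3 < Fintype.card F) :
    commutator (Matrix.ProjectiveSpecialLinearGroup (Fin 2) F) = ⊤ :=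
  commutator_quotient _ (SLTwo_perfect h3)

theorem psl_two_dvd {F : Type} [Field F] [Fintype F] (hodd : Odd (Fintype.card F)) :
    2 ∣ Nat.card (Matrix.ProjectiveSpecialLinearGroup (Fin 2) F) := by
  have h := card_PSLTwo hodd
  obtain ⟨k, hk⟩ := hodd
  rw [hk, show 2 * k + 1 - 1 = 2 * k by omega] at h
  exact ⟨(2 * k + 1) * k * (k + 1), by linarith⟩

/-- With a single involution, a double cover of a perfect group of even order is perfect. -/
theorem perfect_cover {E : Type u} {L : Type v} [Group E] [Group L] [Finite E] (hL : commutator L = ⊤)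
    (h2 : 2 ∣ Nat.card L) (ρ : E →* L) (hρ : Function.Surjective ρ) (hk : Nat.card ρ.ker = 2)
    (huniq : ∀ x y : E, orderOf x = 2 → orderOf y = 2 → x = y) : commutator E = ⊤ := by
  haveI : Fact (Nat.Prime 2) := ⟨Nat.prime_two⟩
  have hmap : (commutator E).map ρ = ⊤ := by
    rw [_root_.commutator_def, Subgroup.map_commutator, Subgroup.map_top_of_surjective ρ hρ,
      ← _root_.commutator_def, hL]
  have hle : ρ.ker ≤ commutator E := by
    obtain ⟨c, hc⟩ := exists_prime_orderOf_dvd_card' (G := commutator E) 2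
      (h2.trans (Subgroup.card_dvd_of_surjective (ρ.comp (commutator E).subtype) (by
        rw [← MonoidHom.range_eq_top, MonoidHom.range_comp, Subgroup.range_subtype, hmap])))
    intro x hx
    by_cases hx1 : x = 1
    · rw [hx1]; exact one_mem _
    have hx2 : orderOf x = 2 := orderOf_eq_prime (by
      have := congrArg Subtype.val (pow_card_eq_one' (x := (⟨x, hx⟩ : ρ.ker)))
      rwa [hk, SubgroupClass.coe_pow, OneMemClass.coe_one] at this) hx1
    rw [huniq x c hx2 (by rw [Subgroup.orderOf_coe, hc])]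
    exact c.2
  rw [← sup_eq_left.2 hle, ← Subgroup.comap_map_eq, hmap, Subgroup.comap_top]

/-- An endomorphism of a perfect group that is trivial modulo the centre is trivial. -/
theorem eq_id_of_central {L : Type u} [Group L] (hL : commutator L = ⊤) (α : L →* L)
    (hα : ∀ y, y⁻¹ * α y ∈ center L) (y : L) : α y = y := by
  have hle : commutator L ≤ α.eqLocus (MonoidHom.id L) := by
    rw [_root_.commutator_def, Subgroup.commutator_le]
    intro a _ b _
    show α ⁅a, b⁆ = ⁅a, b⁆
    obtain ⟨c, hc, hca⟩ : ∃ c ∈ center L, α a = a * c := ⟨_, hα a, (mul_inv_cancel_left _ _).symm⟩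
    obtain ⟨d, hd, hdb⟩ : ∃ d ∈ center L, α b = b * d := ⟨_, hα b, (mul_inv_cancel_left _ _).symm⟩
    have hc' := Subgroup.mem_center_iff.1 hc
    have hd' := Subgroup.mem_center_iff.1 hd
    rw [map_commutatorElement, hca, hdb, commutatorElement_def, commutatorElement_def, mul_inv_rev, mul_inv_rev]
    calc a * c * (b * d) * (c⁻¹ * a⁻¹) * (d⁻¹ * b⁻¹)
        = a * (c * (b * d)) * c⁻¹ * a⁻¹ * (d⁻¹ * b⁻¹) := by group
      _ = a * (b * d) * a⁻¹ * (d⁻¹ * b⁻¹) := by rw [← hc' (b * d)]; group
      _ = a * b * (d * a⁻¹) * d⁻¹ * b⁻¹ := by group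
      _ = a * b * a⁻¹ * b⁻¹ := by rw [← hd' a⁻¹]; group
  exact (hL ▸ hle : ⊤ ≤ α.eqLocus (MonoidHom.id L)) (Subgroup.mem_top y)

theorem psl_out_comm {F : Type} [Field F] [Fintype F] (hodd : Odd (Fintype.card F)) (h3 : 3 < Fintype.card F)
    (x y : Cfsg.Out (Matrix.ProjectiveSpecialLinearGroup (Fin 2) F)) : x * y = y * x := by
  obtain ⟨p, hp⟩ := CharP.exists F
  obtain ⟨n, hprime, hn⟩ := FiniteField.card F p
  haveI : Fact p.Prime := ⟨hprime⟩
  obtain ⟨Φ, -, -, hker⟩ := S2602.result (F := F) n.pos hn (by rw [← hn]; omega)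
  rw [← hn, show Nat.gcd 2 (Fintype.card F - 1) = 2 from
    Nat.gcd_eq_left (even_iff_two_dvd.1 (Nat.Odd.sub_odd hodd odd_one))] at hker
  refine commutative_of_cyclic_center_quotient Φ (fun z hz => Subgroup.mem_center_iff.2 fun g => ?_) x y
  by_cases hz1 : z = 1
  · rw [hz1, mul_one, one_mul]
  have hgz : g * z * g⁻¹ ∈ Φ.ker := (inferInstance : Φ.ker.Normal).conj_mem z hz g
  have h2 : ∀ a ∈ Φ.ker, a ≠ 1 → a = z := by
    intro a ha ha1
    have hsub : Φ.ker = Subgroup.zpowers z := (Subgroup.eq_of_le_of_card_ge (Subgroup.zpowers_le.2 hz) (by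
      rw [hker, Nat.card_zpowers]
      have h1 : orderOf z ≠ 1 := fun h => hz1 (orderOf_eq_one_iff.1 h)
      have h0 := orderOf_pos z
      omega)).symm
    have hord : orderOf z = 2 := by rw [← Nat.card_zpowers, ← hsub, hker]
    rw [hsub, Subgroup.mem_zpowers_iff] at ha
    obtain ⟨k, rfl⟩ := ha
    rw [← zpow_mod_orderOf, hord] at ha1 ⊢
    rcases Int.emod_two_eq k with h | h
    · rw [show k % ((2 : ℕ) : ℤ) = 0 from h, zpow_zero] at ha1; exact absurd rfl ha1
    · rw [show k % ((2 : ℕ) : ℤ) = 1 from h, zpow_one]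
  have h3' := h2 _ hgz fun h => hz1 (conj_eq_one_iff.1 h)
  exact mul_inv_eq_iff_eq_mul.1 h3'

/-- A derived element acts on a normal `SL₂(q)` as an inner automorphism. -/
theorem exists_inner_adjust {G : Type u} [Group G] {F : Type} [Field F] [Fintype F] (hodd : Odd (Fintype.card F))
    (h3 : 3 < Fintype.card F) (L0 : Subgroup G) [L0.Normal] (e : L0 ≃* Matrix.SpecialLinearGroup (Fin 2) F)
    {g : G} (hg : g ∈ commutator G) : ∃ x ∈ L0, x⁻¹ * g ∈ centralizer (L0 : Set G) := by
  let r : L0 →* Matrix.ProjectiveSpecialLinearGroup (Fin 2) F := (QuotientGroup.mk' _).comp e.toMonoidHom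
  have hr : Function.Surjective r := (QuotientGroup.mk'_surjective _).comp e.surjective
  let ψ : G →* MulAut (Matrix.ProjectiveSpecialLinearGroup (Fin 2) F) := MonoidHom.mk'
    (fun g => QuotientGroup.congr _ _ (MulAut.congr e (MulAut.conjNormal g))
      (Subgroup.characteristic_iff_map_eq.1 inferInstance _))
    fun a b => MulEquiv.ext fun q => QuotientGroup.induction_on q fun s => by
      simp [MulAut.mul_apply]
  have hψ : ∀ g y, ψ g (r y) = r (MulAut.conjNormal g y) := fun g y => by
    show QuotientGroup.mk (e (MulAut.conjNormal g (e.symm (e y)))) = _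
    rw [e.symm_apply_apply]
    rfl
  have hle : commutator G ≤ (Cfsg.Inn (Matrix.ProjectiveSpecialLinearGroup (Fin 2) F)).comap ψ := by
    rw [_root_.commutator_def, Subgroup.commutator_le]
    intro a _ b _
    rw [Subgroup.mem_comap, ← QuotientGroup.eq_one_iff]
    show QuotientGroup.mk' _ (ψ ⁅a, b⁆) = 1
    rw [map_commutatorElement, map_commutatorElement, commutatorElement_eq_one_iff_mul_comm]
    exact psl_out_comm hodd h3 _ _
  obtain ⟨w, hw⟩ := hle hg
  obtain ⟨x, rfl⟩ := hr w
  refine ⟨x, x.2, Subgroup.mem_centralizer_iff.2 fun y hy => ?_⟩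
  have hperf : commutator L0 = ⊤ := by
    refine Subgroup.map_injective (f := e.toMonoidHom) e.injective ?_
    rw [_root_.commutator_def, Subgroup.map_commutator, Subgroup.map_top_of_surjective _ e.surjective,
      ← _root_.commutator_def, SLTwo_perfect h3]
  have hfix := eq_id_of_central hperf (MulAut.conjNormal ((x : G)⁻¹ * g)).toMonoidHom (fun y => by
    have h1 : r (MulAut.conjNormal g y) = r x * r y * (r x)⁻¹ := by
      rw [← hψ, ← hw]
      exact MulAut.conj_apply _ _
    have h2 : MulAut.conjNormal ((x : G)⁻¹ * g) y = x⁻¹ * MulAut.conjNormal g y * x := Subtype.ext (by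
      simp only [MulAut.conjNormal_apply, Subgroup.coe_mul, InvMemClass.coe_inv]
      group)
    have h3' : r (y⁻¹ * MulAut.conjNormal ((x : G)⁻¹ * g) y) = 1 := by
      rw [h2, map_mul, map_mul, map_mul, h1, map_inv, map_inv]
      group
    have h4 : e (y⁻¹ * MulAut.conjNormal ((x : G)⁻¹ * g) y) ∈ center (Matrix.SpecialLinearGroup (Fin 2) F) :=
      (QuotientGroup.eq_one_iff _).1 h3'
    refine Subgroup.mem_center_iff.2 fun a => e.injective ?_
    exact (map_mul e _ _).trans ((Subgroup.mem_center_iff.1 h4 (e a)).trans (map_mul e _ _).symm)) ⟨y, hy⟩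
  have h5 := congrArg Subtype.val hfix
  rw [MulEquiv.coe_toMonoidHom, MulAut.conjNormal_apply] at h5
  exact (mul_inv_eq_iff_eq_mul.1 h5).symm

end Cfsg.Agent.Invol.GW
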