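import Mathlib

/-!
# The centraliser of an involution of `PGL₂(q)`, `q` odd
-/

set_option autoImplicit false

namespace Cfsg.Agent.Invol.GW

open Matrix

variable {F : Type} [Field F] [Fintype F]

local notation "GL₂" => GL (Fin 2) F
local notation "M₂" => Matrix (Fin 2) (Fin 2) F

theorem card_pairs_sub_sq (h2 : (2 : F) ≠ 0) (l : F) (hl : l ≠ 0) :
    Nat.card {p : F × F // p.1 * p.1 - l * (p.2 * p.2) ≠ 0} = (Fintype.card F - 1) * (Fintype.card F - 1) ∨
      Nat.card {p : F × F // p.1 * p.1 - l * (p.2 * p.2) ≠ 0} = (Fintype.card F - 1) * (Fintype.card F + 1) := by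
  classical
  by_cases hsq : ∃ s : F, s * s = l
  · obtain ⟨s, rfl⟩ := hsq
    have hs : s ≠ 0 := fun h => hl (by rw [h, zero_mul])
    left
    have e : {p : F × F // p.1 * p.1 - s * s * (p.2 * p.2) ≠ 0} ≃ Fˣ × Fˣ :=
      { toFun := fun p => (Units.mk0 (p.1.1 - s * p.1.2) fun h => p.2 (by linear_combination (p.1.1 + s * p.1.2) * h),
          Units.mk0 (p.1.1 + s * p.1.2) fun h => p.2 (by linear_combination (p.1.1 - s * p.1.2) * h))
        invFun := fun u => ⟨((u.2 + u.1 : F) / 2, (u.2 - u.1 : F) / (2 * s)), fun h => by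
          have h' : (u.1 : F) * u.2 = 0 := by
            field_simp at h
            have h4 : (2 : F) * 2 * ((u.1 : F) * u.2) = 0 := by linear_combination h
            exact (mul_eq_zero.1 h4).resolve_left (mul_ne_zero h2 h2)
          exact mul_ne_zero u.1.ne_zero u.2.ne_zero h'⟩
        left_inv := fun p => Subtype.ext (Prod.ext (by simp only [Units.val_mk0]; field_simp; ring)
          (by simp only [Units.val_mk0]; field_simp; ring))
        right_inv := fun u => Prod.ext (Units.ext (by simp only [Units.val_mk0]; field_simp; ring))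
          (Units.ext (by simp only [Units.val_mk0]; field_simp; ring)) }
    rw [Nat.card_congr e, Nat.card_prod, Nat.card_units, Nat.card_eq_fintype_card]
  · right
    push Not at hsq
    have hiff : ∀ p : F × F, p.1 * p.1 - l * (p.2 * p.2) ≠ 0 ↔ ¬ p = 0 := fun p => by
      constructor
      · intro h h0
        exact h (by rw [h0]; simp)
      · intro h h0
        by_cases hz : p.2 = 0
        · rw [hz, mul_zero, mul_zero, sub_zero, mul_self_eq_zero] at h0
          exact h (Prod.ext h0 hz)
        · exact hsq (p.1 / p.2) (by field_simp; linear_combination h0)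
    rw [Nat.card_congr (Equiv.subtypeEquivRight hiff), Nat.card_eq_fintype_card, Fintype.card_subtype_compl,
      Fintype.card_subtype_eq, Fintype.card_prod]
    obtain ⟨m, hm⟩ : ∃ m, Fintype.card F = m + 1 := ⟨Fintype.card F - 1, by have := Fintype.card_pos (α := F); omega⟩
    rw [hm, show m + 1 - 1 = m by omega, show (m + 1) * (m + 1) = m * (m + 1 + 1) + 1 by ring, Nat.add_sub_cancel]

/-- The centraliser of an involution of `PGL₂(q)` has order `2(q ± 1)`. -/
theorem card_centralizer_involution (hodd : Odd (Fintype.card F)) {γ : Matrix.ProjGenLinGroup (Fin 2) F}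
    (hγ : orderOf γ = 2) :
    Nat.card (Subgroup.centralizer ({γ} : Set (Matrix.ProjGenLinGroup (Fin 2) F))) = 2 * (Fintype.card F - 1) ∨
      Nat.card (Subgroup.centralizer ({γ} : Set (Matrix.ProjGenLinGroup (Fin 2) F))) = 2 * (Fintype.card F + 1) := by
  classical
  have h2 : (2 : F) ≠ 0 := by
    obtain ⟨p, hp⟩ := CharP.exists F
    obtain ⟨n, hprime, hn⟩ := FiniteField.card F p
    intro h
    have h2' : p ∣ 2 := (CharP.cast_eq_zero_iff F p 2).1 (by exact_mod_cast h)
    have hp2 : p = 2 := (Nat.prime_dvd_prime_iff_eq hprime Nat.prime_two).1 h2'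
    rw [hn, hp2, Nat.odd_pow_iff n.ne_zero] at hodd
    exact absurd hodd (by decide)
  haveI : Finite (Matrix.ProjGenLinGroup (Fin 2) F) :=
    Finite.of_surjective _ Matrix.ProjGenLinGroup.mk_surjective
  let π : GL₂ →* Matrix.ProjGenLinGroup (Fin 2) F := Matrix.ProjGenLinGroup.mk
  have hker : ∀ h : GL₂, π h = 1 ↔ ∃ e : Fˣ, (h : M₂) = Matrix.scalar (Fin 2) (e : F) := fun h => by
    rw [Matrix.ProjGenLinGroup.mk_eq_one, Matrix.GeneralLinearGroup.center_eq_range_scalar]
    constructor
    · rintro ⟨e, rfl⟩; exact ⟨e, rfl⟩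
    · rintro ⟨e, he⟩; exact ⟨e, Units.ext he.symm⟩
  obtain ⟨g, rfl⟩ := Matrix.ProjGenLinGroup.mk_surjective γ
  have hg1 : π g ≠ 1 := fun h => by
    rw [show Matrix.ProjGenLinGroup.mk g = π g from rfl, h, orderOf_one] at hγ
    omega
  have hg2 : π (g * g) = 1 := by
    rw [map_mul, ← pow_two]
    exact orderOf_dvd_iff_pow_eq_one.1 hγ.dvd
  obtain ⟨k, hk⟩ := (hker _).1 hg2
  obtain ⟨a, ha⟩ : ∃ a, (g : M₂) 0 0 = a := ⟨_, rfl⟩
  obtain ⟨b, hb⟩ : ∃ b, (g : M₂) 0 1 = b := ⟨_, rfl⟩
  obtain ⟨c, hc⟩ : ∃ c, (g : M₂) 1 0 = c := ⟨_, rfl⟩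
  obtain ⟨d, hd⟩ : ∃ d, (g : M₂) 1 1 = d := ⟨_, rfl⟩
  have e00 := congrFun (congrFun hk 0) 0
  have e01 := congrFun (congrFun hk 0) 1
  have e10 := congrFun (congrFun hk 1) 0
  have e11 := congrFun (congrFun hk 1) 1
  simp [Matrix.mul_apply, Fin.sum_univ_two, ha, hb, hc, hd] at e00 e01 e10 e11
  have hda : d = -a := by
    by_contra hne
    have hs : a + d ≠ 0 := fun h => hne (eq_neg_of_add_eq_zero_right h)
    have hb0 : b = 0 := (mul_eq_zero.1 (show b * (a + d) = 0 by linear_combination e01)).resolve_right hs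
    have hc0 : c = 0 := (mul_eq_zero.1 (show c * (a + d) = 0 by linear_combination e10)).resolve_right hs
    have had : a - d = 0 :=
      (mul_eq_zero.1 (show (a - d) * (a + d) = 0 by linear_combination e00 - e11)).resolve_right hs
    have ha0 : a ≠ 0 := fun h => hs (by linear_combination 2 * h - had)
    refine hg1 ((hker g).2 ⟨Units.mk0 a ha0, ?_⟩)
    ext i j
    fin_cases i <;> fin_cases j <;> simp [ha, hb, hc, hd, hb0, hc0, ← sub_eq_zero.1 had]
  subst hda
  obtain ⟨l, hl⟩ : ∃ l, a * a + b * c = l := ⟨_, rfl⟩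
  have hdet : (g : M₂).det = -l := by rw [Matrix.det_fin_two, ha, hb, hc, hd, ← hl]; ring
  have hl0 : l ≠ 0 := fun h => g.det_ne_zero (by rw [hdet, h, neg_zero])
  let C : GL₂ := Matrix.GeneralLinearGroup.mkOfDetNeZero !![0, l; 1, 0] (by simp [Matrix.det_fin_two_of, hl0])
  -- conjugate to a companion matrix
  obtain ⟨P, hP⟩ : ∃ P : GL₂, (g : M₂) * (P : M₂) = (P : M₂) * (C : M₂) := by
    by_cases hc0 : c = 0
    · by_cases hb0 : b = 0
      · have ha0 : a ≠ 0 := fun h => hl0 (by rw [← hl, h, hb0]; ring)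
        refine ⟨Matrix.GeneralLinearGroup.mkOfDetNeZero !![1, a; 1, -a] ?_, ?_⟩
        · rw [Matrix.det_fin_two_of]
          intro h
          exact mul_ne_zero h2 ha0 (by linear_combination -h)
        · show (g : M₂) * !![1, a; 1, -a] = !![1, a; 1, -a] * !![0, l; 1, 0]
          ext i j
          fin_cases i <;> fin_cases j <;> simp [Matrix.mul_apply, Fin.sum_univ_two, ha, hb, hc, hd, hb0, hc0] <;>
            linear_combination hl - c * hb0
      · refine ⟨Matrix.GeneralLinearGroup.mkOfDetNeZero !![0, b; 1, -a] ?_, ?_⟩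
        · rw [Matrix.det_fin_two_of]
          intro h
          exact hb0 (by linear_combination -h)
        · show (g : M₂) * !![0, b; 1, -a] = !![0, b; 1, -a] * !![0, l; 1, 0]
          ext i j
          fin_cases i <;> fin_cases j <;> simp [Matrix.mul_apply, Fin.sum_univ_two, ha, hb, hc, hd] <;>
            first | linear_combination hl | ring
    · refine ⟨Matrix.GeneralLinearGroup.mkOfDetNeZero !![1, a; 0, c] ?_, ?_⟩
      · rw [Matrix.det_fin_two_of]
        intro h
        exact hc0 (by linear_combination h)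
      · show (g : M₂) * !![1, a; 0, c] = !![1, a; 0, c] * !![0, l; 1, 0]
        ext i j
        fin_cases i <;> fin_cases j <;> simp [Matrix.mul_apply, Fin.sum_univ_two, ha, hb, hc, hd] <;>
          first | linear_combination hl | ring
  have hconj : MulAut.conj (π P) (π C) = π g := by
    rw [MulAut.conj_apply, ← map_mul, ← map_inv, ← map_mul]
    refine congrArg π (mul_inv_eq_iff_eq_mul.2 (Units.ext ?_))
    exact hP.symm
  have hcardC : Nat.card (Subgroup.centralizer ({π C} : Set (Matrix.ProjGenLinGroup (Fin 2) F))) =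
      Nat.card (Subgroup.centralizer ({π g} : Set (Matrix.ProjGenLinGroup (Fin 2) F))) := by
    refine Nat.card_congr (Equiv.subtypeEquiv (MulAut.conj (π P)).toEquiv fun x => ?_)
    show x ∈ Subgroup.centralizer {π C} ↔ MulAut.conj (π P) x ∈ Subgroup.centralizer {π g}
    rw [Subgroup.mem_centralizer_singleton_iff, Subgroup.mem_centralizer_singleton_iff, ← hconj, ← map_mul,
      ← map_mul, EmbeddingLike.apply_eq_iff_eq]
  show Nat.card (Subgroup.centralizer ({π g} : Set (Matrix.ProjGenLinGroup (Fin 2) F))) = _ ∨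
    Nat.card (Subgroup.centralizer ({π g} : Set (Matrix.ProjGenLinGroup (Fin 2) F))) = _
  rw [← hcardC]
  -- count the preimage
  let S : Subgroup GL₂ := (Subgroup.centralizer {π C}).comap π
  have hmem : ∀ h : GL₂, h ∈ S ↔ ∃ e : Fˣ, (h : M₂) * (C : M₂) = (e : F) • ((C : M₂) * (h : M₂)) := fun h => by
    rw [Subgroup.mem_comap, Subgroup.mem_centralizer_singleton_iff, ← map_mul, ← map_mul]
    constructor
    · intro he
      obtain ⟨e, he'⟩ := (hker ((C * h)⁻¹ * (h * C))).1 (by rw [map_mul, map_inv, he, inv_mul_cancel])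
      refine ⟨e, ?_⟩
      have h3 : ((C * h : GL₂) : M₂) * (((C * h)⁻¹ * (h * C) : GL₂) : M₂) = ((h * C : GL₂) : M₂) := by
        rw [← Units.val_mul, mul_inv_cancel_left]
      rw [he', Units.val_mul, Units.val_mul] at h3
      rw [← h3, ← Matrix.scalar_commute _ (fun r => Commute.all _ r), Matrix.scalar_apply,
        ← Matrix.smul_eq_diagonal_mul]
    · rintro ⟨e, he⟩
      have h3 : h * C = Matrix.GeneralLinearGroup.scalar (Fin 2) e * (C * h) := Units.ext (by
        rw [Units.val_mul, Units.val_mul, Units.val_mul, he, Matrix.GeneralLinearGroup.coe_scalar,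
          Matrix.scalar_apply, ← Matrix.smul_eq_diagonal_mul])
      rw [h3, map_mul, show π (Matrix.GeneralLinearGroup.scalar (Fin 2) e) = 1 from
        Matrix.ProjGenLinGroup.mk_scalar e, one_mul]
  let N := {p : F × F // p.1 * p.1 - l * (p.2 * p.2) ≠ 0}
  let sg : Bool → F := fun t => if t then 1 else -1
  have hsg : ∀ t, sg t * sg t = 1 := fun t => by cases t <;> simp [sg]
  have hsg0 : ∀ t, sg t ≠ 0 := fun t h => by
    have := hsg t
    rw [h, zero_mul] at this
    exact zero_ne_one this
  let mat : Bool × N → GL₂ := fun t => Matrix.GeneralLinearGroup.mkOfDetNeZero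
    !![t.2.1.1, sg t.1 * l * t.2.1.2; t.2.1.2, sg t.1 * t.2.1.1] (by
      rw [Matrix.det_fin_two_of]
      intro h
      exact mul_ne_zero (hsg0 t.1) t.2.2 (by linear_combination h))
  have hmatS : ∀ t, mat t ∈ S := fun t => by
    refine (hmem _).2 ⟨Units.mk0 (sg t.1) (hsg0 t.1), ?_⟩
    show (!![t.2.1.1, sg t.1 * l * t.2.1.2; t.2.1.2, sg t.1 * t.2.1.1] : M₂) * !![0, l; 1, 0] = sg t.1 • _
    ext i j
    fin_cases i <;> fin_cases j <;>
      simp [Matrix.mul_apply, Fin.sum_univ_two, mat, C] <;>
      first | linear_combination (-(t.2.1.1 * l)) * hsg t.1 | linear_combination (-(l * t.2.1.2)) * hsg t.1 | ring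
  have hbij : Function.Bijective (fun t => (⟨mat t, hmatS t⟩ : S)) := by
    constructor
    · rintro ⟨s, ⟨⟨x, z⟩, hxz⟩⟩ ⟨s', ⟨⟨x', z'⟩, hxz'⟩⟩ h
      have h' := congrArg (fun u : S => ((u : GL₂) : M₂)) h
      simp [mat, ← Matrix.ext_iff, Fin.forall_fin_two] at h'
      obtain ⟨⟨rfl, e1⟩, rfl, e2⟩ := h'
      have hs : sg s = sg s' := by
        by_contra hne
        have hne' : sg s - sg s' ≠ 0 := sub_ne_zero.2 hne
        have hx0 : x = 0 := (mul_eq_zero.1 (show (sg s - sg s') * x = 0 by linear_combination e2)).resolve_left hne'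
        have hz0 : z = 0 := (mul_eq_zero.1 (show (sg s - sg s') * (l * z) = 0 by
          linear_combination e1)).resolve_left hne' |> fun h => (mul_eq_zero.1 h).resolve_left hl0
        exact hxz (by simp [hx0, hz0])
      have hss : s = s' := by
        have h11 : (1 : F) ≠ -1 := fun h => h2 (by linear_combination h)
        cases s <;> cases s' <;> simp [sg, h11, h11.symm] at hs ⊢
      subst hss
      rfl
    · rintro ⟨h, hh⟩
      obtain ⟨e, he⟩ := (hmem h).1 hh
      obtain ⟨x, hx⟩ : ∃ x, (h : M₂) 0 0 = x := ⟨_, rfl⟩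
      obtain ⟨y, hy⟩ : ∃ y, (h : M₂) 0 1 = y := ⟨_, rfl⟩
      obtain ⟨z, hz⟩ : ∃ z, (h : M₂) 1 0 = z := ⟨_, rfl⟩
      obtain ⟨w, hw⟩ : ∃ w, (h : M₂) 1 1 = w := ⟨_, rfl⟩
      rw [Matrix.eta_fin_two (h : M₂), hx, hy, hz, hw, show (C : M₂) = !![0, l; 1, 0] from rfl] at he
      have f00 := congrFun (congrFun he 0) 0
      have f01 := congrFun (congrFun he 0) 1
      have f10 := congrFun (congrFun he 1) 0
      have f11 := congrFun (congrFun he 1) 1
      simp [Matrix.mul_apply, Fin.sum_univ_two] at f00 f01 f10 f11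
      have hxe : x = (e : F) * w := mul_right_cancel₀ hl0 (by linear_combination f01)
      have hye : y = (e : F) * (l * z) := by linear_combination f00
      have hzw : z * l = (e : F) * y := by linear_combination f11
      have hwx : w = (e : F) * x := by linear_combination f10
      have hee : (e : F) * e = 1 := by
        by_contra hne
        have hne' : (e : F) * e - 1 ≠ 0 := sub_ne_zero.2 hne
        have hy0 : y = 0 := (mul_eq_zero.1 (show ((e : F) * e - 1) * y = 0 by
          linear_combination -hye - (e : F) * hzw)).resolve_left hne'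
        have hx0 : x = 0 := (mul_eq_zero.1 (show ((e : F) * e - 1) * x = 0 by
          linear_combination -hxe - (e : F) * hwx)).resolve_left hne'
        refine h.det_ne_zero ?_
        rw [Matrix.det_fin_two, hx, hy, hx0, hy0]
        ring
      obtain ⟨t, ht⟩ : ∃ t, sg t = (e : F) := by
        rcases mul_self_eq_one_iff.1 hee with h | h
        · exact ⟨true, by simp [sg, h]⟩
        · exact ⟨false, by simp [sg, h]⟩
      refine ⟨⟨t, ⟨(x, z), fun h0 => h.det_ne_zero ?_⟩⟩, Subtype.ext (Units.ext ?_)⟩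
      · rw [Matrix.det_fin_two, hx, hy, hz, hw, hye, hwx]
        linear_combination (e : F) * h0
      · show (!![x, sg t * l * z; z, sg t * x] : M₂) = (h : M₂)
        ext i j
        fin_cases i <;> fin_cases j <;> simp [hx, hy, hz, hw, ht, hye, hwx, mul_assoc]
  have hScard : Nat.card S = 2 * Nat.card N := by
    rw [← Nat.card_eq_of_bijective _ hbij, Nat.card_prod, Nat.card_eq_fintype_card (α := Bool), Fintype.card_bool]
  have hS : Nat.card S =
      Nat.card (Subgroup.centralizer ({π C} : Set (Matrix.ProjGenLinGroup (Fin 2) F))) * (Fintype.card F - 1) := by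
    let ρ := π.subgroupComap (Subgroup.centralizer ({π C} : Set (Matrix.ProjGenLinGroup (Fin 2) F)))
    have hρs : Function.Surjective ρ :=
      π.subgroupComap_surjective_of_surjective _ Matrix.ProjGenLinGroup.mk_surjective
    have hsc : ∀ u : Fˣ, Matrix.GeneralLinearGroup.scalar (Fin 2) u ∈ S := fun u => by
      show π _ ∈ Subgroup.centralizer {π C}
      rw [show π (Matrix.GeneralLinearGroup.scalar (Fin 2) u) = 1 from Matrix.ProjGenLinGroup.mk_scalar u]
      exact one_mem _
    have hk' : Nat.card ρ.ker = Fintype.card F - 1 := by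
      rw [← Nat.card_eq_fintype_card, ← Nat.card_units]
      refine (Nat.card_eq_of_bijective (fun u : Fˣ => (⟨⟨_, hsc u⟩, Subtype.ext
        (Matrix.ProjGenLinGroup.mk_scalar u)⟩ : ρ.ker)) ⟨?_, ?_⟩).symm
      · intro u v huv
        have h := congrArg (fun w : ρ.ker => (((w : S) : GL₂) : M₂) 0 0) huv
        simp at h
        exact Units.ext h
      · rintro ⟨⟨h, hh⟩, hρh⟩
        obtain ⟨u, hu⟩ := (hker h).1 (congrArg Subtype.val hρh)
        exact ⟨u, Subtype.ext (Subtype.ext (Units.ext hu.symm))⟩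
    rw [ρ.ker.card_eq_card_quotient_mul_card_subgroup,
      Nat.card_congr (QuotientGroup.quotientKerEquivOfSurjective ρ hρs).toEquiv, hk']
  have hq : 1 < Fintype.card F := Fintype.one_lt_card
  rcases card_pairs_sub_sq h2 l hl0 with hN | hN
  · refine Or.inl (Nat.eq_of_mul_eq_mul_right (show 0 < Fintype.card F - 1 by omega) ?_)
    rw [← hS, hScard, hN]; ring
  · refine Or.inr (Nat.eq_of_mul_eq_mul_right (show 0 < Fintype.card F - 1 by omega) ?_)
    rw [← hS, hScard, hN]; ring

end Cfsg.Agent.Invol.GW
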