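import Cfsg.Agent.Lib.Invol.GW.Consumers.Socle
import Cfsg.Agent.Lib.Invol.GW.Consumers.InvolAut
import Cfsg.Agent.Lib.Invol.GW.Consumers.PGLInvolution
import Cfsg.Agent.Lib.Invol.GW.Consumers.SevenSylow
import Cfsg.Agent.Lib.Invol.GW.Consumers.Dihedral
import Cfsg.Agent.Lib.Classical.DicksonPGLBasic
import Cfsg.Agent.S5891
import Cfsg.Agent.S2119

/-!
# Commuting involutions inducing outer diagonal automorphisms (for S1916), given S0483
-/

set_option autoImplicit false

namespace Cfsg.Agent.Invol.GW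

open Subgroup

universe u

theorem cyclic_invol_unique {R : Type u} [Group R] [Finite R] [IsCyclic R] {x y : R} (hx : orderOf x = 2)
    (hy : orderOf y = 2) : x = y := by
  classical
  haveI : Fintype R := Fintype.ofFinite R
  by_contra hxy
  have hle := IsCyclic.card_pow_eq_one_le (α := R) two_pos
  have hx1 : x ≠ 1 := fun e => by rw [e, orderOf_one] at hx; omega
  have hy1 : y ≠ 1 := fun e => by rw [e, orderOf_one] at hy; omega
  have h3 : ({1, x, y} : Finset R).card = 3 := by
    rw [Finset.card_insert_of_notMem (by simp [hx1.symm, hy1.symm]), Finset.card_pair hxy]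
  have h4 := Finset.card_le_card (s := ({1, x, y} : Finset R))
    (t := Finset.univ.filter fun a : R => a ^ 2 = 1) fun a ha => by
    simp only [Finset.mem_insert, Finset.mem_singleton] at ha
    rcases ha with rfl | rfl | rfl <;>
      simp [orderOf_dvd_iff_pow_eq_one.1 hx.dvd, orderOf_dvd_iff_pow_eq_one.1 hy.dvd]
  omega

/-- With dihedral Sylow subgroups every involution commutes with another one. -/
theorem exists_partner {L : Type u} [Group L] [Finite L] (P : Sylow 2 L) {m : ℕ} (hm : 1 ≤ m)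
    (e : (P : Subgroup L) ≃* DihedralGroup (2 ^ m)) {y : L} (hy : orderOf y = 2) :
    ∃ v : L, orderOf v = 2 ∧ v ≠ y ∧ y * v = v * y := by
  haveI : Fact (Nat.Prime 2) := ⟨Nat.prime_two⟩
  haveI : NeZero (2 ^ m) := ⟨by positivity⟩
  obtain ⟨R, hR⟩ := (IsPGroup.of_card (n := 1) (by rw [Nat.card_zpowers, hy, pow_one]) :
    IsPGroup 2 (Subgroup.zpowers y)).exists_le_sylow
  have hyR : y ∈ (R : Subgroup L) := hR (Subgroup.mem_zpowers y)
  let e' := (Sylow.equiv R P).trans e
  obtain ⟨k, hk⟩ : ∃ k : ℕ, k = 2 ^ (m - 1) := ⟨_, rfl⟩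
  have h2k : 2 ^ m = 2 * k := by rw [hk, ← pow_succ', Nat.sub_add_cancel hm]
  have hkk : (k : ZMod (2 ^ m)) + k = 0 := by rw [← Nat.cast_add, ← two_mul, ← h2k, ZMod.natCast_self]
  have hk0 : (k : ZMod (2 ^ m)) ≠ 0 := fun h => by
    rw [ZMod.natCast_eq_zero_iff] at h
    have hkpos : 0 < k := by rw [hk]; positivity
    have := Nat.le_of_dvd hkpos h
    omega
  let z := e'.symm (DihedralGroup.r (k : ZMod (2 ^ m)))
  let s := e'.symm (DihedralGroup.sr (0 : ZMod (2 ^ m)))
  have hzc : ∀ x, z * x = x * z := fun x => e'.injective (by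
    simp only [z, map_mul, MulEquiv.apply_symm_apply]
    rcases e' x with i | i
    · rw [DihedralGroup.r_mul_r, DihedralGroup.r_mul_r, add_comm]
    · rw [DihedralGroup.r_mul_sr, DihedralGroup.sr_mul_r]
      congr 1
      linear_combination -hkk)
  have hz1 : z ≠ 1 := (map_ne_one_iff e'.symm e'.symm.injective).2 fun h => hk0 (DihedralGroup.r.inj h)
  have hz2 : z ^ 2 = 1 := by
    rw [pow_two, ← map_mul, DihedralGroup.r_mul_r, hkk, ← DihedralGroup.one_def, map_one]
  have hs1 : s ≠ 1 := (map_ne_one_iff e'.symm e'.symm.injective).2 fun h => by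
    rw [DihedralGroup.one_def] at h; cases h
  have hs2 : s ^ 2 = 1 := by rw [pow_two, ← map_mul, DihedralGroup.sr_mul_self, map_one]
  have hzs : z ≠ s := fun h => by cases e'.symm.injective h
  have hord : ∀ w : (R : Subgroup L), w ^ 2 = 1 → w ≠ 1 → orderOf (w : L) = 2 := fun w h1 h2 => by
    rw [Subgroup.orderOf_coe]; exact orderOf_eq_prime h1 h2
  by_cases hyz : y = z
  · refine ⟨s, hord s hs2 hs1, fun h => hzs (Subtype.ext (hyz.symm.trans h.symm)), ?_⟩
    rw [hyz]
    exact congrArg Subtype.val (hzc s)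
  · exact ⟨z, hord z hz2 hz1, fun h => hyz h.symm,
      (congrArg Subtype.val (hzc ⟨y, hyR⟩)).symm⟩

theorem four_perm_square_center :
    ∀ a : Equiv.Perm (Fin 4), (∀ x, a * (x * x) = x * x * a) → a = 1 := by decide +kernel

/-- In a dihedral group, an involution with a centraliser of order above four is central. -/
theorem dihedral_big_centralizer {n : ℕ} [NeZero n] (x : DihedralGroup n) (hx : x * x = 1)
    (h4 : 4 < Nat.card (centralizer ({x} : Set (DihedralGroup n)))) : ∀ y, x * y = y * x := by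
  rcases x with i | i
  · rw [DihedralGroup.r_mul_r, DihedralGroup.one_def, DihedralGroup.r.injEq] at hx
    rintro (j | j)
    · rw [DihedralGroup.r_mul_r, DihedralGroup.r_mul_r, add_comm]
    · rw [DihedralGroup.r_mul_sr, DihedralGroup.sr_mul_r]
      congr 1
      linear_combination -hx
  · exfalso
    classical
    let key : centralizer ({DihedralGroup.sr i} : Set (DihedralGroup n)) → Bool × {j : ZMod n // j + j = 0} :=
      fun y => match y with
      | ⟨DihedralGroup.r j, hy⟩ => (true, ⟨j, by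
          rw [Subgroup.mem_centralizer_singleton_iff, DihedralGroup.r_mul_sr, DihedralGroup.sr_mul_r,
            DihedralGroup.sr.injEq] at hy
          linear_combination -hy⟩)
      | ⟨DihedralGroup.sr j, hy⟩ => (false, ⟨j - i, by
          rw [Subgroup.mem_centralizer_singleton_iff, DihedralGroup.sr_mul_sr, DihedralGroup.sr_mul_sr,
            DihedralGroup.r.injEq] at hy
          linear_combination -hy⟩)
    have hkey : Function.Injective key := by
      rintro ⟨y, hy⟩ ⟨y', hy'⟩ h
      rcases y with j | j <;> rcases y' with j' | j' <;> simp [key] at h ⊢ <;> exact h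
    have h2 : Nat.card {j : ZMod n // j + j = 0} ≤ 2 := by
      refine le_trans (Nat.card_le_card_of_injective (fun j => decide ((j : ZMod n) = 0)) ?_)
        (by rw [Nat.card_eq_fintype_card, Fintype.card_bool])
      rintro ⟨a, ha⟩ ⟨b, hb⟩ hab
      simp only [decide_eq_decide] at hab
      refine Subtype.ext ?_
      by_cases ha0 : a = 0
      · exact ha0.trans (hab.1 ha0).symm
      have hb0 : b ≠ 0 := fun h => ha0 (hab.2 h)
      have half : ∀ c : ZMod n, c + c = 0 → c ≠ 0 → 2 * c.val = n := fun c hc hc0 => by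
        have h3 := congrArg ZMod.val hc
        rw [ZMod.val_add, ZMod.val_zero] at h3
        have h4 := ZMod.val_lt c
        have h5 : c.val ≠ 0 := fun h => hc0 ((ZMod.val_eq_zero c).1 h)
        obtain ⟨d, hd⟩ := Nat.dvd_of_mod_eq_zero h3
        rcases d with _ | _ | d
        · omega
        · omega
        · exfalso; nlinarith
      exact ZMod.val_injective n (show a.val = b.val by have := half a ha ha0; have := half b hb hb0; omega)
    have h5 := Nat.card_le_card_of_injective key hkey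
    rw [Nat.card_prod, Nat.card_eq_fintype_card (α := Bool), Fintype.card_bool] at h5
    omega

theorem dihedral_central_unique {n : ℕ} [NeZero n] (hn : 3 ≤ n) {x y : DihedralGroup n} (hx : x * x = 1)
    (hy : y * y = 1) (hx1 : x ≠ 1) (hy1 : y ≠ 1) (hxc : ∀ z, x * z = z * x) (hyc : ∀ z, y * z = z * y) :
    x = y := by
  have key : ∀ w : DihedralGroup n, w * w = 1 → w ≠ 1 → (∀ z, w * z = z * w) →
      ∃ i : ZMod n, w = DihedralGroup.r i ∧ 2 * i.val = n := by
    intro w hw hw1 hwc
    rcases w with i | i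
    · refine ⟨i, rfl, ?_⟩
      rw [DihedralGroup.r_mul_r, DihedralGroup.one_def, DihedralGroup.r.injEq] at hw
      have h3 := congrArg ZMod.val hw
      rw [ZMod.val_add, ZMod.val_zero] at h3
      have h4 := ZMod.val_lt i
      have h5 : i.val ≠ 0 := fun h => hw1 (by rw [(ZMod.val_eq_zero i).1 h, DihedralGroup.one_def])
      obtain ⟨d, hd⟩ := Nat.dvd_of_mod_eq_zero h3
      rcases d with _ | _ | d
      · omega
      · omega
      · exfalso; nlinarith
    · exfalso
      have h := hwc (DihedralGroup.r 1)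
      rw [DihedralGroup.sr_mul_r, DihedralGroup.r_mul_sr, DihedralGroup.sr.injEq] at h
      have h2 : ((2 : ℕ) : ZMod n) = 0 := by push_cast; linear_combination h
      rw [ZMod.natCast_eq_zero_iff] at h2
      have := Nat.le_of_dvd two_pos h2
      omega
  obtain ⟨i, rfl, hi⟩ := key x hx hx1 hxc
  obtain ⟨j, rfl, hj⟩ := key y hy hy1 hyc
  exact congrArg DihedralGroup.r (ZMod.val_injective n (by omega))

section Main

variable {F : Type} [Field F] [Fintype F]

local notation "PSL₂" => Matrix.ProjectiveSpecialLinearGroup (Fin 2) F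
local notation "PGL₂" => Matrix.ProjGenLinGroup (Fin 2) F
local notation "ι" => Matrix.ProjectiveSpecialLinearGroup.toPGL (n := Fin 2) (R := F)

/-- `PGL₂` as automorphisms of `PSL₂`. -/
noncomputable def pglAut (F : Type) [Field F] [Fintype F] :
    Matrix.ProjGenLinGroup (Fin 2) F →* MulAut (Matrix.ProjectiveSpecialLinearGroup (Fin 2) F) :=
  Matrix.ProjGenLinGroup.lift (Classical.PSLAut.inndiagHom 2 F) (MonoidHom.ext fun u => by
    have h : Matrix.GeneralLinearGroup.scalar (Fin 2) u ∈ Subgroup.center (GL (Fin 2) F) := by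
      rw [Matrix.GeneralLinearGroup.center_eq_range_scalar]; exact ⟨u, rfl⟩
    rw [← Classical.PSLAut.ker_inndiagHom (F := F) (le_refl 2)] at h
    exact h)

theorem pglAut_injective : Function.Injective (pglAut F) := by
  rw [← MonoidHom.ker_eq_bot_iff, eq_bot_iff]
  intro x hx
  obtain ⟨g, rfl⟩ := Matrix.ProjGenLinGroup.mk_surjective x
  rw [MonoidHom.mem_ker, pglAut, Matrix.ProjGenLinGroup.lift_mk, ← MonoidHom.mem_ker,
    Classical.PSLAut.ker_inndiagHom (le_refl 2)] at hx
  exact Subgroup.mem_bot.2 (Matrix.ProjGenLinGroup.mk_eq_one.2 hx)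

theorem pglAut_toPGL (y : PSL₂) : pglAut F (ι y) = MulAut.conj y := by
  obtain ⟨s, rfl⟩ := Classical.slToPSL_surjective y
  rw [Classical.PSLAut.conj_eq_pslSemi]
  exact Matrix.ProjGenLinGroup.lift_mk _ _

/-- What a maximal subgroup containing the centraliser of an outer involution looks like. -/
theorem coatom_cases (hodd : Odd (Fintype.card F)) (h3 : 3 < Fintype.card F) {M : Subgroup PGL₂} (hM : IsCoatom M)
    (hML : ¬ (ι).range ≤ M) :
    ∀ γ : PGL₂, orderOf γ = 2 → centralizer ({γ} : Set PGL₂) ≤ M →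
      (Nat.card (centralizer ({γ} : Set PGL₂)) = 8 → Fintype.card F = 5 → False) →
      ∃ (n : ℕ) (_ : NeZero n) (e : M ≃* DihedralGroup n) (hγ : γ ∈ M), 3 ≤ n ∧
        ∀ y, e ⟨γ, hγ⟩ * y = y * e ⟨γ, hγ⟩ := by
  haveI : Finite PGL₂ := Dickson.finite_pgl
  intro γ hγ hCM h85
  have hγC : γ ∈ centralizer ({γ} : Set PGL₂) := Subgroup.mem_centralizer_singleton_iff.2 rfl
  have hγM : γ ∈ M := hCM hγC
  have hD := card_centralizer_involution hodd hγ
  have hD8 : 8 ≤ Nat.card (centralizer ({γ} : Set PGL₂)) := by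
    obtain ⟨k, hk⟩ := hodd
    omega
  have hdvd : Nat.card (centralizer ({γ} : Set PGL₂)) ∣ Nat.card M := Subgroup.card_dvd_of_le hCM
  have hdih : ∀ n : ℕ, 3 ≤ n → Nonempty (M ≃* DihedralGroup n) →
      ∃ (n : ℕ) (_ : NeZero n) (e : M ≃* DihedralGroup n) (hγ : γ ∈ M), 3 ≤ n ∧
        ∀ y, e ⟨γ, hγ⟩ * y = y * e ⟨γ, hγ⟩ := by
    rintro n hn ⟨e⟩
    haveI : NeZero n := ⟨by omega⟩
    refine ⟨n, inferInstance, e, hγM, hn, dihedral_big_centralizer _ ?_ ?_⟩
    · rw [← map_mul, show (⟨γ, hγM⟩ : M) * ⟨γ, hγM⟩ = 1 from Subtype.ext (Invol.mul_self_of_orderOf_two hγ), map_one]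
    · let j : centralizer ({γ} : Set PGL₂) → centralizer ({e ⟨γ, hγM⟩} : Set (DihedralGroup n)) := fun c =>
        ⟨e ⟨c, hCM c.2⟩, Subgroup.mem_centralizer_singleton_iff.2 (by
          rw [← map_mul, ← map_mul]
          exact congrArg e (Subtype.ext (Subgroup.mem_centralizer_singleton_iff.1 c.2)))⟩
      have hj : Function.Injective j := fun c d h =>
        Subtype.ext (Subtype.mk.inj (e.injective (congrArg Subtype.val h)))
      have := Nat.card_le_card_of_injective j hj
      omega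
  rcases S5891.result hodd h3 M hM (by rw [Dickson.PGLMax.toPGL_range_eq]; exact hML) with
    hB | ⟨-, he⟩ | he | ⟨-, -, ⟨e⟩⟩ | ⟨F₀, hF₀, hF₀', r, hr, hrodd, hq, ⟨e⟩⟩
  · exfalso
    rw [hB] at hdvd
    obtain ⟨k, hk⟩ := hodd
    rcases hD with h | h <;> rw [h] at hdvd
    · have h2 := Nat.dvd_of_mul_dvd_mul_right (by omega) hdvd
      omega
    · have hc : Nat.Coprime (Fintype.card F + 1) (Fintype.card F) := by
        simp [Nat.coprime_self_add_left]
      have h2 := Nat.le_of_dvd (by omega) (hc.dvd_of_dvd_mul_left ((Dvd.intro_left 2 rfl).trans hdvd))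
      omega
  · exact hdih _ (by omega) he
  · exact hdih _ (by omega) he
  · exfalso
    let j : centralizer ({γ} : Set PGL₂) →* Equiv.Perm (Fin 4) :=
      e.toMonoidHom.comp (Subgroup.inclusion hCM)
    have hj : Function.Injective j := e.injective.comp (Subgroup.inclusion_injective hCM)
    have hM24 : Nat.card M = 24 := by rw [Nat.card_congr e.toEquiv, Nat.card_perm, Nat.card_fin]; rfl
    rw [hM24] at hdvd
    have hle := Nat.le_of_dvd (by norm_num) hdvd
    by_cases h12 : Nat.card (centralizer ({γ} : Set PGL₂)) = 8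
    · refine h85 h12 ?_
      obtain ⟨k, hk⟩ := hodd
      omega
    have hTc : 2 ∣ 24 ∧ (j.range.index = 1 ∨ j.range.index = 2) := by
      refine ⟨by norm_num, ?_⟩
      have h := j.range.card_mul_index
      rw [← Nat.card_congr (MonoidHom.ofInjective hj).toEquiv, Nat.card_perm, Nat.card_fin,
        show Nat.factorial 4 = 24 from rfl] at h
      have : 9 ≤ Nat.card (centralizer ({γ} : Set PGL₂)) := by omega
      have hi : j.range.index < 3 := by
        by_contra hge
        have := Nat.mul_le_mul this (Nat.le_of_not_lt hge)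
        omega
      interval_cases hjr : j.range.index <;> omega
    have hsq : ∀ x : Equiv.Perm (Fin 4), x * x ∈ j.range := fun x => by
      rcases hTc.2 with h | h
      · rw [Subgroup.index_eq_one.1 h]; exact Subgroup.mem_top _
      · exact Subgroup.mul_self_mem_of_index_two h x
    have h1 : j ⟨γ, hγC⟩ = 1 := four_perm_square_center _ fun x => by
      obtain ⟨c, hc⟩ := hsq x
      rw [← hc, ← map_mul, ← map_mul]
      exact congrArg j (Subtype.ext (Subgroup.mem_centralizer_singleton_iff.1 c.2).symm)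
    have h2 : γ = 1 := congrArg Subtype.val ((map_eq_one_iff j hj).1 h1)
    rw [h2, orderOf_one] at hγ
    omega
  · exfalso
    letI := hF₀
    letI := hF₀'
    rw [Nat.card_congr e.toEquiv, Classical.natCard_PGL_eq_SL, Fus.PSLTwo.natCard_SL_two] at hdvd
    obtain ⟨q₀, hq₀⟩ : ∃ q₀, Fintype.card F₀ = q₀ := ⟨_, rfl⟩
    rw [hq₀] at hdvd hq
    have hq2 : 2 ≤ q₀ := hq₀ ▸ Fintype.one_lt_card
    have hr3 : 3 ≤ r := by
      rcases hrodd with ⟨k, rfl⟩
      have := hr.two_le
      omega
    have hq3 : q₀ ^ 3 ≤ Fintype.card F := hq ▸ Nat.pow_le_pow_right (by omega) hr3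
    have hq0q : q₀ ∣ Fintype.card F := hq ▸ dvd_pow_self q₀ (by omega)
    have hcop : ∀ d, (d = Fintype.card F - 1 ∨ d = Fintype.card F + 1) → Nat.Coprime (2 * d) q₀ := by
      intro d hd
      have hdq : Nat.Coprime d (Fintype.card F) := by
        rcases hd with rfl | rfl
        · have h := (Nat.coprime_self_sub_left (show 1 ≤ Fintype.card F by omega)).2 (Nat.coprime_one_left _)
          exact h
        · simp [Nat.coprime_self_add_left]
      refine Nat.Coprime.mul_left ?_ (hdq.coprime_dvd_right hq0q)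
      exact Nat.coprime_two_left.2 (hodd.of_dvd_nat hq0q)
    obtain ⟨t, ht⟩ : ∃ t, q₀ = t + 2 := ⟨q₀ - 2, by omega⟩
    have hmain : ∀ d, (d = Fintype.card F - 1 ∨ d = Fintype.card F + 1) →
        2 * d ∣ q₀ * ((q₀ - 1) * (q₀ + 1)) → False := fun d hd hdd => by
      have h1 := Nat.le_of_dvd (Nat.mul_pos (by omega) (by omega)) ((hcop d hd).dvd_of_dvd_mul_left hdd)
      subst ht
      have h2 : Fintype.card F - 1 ≤ d := by omega
      rw [show t + 2 - 1 = t + 1 by omega] at h1
      have h4 : 2 * ((t + 2) ^ 3 - 1) ≤ (t + 1) * (t + 2 + 1) := by omega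
      have h5 : (t + 2) ^ 3 = t ^ 3 + 6 * t ^ 2 + 12 * t + 8 := by ring
      have h6 : (t + 1) * (t + 2 + 1) = t ^ 2 + 4 * t + 3 := by ring
      omega
    rcases hD with h | h <;> rw [h] at hdvd
    · exact hmain _ (Or.inl rfl) hdvd
    · exact hmain _ (Or.inr rfl) hdvd

end Main

/-- S1916, given S0483. -/
theorem commuting_outer (hGW : GWStatement.{u}) {G : Type u} [Group G] [Finite G] (L : Subgroup G)
    (hL : IsSimpleGroup L) (hLn : ¬ IsMulCommutative L)
    (hD : ∀ P : Sylow 2 L, ∃ n : ℕ, Nonempty (↥(P : Subgroup L) ≃* DihedralGroup n))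
    (a b : G) (ha : orderOf a = 2) (hb : orderOf b = 2) (hc : a * b = b * a)
    (haL : a ∈ Subgroup.normalizer (L : Set G)) (hbL : b ∈ Subgroup.normalizer (L : Set G))
    (hCa : ∀ R : Sylow 2 ↥(L ⊓ Subgroup.centralizer ({a} : Set G)), IsCyclic R)
    (hCb : ∀ R : Sylow 2 ↥(L ⊓ Subgroup.centralizer ({b} : Set G)), IsCyclic R)
    (hgen : ¬ L ≤ Subgroup.closure ({a, b} : Set G) ⊔ (L ⊓ Subgroup.centralizer ({a} : Set G)) ⊔
      (L ⊓ Subgroup.centralizer ({b} : Set G))) :
    a * b ∈ Subgroup.centralizer (L : Set G) := by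
  haveI : Fact (Nat.Prime 2) := ⟨Nat.prime_two⟩
  haveI := hL
  have hLc : commutator L = ⊤ := (inferInstance : (commutator L).Normal).eq_bot_or_eq_top.resolve_left fun h =>
    hLn ⟨⟨fun x y => by
      have h1 := Subgroup.commutator_mem_commutator (Subgroup.mem_top x) (Subgroup.mem_top y)
      rw [← _root_.commutator_def, h, Subgroup.mem_bot, commutatorElement_eq_one_iff_mul_comm] at h1
      exact h1⟩⟩
  haveI : Group.IsPerfect L := ⟨hLc⟩
  obtain ⟨P⟩ := (inferInstance : Nonempty (Sylow 2 L))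
  obtain ⟨n, ⟨eP₀⟩⟩ := hD P
  obtain ⟨m, rfl⟩ := exists_two_pow P.isPGroup' eP₀
  have hm : 1 ≤ m := by
    by_contra h0
    obtain rfl : m = 0 := by omega
    haveI := isCyclic_of_prime_card (α := DihedralGroup (2 ^ 0)) (p := 2) (by rw [DihedralGroup.nat_card]; rfl)
    haveI : IsCyclic (P : Subgroup L) := isCyclic_of_surjective eP₀.symm eP₀.symm.surjective
    haveI := subsingleton_of_cyclic hLc P inferInstance
    exact hLn ⟨⟨fun x y => Subsingleton.elim _ _⟩⟩
  let eP := eP₀
  have h2L : 2 ∣ Nat.card L := by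
    refine dvd_trans ?_ (Subgroup.card_subgroup_dvd_card (P : Subgroup L))
    rw [Nat.card_congr eP.toEquiv, DihedralGroup.nat_card]
    exact dvd_mul_right 2 _
  have hLO : Cfsg.oddCore L = ⊥ := by
    haveI hn : (Cfsg.pPrimeCore 2 L).Normal := Grp.pPrimeCore_isNormal
    refine hn.eq_bot_or_eq_top.resolve_right fun h => ?_
    have h1 : (Nat.card (Cfsg.pPrimeCore 2 L)).Coprime 2 := Grp.pPrimeCore_coprime
    rw [h, Subgroup.card_top] at h1
    exact (Nat.Prime.coprime_iff_not_dvd Nat.prime_two).1 h1.symm h2L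
  let φ : Subgroup.normalizer (L : Set G) →* MulAut L := L.normalizerMonoidHom
  have hφ : ∀ x (l : L), ((φ x l : L) : G) = x * l * (x : G)⁻¹ := fun x l => rfl
  -- no involution with cyclic fixed Sylow subgroup fixes a four-group
  have no4 : ∀ x : G, (∀ R : Sylow 2 ↥(L ⊓ Subgroup.centralizer ({x} : Set G)), IsCyclic R) →
      ∀ u v : L, orderOf u = 2 → orderOf v = 2 → u ≠ v → u * v = v * u →
        x * u * x⁻¹ = u → x * v * x⁻¹ = v → False := by
    intro x hR u v hu hv hne huv hxu hxv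
    let C := L ⊓ Subgroup.centralizer ({x} : Set G)
    have hmem : ∀ w : L, x * w * x⁻¹ = w → (w : G) ∈ C := fun w hw =>
      ⟨w.2, Subgroup.mem_centralizer_singleton_iff.2 (mul_inv_eq_iff_eq_mul.1 hw).symm⟩
    let u' : C := ⟨u, hmem u hxu⟩
    let v' : C := ⟨v, hmem v hxv⟩
    have hu' : orderOf u' = 2 := by rw [Subgroup.orderOf_mk, Subgroup.orderOf_coe]; exact hu
    have hv' : orderOf v' = 2 := by rw [Subgroup.orderOf_mk, Subgroup.orderOf_coe]; exact hv
    have huv' : Commute u' v' := Subtype.ext (congrArg (fun w : L => (w : G)) huv)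
    have hnorm : Subgroup.zpowers u' ≤ Subgroup.normalizer (Subgroup.zpowers v' : Set C) := by
      refine le_trans ?_ (Subgroup.centralizer_le_normalizer _)
      rw [Subgroup.zpowers_le, Subgroup.mem_centralizer_iff]
      rintro _ ⟨k, rfl⟩
      exact (huv'.zpow_right k).eq.symm
    obtain ⟨R, hR'⟩ := ((IsPGroup.of_card (n := 1) (by rw [Nat.card_zpowers, hu', pow_one]) :
      IsPGroup 2 (Subgroup.zpowers u')).to_sup_of_normal_right'
      (IsPGroup.of_card (n := 1) (by rw [Nat.card_zpowers, hv', pow_one])) hnorm).exists_le_sylow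
    haveI := hR R
    have h := cyclic_invol_unique (R := (R : Subgroup C))
      (x := ⟨u', hR' (le_sup_left (a := Subgroup.zpowers u') (Subgroup.mem_zpowers u'))⟩)
      (y := ⟨v', hR' (le_sup_right (a := Subgroup.zpowers u') (Subgroup.mem_zpowers v'))⟩)
      (by rw [Subgroup.orderOf_mk]; exact hu') (by rw [Subgroup.orderOf_mk]; exact hv')
    exact hne (Subtype.ext (congrArg (fun w : (R : Subgroup C) => ((w : C) : G)) h))
  let A : Subgroup.normalizer (L : Set G) := ⟨a, haL⟩
  let B : Subgroup.normalizer (L : Set G) := ⟨b, hbL⟩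
  have hne1 : ∀ x : Subgroup.normalizer (L : Set G),
      (∀ R : Sylow 2 ↥(L ⊓ Subgroup.centralizer ({(x : G)} : Set G)), IsCyclic R) → φ x ≠ 1 := fun x hR h => by
    obtain ⟨y, hy⟩ := exists_prime_orderOf_dvd_card' (G := L) 2 h2L
    obtain ⟨v, hv, hne, hc'⟩ := exists_partner P hm eP hy
    refine no4 x hR y v hy hv hne.symm hc' ?_ ?_ <;>
    · rw [← hφ, h]; rfl
  have strip : ∀ {Q : Type} [Group Q], Nonempty (L ⧸ Cfsg.oddCore L ≃* Q) → Nonempty (L ≃* Q) :=
    fun {Q} _ ⟨f⟩ =>
      ⟨((QuotientGroup.quotientMulEquivOfEq hLO).trans QuotientGroup.quotientBot).symm.trans f⟩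
  rcases hGW (X := L) P (2 ^ m) (Nat.le_self_pow (by omega) 2) ⟨eP⟩ with ⟨F, hF, hFf, hodd, h3, hf⟩ | hf
  swap
  · exfalso
    obtain ⟨f⟩ := strip hf
    let c : Equiv.Perm (Fin 7) ≃* MulAut (alternatingGroup (Fin 7)) :=
      MulEquiv.ofBijective MulAut.conjNormal (S2119.result 7 (by norm_num) (by norm_num))
    let x := c.symm (MulAut.congr f (φ A))
    have hA2 : A * A = 1 := Subtype.ext (Invol.mul_self_of_orderOf_two ha)
    have hx : x * x = 1 := by rw [← map_mul, ← map_mul, ← map_mul, hA2, map_one, map_one, map_one]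
    obtain ⟨u, v, huA, hvA, hu, hv, hu1, hv1, hne, huv, hux, hvx⟩ := seven_four x hx
    have hfix : ∀ (w : Equiv.Perm (Fin 7)) (hw : w ∈ alternatingGroup (Fin 7)), w * x = x * w →
        (a : G) * (f.symm ⟨w, hw⟩ : L) * a⁻¹ = (f.symm ⟨w, hw⟩ : L) := by
      intro w hw hwx
      have h1 : MulAut.congr f (φ A) = MulAut.conjNormal x := (c.apply_symm_apply _).symm
      have h2 : f (φ A (f.symm ⟨w, hw⟩)) = ⟨w, hw⟩ := by
        have h := DFunLike.congr_fun h1 ⟨w, hw⟩
        refine h.trans (Subtype.ext ?_)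
        rw [MulAut.conjNormal_apply]
        exact mul_inv_eq_iff_eq_mul.2 hwx.symm
      have h3 := congrArg f.symm h2
      rw [f.symm_apply_apply] at h3
      exact congrArg Subtype.val h3
    refine no4 a hCa (f.symm ⟨u, huA⟩) (f.symm ⟨v, hvA⟩) ?_ ?_ ?_ ?_ (hfix u huA hux) (hfix v hvA hvx)
    · rw [MulEquiv.orderOf_eq, Subgroup.orderOf_mk]
      exact orderOf_eq_prime (by rw [pow_two, hu]) hu1
    · rw [MulEquiv.orderOf_eq, Subgroup.orderOf_mk]
      exact orderOf_eq_prime (by rw [pow_two, hv]) hv1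
    · exact fun h => hne (congrArg Subtype.val (f.symm.injective h))
    · rw [← map_mul, ← map_mul]
      exact congrArg f.symm (Subtype.ext huv)
  obtain ⟨f⟩ := strip hf
  letI := hF
  letI := hFf
  haveI : Finite (Matrix.ProjGenLinGroup (Fin 2) F) := Dickson.finite_pgl
  let ι := Matrix.ProjectiveSpecialLinearGroup.toPGL (n := Fin 2) (R := F)
  let Φ : Subgroup.normalizer (L : Set G) →* MulAut (Matrix.ProjectiveSpecialLinearGroup (Fin 2) F) :=
    (MulAut.congr f).toMonoidHom.comp φ
  let Ψ := pglAut F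
  have hΦfix : ∀ (x : Subgroup.normalizer (L : Set G)) (y : Matrix.ProjectiveSpecialLinearGroup (Fin 2) F),
      Φ x y = y → (x : G) * (f.symm y : L) * (x : G)⁻¹ = (f.symm y : L) := fun x y h => by
    have h' : f (φ x (f.symm y)) = y := h
    have h2 := congrArg f.symm h'
    rw [f.symm_apply_apply] at h2
    exact congrArg Subtype.val h2
  have hΦL : ∀ (l : L) (hl : (l : G) ∈ Subgroup.normalizer (L : Set G)), Φ ⟨l, hl⟩ = Ψ (ι (f l)) := by
    intro l hl
    rw [pglAut_toPGL]
    refine MulEquiv.ext fun y => ?_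
    show f (φ ⟨l, hl⟩ (f.symm y)) = f l * y * (f l)⁻¹
    rw [show φ ⟨l, hl⟩ (f.symm y) = l * f.symm y * l⁻¹ from Subtype.ext rfl, map_mul, map_mul, map_inv,
      f.apply_symm_apply]
  have hF4 : ∀ (x : Subgroup.normalizer (L : Set G)),
      (∀ R : Sylow 2 ↥(L ⊓ Subgroup.centralizer ({(x : G)} : Set G)), IsCyclic R) → ¬ FixesFour (Φ x) := by
    rintro x hR ⟨u, v, hu, hv, hne, huv, hxu, hxv⟩
    exact no4 x hR (f.symm u) (f.symm v) (by rw [MulEquiv.orderOf_eq, hu]) (by rw [MulEquiv.orderOf_eq, hv])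
      (fun h => hne (f.symm.injective h)) (by rw [← map_mul, ← map_mul, huv]) (hΦfix x u hxu) (hΦfix x v hxv)
  -- the two automorphisms are outer diagonal
  have key : ∀ x : Subgroup.normalizer (L : Set G), x * x = 1 →
      (∀ R : Sylow 2 ↥(L ⊓ Subgroup.centralizer ({(x : G)} : Set G)), IsCyclic R) →
      ∃ γ, orderOf γ = 2 ∧ Ψ γ = Φ x ∧ γ ∉ ι.range := by
    intro x hx2 hR
    have hord : orderOf (Φ x) = 2 := orderOf_eq_prime (by rw [pow_two, ← map_mul, hx2, map_one])
      fun h => hne1 x hR ((map_eq_one_iff _ (MulAut.congr f).injective).1 h)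
    rcases involution_inndiag_or_fixesFour hodd hord with ⟨g, hg⟩ | h
    swap
    · exact absurd h (hF4 x hR)
    have hγ : Ψ (Matrix.ProjGenLinGroup.mk g) = Φ x := (Matrix.ProjGenLinGroup.lift_mk _ g).trans hg.symm
    have hγ2 : orderOf (Matrix.ProjGenLinGroup.mk g) = 2 := by
      rw [← orderOf_injective Ψ pglAut_injective, hγ, hord]
    refine ⟨_, hγ2, hγ, ?_⟩
    rintro ⟨y, hy⟩
    rw [← hy, pglAut_toPGL] at hγ
    have hy2 : orderOf y = 2 := by
      rw [← hy, orderOf_injective ι Matrix.ProjectiveSpecialLinearGroup.toPGL_injective] at hγ2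
      exact hγ2
    obtain ⟨v, hv, hne, hyv⟩ := exists_partner P hm eP (y := f.symm y) (by rw [MulEquiv.orderOf_eq, hy2])
    refine hF4 x hR ⟨y, f v, hy2, by rw [MulEquiv.orderOf_eq, hv], fun h => hne ?_, ?_, ?_, ?_⟩
    · rw [h, f.symm_apply_apply]
    · have h := congrArg f hyv
      rwa [map_mul, map_mul, f.apply_symm_apply] at h
    · rw [← hγ, MulAut.conj_apply, mul_inv_cancel_right]
    · have h := congrArg f hyv
      rw [map_mul, map_mul, f.apply_symm_apply] at h
      rw [← hγ, MulAut.conj_apply, h, mul_inv_cancel_right]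
  obtain ⟨γa, hga, hΨa, hao⟩ := key A (Subtype.ext (Invol.mul_self_of_orderOf_two ha)) hCa
  obtain ⟨γb, hgb, hΨb, hbo⟩ := key B (Subtype.ext (Invol.mul_self_of_orderOf_two hb)) hCb
  -- equal images finish
  suffices hab : γa = γb by
    refine Subgroup.mem_centralizer_iff.2 fun l hl => ?_
    have h1 : φ (A * B) = 1 := by
      refine (map_eq_one_iff (MulAut.congr f) (MulAut.congr f).injective).1 ?_
      show Φ (A * B) = 1
      rw [map_mul, ← hΨa, ← hΨb, hab, ← map_mul, Invol.mul_self_of_orderOf_two hgb, map_one]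
    have h2 := hφ (A * B) ⟨l, hl⟩
    rw [h1] at h2
    exact (mul_inv_eq_iff_eq_mul.1 h2.symm).symm
  let E := Subgroup.closure ({a, b} : Set G) ⊔ (L ⊓ Subgroup.centralizer ({a} : Set G)) ⊔
      (L ⊓ Subgroup.centralizer ({b} : Set G))
  have hEN : E ≤ Subgroup.normalizer (L : Set G) := by
    refine sup_le (sup_le ((Subgroup.closure_le _).2 ?_) (inf_le_left.trans Subgroup.le_normalizer))
      (inf_le_left.trans Subgroup.le_normalizer)
    rintro x (rfl | rfl)
    exacts [haL, hbL]
  let M₀ : Subgroup (Matrix.ProjGenLinGroup (Fin 2) F) :=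
    ((E.subgroupOf (Subgroup.normalizer (L : Set G))).map Φ).comap Ψ
  have hEa : a ∈ E := (le_sup_left.trans le_sup_left : Subgroup.closure ({a, b} : Set G) ≤ E)
    (Subgroup.subset_closure (Or.inl rfl))
  have hEb : b ∈ E := (le_sup_left.trans le_sup_left : Subgroup.closure ({a, b} : Set G) ≤ E)
    (Subgroup.subset_closure (Or.inr rfl))
  have hEL : ∀ y, ι y ∈ M₀ → ∃ e ∈ E, ∀ l : L, e * (l : G) * e⁻¹ = (f.symm y : L) * (l : G) * (f.symm y : L)⁻¹ := by
    rintro y ⟨e, he, hΦe⟩
    refine ⟨e, Subgroup.mem_subgroupOf.1 he, fun l => ?_⟩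
    have h1 : Φ e = Φ ⟨(f.symm y : L), Subgroup.le_normalizer (f.symm y).2⟩ := by
      rw [hΦL, f.apply_symm_apply]; exact hΦe
    have h2 := DFunLike.congr_fun ((MulAut.congr f).injective h1) l
    exact (hφ e l).symm.trans ((congrArg Subtype.val h2).trans (hφ _ l))
  have hfixC : ∀ (x : Subgroup.normalizer (L : Set G)) γ, Ψ γ = Φ x → ∀ y, γ * ι y = ι y * γ →
      ((f.symm y : L) : G) ∈ L ⊓ Subgroup.centralizer ({(x : G)} : Set G) := by
    intro x γ hγ y hy
    have h1 : Φ x y = y := by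
      have h2 : Φ x * MulAut.conj y = MulAut.conj y * Φ x := by
        rw [← hγ, ← pglAut_toPGL, ← map_mul, ← map_mul, hy]
      have h3 : ∀ z, Φ x y * Φ x z * (Φ x y)⁻¹ = y * Φ x z * y⁻¹ := fun z => by
        have := DFunLike.congr_fun h2 z
        simpa [MulAut.mul_apply, MulAut.conj_apply] using this
      have hcen : center (Matrix.ProjectiveSpecialLinearGroup (Fin 2) F) = ⊥ := by
        haveI : IsSimpleGroup (Matrix.ProjectiveSpecialLinearGroup (Fin 2) F) :=
          Classical.PSL_isSimple le_rfl fun _ => by omega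
        refine (inferInstance : (center (Matrix.ProjectiveSpecialLinearGroup (Fin 2) F)).Normal).eq_bot_or_eq_top.resolve_right
          fun htop => hLn ⟨⟨fun p q => f.injective ?_⟩⟩
        rw [map_mul, map_mul]
        exact Subgroup.mem_center_iff.1 (htop ▸ Subgroup.mem_top (f q)) (f p)
      have h4 : y⁻¹ * Φ x y ∈ center (Matrix.ProjectiveSpecialLinearGroup (Fin 2) F) := by
        refine Subgroup.mem_center_iff.2 fun z => ?_
        obtain ⟨z, rfl⟩ := (Φ x).surjective z
        calc Φ x z * (y⁻¹ * Φ x y) = y⁻¹ * (y * Φ x z * y⁻¹) * Φ x y := by group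
          _ = y⁻¹ * Φ x y * Φ x z := by rw [← h3]; group
      rw [hcen, Subgroup.mem_bot] at h4
      exact (inv_mul_eq_one.1 h4).symm
    exact ⟨(f.symm y).2, Subgroup.mem_centralizer_singleton_iff.2 (mul_inv_eq_iff_eq_mul.1 (hΦfix x y h1)).symm⟩
  have hrange_index : ι.range.index = 2 := Dickson.PGLMax.index_range hodd
  haveI : ι.range.Normal := Subgroup.normal_of_index_eq_two hrange_index
  have hcentM : ∀ (x : Subgroup.normalizer (L : Set G)) γ, Ψ γ = Φ x → γ ∉ ι.range → (x : G) ∈ E →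
      L ⊓ Subgroup.centralizer ({(x : G)} : Set G) ≤ E →
      centralizer ({γ} : Set (Matrix.ProjGenLinGroup (Fin 2) F)) ≤ M₀ := by
    intro x γ hγ hγo hxE hCE c hc
    rw [Subgroup.mem_centralizer_singleton_iff] at hc
    have hγM : γ ∈ M₀ := ⟨x, Subgroup.mem_subgroupOf.2 hxE, hγ.symm⟩
    have hin : ∀ y, γ * ι y = ι y * γ → ι y ∈ M₀ := fun y hy => by
      have hm' := hfixC x γ hγ y hy
      exact ⟨⟨(f.symm y : L), Subgroup.le_normalizer (f.symm y).2⟩, Subgroup.mem_subgroupOf.2 (hCE hm'),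
        by rw [hΦL, f.apply_symm_apply]⟩
    by_cases hcr : c ∈ ι.range
    · obtain ⟨y, rfl⟩ := hcr
      exact hin y hc.symm
    · obtain ⟨y, hy⟩ : c * γ ∈ ι.range := by
        rw [Subgroup.mul_mem_iff_of_index_two hrange_index]
        exact iff_of_false hcr hγo
      have h2 : ι y ∈ M₀ := hin y (by rw [hy, ← mul_assoc, ← hc])
      rw [hy] at h2
      exact (Subgroup.mul_mem_cancel_right M₀ hγM).1 h2
  have hDa := hcentM A γa hΨa hao hEa (le_sup_right.trans le_sup_left)
  have hDb := hcentM B γb hΨb hbo hEb le_sup_right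
  have hnotle : ¬ ι.range ≤ M₀ := by
    intro hle
    apply hgen
    let E₁ : Subgroup L := E.subgroupOf L
    haveI : E₁.Normal := ⟨fun w hw l => by
      obtain ⟨e, he, hel⟩ := hEL (f l) (hle ⟨f l, rfl⟩)
      have h := hel w
      rw [f.symm_apply_apply] at h
      simp only [InvMemClass.coe_inv] at h
      rw [Subgroup.mem_subgroupOf]
      show (l : G) * w * (l : G)⁻¹ ∈ E
      rw [← h]
      exact E.mul_mem (E.mul_mem he (Subgroup.mem_subgroupOf.1 hw)) (E.inv_mem he)⟩
    have hne : E₁ ≠ ⊥ := by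
      intro hbot
      have hC : ∀ y, γa * ι y = ι y * γa → y = 1 := fun y hy => by
        have hm' := hfixC A γa hΨa y hy
        have h1 : f.symm y ∈ E₁ := Subgroup.mem_subgroupOf.2
          ((le_sup_right.trans le_sup_left : L ⊓ Subgroup.centralizer ({a} : Set G) ≤ E) hm')
        rw [hbot, Subgroup.mem_bot] at h1
        exact (map_eq_one_iff f.symm f.symm.injective).1 h1
      let χ : centralizer ({γa} : Set (Matrix.ProjGenLinGroup (Fin 2) F)) → Bool := fun c =>
        haveI := Classical.propDecidable ((c : Matrix.ProjGenLinGroup (Fin 2) F) ∈ ι.range)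
        decide ((c : Matrix.ProjGenLinGroup (Fin 2) F) ∈ ι.range)
      have hχ : Function.Injective χ := by
        intro c d hcd
        simp only [χ, decide_eq_decide] at hcd
        have h : (c : Matrix.ProjGenLinGroup (Fin 2) F)⁻¹ * d ∈ ι.range := by
          rw [Subgroup.mul_mem_iff_of_index_two hrange_index, inv_mem_iff]
          exact hcd
        obtain ⟨y, hy⟩ := h
        have hcd' := Subgroup.mem_centralizer_singleton_iff.1 (c⁻¹ * d).2
        have := hC y (by rw [hy]; exact hcd'.symm)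
        rw [this, map_one] at hy
        exact Subtype.ext (inv_mul_eq_one.1 hy.symm)
      have h2 := Nat.card_le_card_of_injective χ hχ
      rw [Nat.card_eq_fintype_card (α := Bool), Fintype.card_bool] at h2
      obtain ⟨k, hk⟩ := hodd
      rcases card_centralizer_involution ⟨k, hk⟩ hga with h | h <;> omega
    have htop := (inferInstance : E₁.Normal).eq_bot_or_eq_top.resolve_left hne
    exact fun l hl => Subgroup.mem_subgroupOf.1 (htop ▸ Subgroup.mem_top (⟨l, hl⟩ : L) : _ ∈ E₁)
  obtain ⟨M, hM, hM₀⟩ := (IsCoatomic.eq_top_or_exists_le_coatom M₀).resolve_left fun h => hnotle (h ▸ le_top)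
  have hML : ¬ ι.range ≤ M := fun hle => by
    have h1 := Subgroup.index_dvd_of_le hle
    rw [hrange_index, Nat.dvd_prime Nat.prime_two] at h1
    rcases h1 with h1 | h1
    · exact hM.1 (Subgroup.index_eq_one.1 h1)
    · have heq : ι.range = M := Subgroup.eq_of_le_of_card_ge hle (by
        have e1 := ι.range.card_mul_index
        have e2 := M.card_mul_index
        rw [h1] at e2
        rw [hrange_index] at e1
        omega)
      exact hao (heq ▸ hM₀ (hDa (Subgroup.mem_centralizer_singleton_iff.2 rfl)))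
  -- the small case
  have h85 : ∀ (x : Subgroup.normalizer (L : Set G)) γ, Ψ γ = Φ x → γ ∉ ι.range →
      (∀ R : Sylow 2 ↥(L ⊓ Subgroup.centralizer ({(x : G)} : Set G)), IsCyclic R) →
      Nat.card (centralizer ({γ} : Set (Matrix.ProjGenLinGroup (Fin 2) F))) = 8 → Fintype.card F = 5 → False := by
    intro x γ hγ hγo hR h8 hq
    have hC4 := Dickson.PGLMax.card_eq_two_mul hodd
      (M := centralizer ({γ} : Set (Matrix.ProjGenLinGroup (Fin 2) F)))
      fun hle => hγo (hle (Subgroup.mem_centralizer_singleton_iff.2 rfl))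
    let Y := (centralizer ({γ} : Set (Matrix.ProjGenLinGroup (Fin 2) F))).comap ι
    have hY : Nat.card Y = 2 ^ 2 := by
      change Nat.card (centralizer ({γ} : Set (Matrix.ProjGenLinGroup (Fin 2) F))) = 2 * Nat.card Y at hC4
      rw [h8] at hC4
      omega
    obtain ⟨R, hR'⟩ := ((IsPGroup.of_card hY).map f.symm.toMonoidHom).exists_le_sylow
    let eR := (Sylow.equiv R P).trans eP
    have hPcard : Nat.card (P : Subgroup L) = 2 * 2 ^ m := by
      rw [Nat.card_congr eP.toEquiv, DihedralGroup.nat_card]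
    have hm1 : m = 1 := by
      have h1 := Subgroup.card_subgroup_dvd_card (P : Subgroup L)
      rw [hPcard, Nat.card_congr f.toEquiv] at h1
      have h2 := card_PSLTwo (F := F) hodd
      rw [hq] at h2
      rw [show Nat.card (Matrix.ProjectiveSpecialLinearGroup (Fin 2) F) = 60 by omega] at h1
      by_contra hne
      have h3 : 2 ^ 3 ∣ 2 * 2 ^ m := by rw [← pow_succ']; exact Nat.pow_dvd_pow 2 (by omega)
      have := h3.trans h1
      norm_num at this
    subst hm1
    have hcardR : Nat.card (R : Subgroup L) = 4 := by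
      rw [Nat.card_congr eR.toEquiv, DihedralGroup.nat_card]; rfl
    have hall : ∀ r : (R : Subgroup L), (x : G) * (r : L) * (x : G)⁻¹ = ((r : L) : G) := by
      have heq : Y.map f.symm.toMonoidHom = (R : Subgroup L) := Subgroup.eq_of_le_of_card_ge hR' (by
        rw [hcardR, Subgroup.card_map_of_injective f.symm.injective, hY]; rfl)
      intro r
      obtain ⟨y, hy, hyr⟩ := (heq.symm ▸ r.2 : (r : L) ∈ Y.map f.symm.toMonoidHom)
      have hm' := hfixC x γ hγ y (Subgroup.mem_centralizer_singleton_iff.1 hy).symm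
      rw [← hyr]
      exact mul_inv_eq_iff_eq_mul.2 (Subgroup.mem_centralizer_singleton_iff.1 hm'.2).symm
    have hd : orderOf (DihedralGroup.r 1 : DihedralGroup (2 ^ 1)) = 2 := DihedralGroup.orderOf_r_one
    have hd' : orderOf (DihedralGroup.sr 0 : DihedralGroup (2 ^ 1)) = 2 := DihedralGroup.orderOf_sr 0
    refine no4 x hR (eR.symm (DihedralGroup.r 1) : (R : Subgroup L)) (eR.symm (DihedralGroup.sr 0) : (R : Subgroup L))
      ?_ ?_ ?_ ?_ (hall _) (hall _)
    · rw [Subgroup.orderOf_coe, MulEquiv.orderOf_eq, hd]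
    · rw [Subgroup.orderOf_coe, MulEquiv.orderOf_eq, hd']
    · intro h
      have := eR.symm.injective (Subtype.ext h)
      cases this
    · rw [← Subgroup.coe_mul, ← Subgroup.coe_mul, ← map_mul, ← map_mul]
      congr 2
  obtain ⟨k₁, hk₁, e₁, hγ₁, hn₁, hc₁⟩ := coatom_cases hodd h3 hM hML γa hga (hDa.trans hM₀) (h85 A γa hΨa hao hCa)
  obtain ⟨k₂, hk₂, e₂, hγ₂, hn₂, hc₂⟩ := coatom_cases hodd h3 hM hML γb hgb (hDb.trans hM₀) (h85 B γb hΨb hbo hCb)
  have hsq : ∀ (γ) (hγ : γ ∈ M), orderOf γ = 2 → e₁ ⟨γ, hγ⟩ * e₁ ⟨γ, hγ⟩ = 1 ∧ e₁ ⟨γ, hγ⟩ ≠ 1 := fun γ hγ h => by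
    refine ⟨?_, (map_ne_one_iff e₁ e₁.injective).2 fun h' => ?_⟩
    · rw [← map_mul, show (⟨γ, hγ⟩ : M) * ⟨γ, hγ⟩ = 1 from Subtype.ext (Invol.mul_self_of_orderOf_two h), map_one]
    · rw [show γ = 1 from congrArg Subtype.val h', orderOf_one] at h
      omega
  have hc2' : ∀ y, e₁ ⟨γb, hγ₂⟩ * y = y * e₁ ⟨γb, hγ₂⟩ := fun y => by
    obtain ⟨w, rfl⟩ := e₁.surjective y
    rw [← map_mul, ← map_mul]
    refine congrArg e₁ (e₂.injective ?_)
    rw [map_mul, map_mul]
    exact hc₂ _
  haveI := hk₁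
  exact congrArg Subtype.val (e₁.injective (dihedral_central_unique hn₁ (hsq γa hγ₁ hga).1 (hsq γb hγ₂ hgb).1
    (hsq γa hγ₁ hga).2 (hsq γb hγ₂ hgb).2 hc₁ hc2'))

end Cfsg.Agent.Invol.GW
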