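import Cfsg.Agent.Lib.Invol.GW.Consumers.CentAlt
import Cfsg.Agent.Lib.Fus.DihedralAut
import Cfsg.Agent.Lib.Grp.Solvable
import Cfsg.Agent.Lib.Grp.Cores
import Cfsg.Agent.Lib.Transfer.TwoByCyclic
import Cfsg.Agent.S0106

/-!
# The solvable case: the quotient is `SL(2,3)`, and it is the whole derived group
-/

set_option autoImplicit false

open scoped commutatorElement

namespace Cfsg.Agent.Invol.GW

open Subgroup

universe u

theorem no_index_two_quotient {K : Type u} [Group K] (N : Subgroup K) [N.Normal]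
    (h : ∀ M : Subgroup K, M.index ≠ 2) (M : Subgroup (K ⧸ N)) : M.index ≠ 2 := fun hM =>
  h (M.comap (QuotientGroup.mk' N))
    (by rw [Subgroup.index_comap_of_surjective _ (QuotientGroup.mk'_surjective N), hM])

theorem not_isPGroup_two {Q : Type u} [Group Q] [Finite Q] (h : ∀ M : Subgroup Q, M.index ≠ 2)
    (h1 : 1 < Nat.card Q) : ¬ IsPGroup 2 Q := fun hp => by
  haveI : Fact (Nat.Prime 2) := ⟨Nat.prime_two⟩
  obtain ⟨k, hk⟩ := IsPGroup.iff_card.1 hp
  obtain ⟨j, rfl⟩ : ∃ j, k = j + 1 := ⟨k - 1, by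
    have : k ≠ 0 := fun h0 => by rw [hk, h0] at h1; norm_num at h1
    omega⟩
  obtain ⟨M, hM⟩ := Sylow.exists_subgroup_card_pow_prime 2 (n := j) (G := Q) (hk ▸ Nat.pow_dvd_pow 2 (by omega))
  have := M.card_mul_index
  rw [hM, hk, pow_succ] at this
  exact h M (Nat.eq_of_mul_eq_mul_left (by positivity) this)

theorem three_cycle_facts :
    (∀ q : Equiv.Perm (Fin 3), q * q * q = 1 → q ≠ 1 → ∀ x, q x ≠ x) ∧
    (∀ p q : Equiv.Perm (Fin 3), q * q * q = 1 → q ≠ 1 → p * q = q * p → p * p = 1 → p = 1) ∧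
    (∀ p : Equiv.Perm (Fin 3), p * p * p = 1 ∨ p * p = 1) := by
  refine ⟨?_, ?_, ?_⟩ <;> decide +kernel

theorem q8_inner : ∀ p q : QuaternionGroup 2,
    (p = QuaternionGroup.a 1 ∨ p = QuaternionGroup.a 1 * QuaternionGroup.a 2) →
    (q = QuaternionGroup.xa 0 ∨ q = QuaternionGroup.xa 0 * QuaternionGroup.a 2) →
    ∃ w : QuaternionGroup 2, w * QuaternionGroup.a 1 = p * w ∧ w * QuaternionGroup.xa 0 = q * w := by
  decide +kernel

theorem q8_gen (T : Subgroup (QuaternionGroup 2)) (h1 : QuaternionGroup.a 1 ∈ T)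
    (h2 : QuaternionGroup.xa 0 ∈ T) : T = ⊤ := by
  refine eq_top_iff.2 fun x _ => ?_
  rcases x with i | i
  · rw [← ZMod.natCast_zmod_val i, ← QuaternionGroup.a_one_pow]
    exact T.pow_mem h1 _
  · rw [← zero_add i, ← QuaternionGroup.xa_mul_a, ← ZMod.natCast_zmod_val i, ← QuaternionGroup.a_one_pow]
    exact T.mul_mem h2 (T.pow_mem h1 _)

set_option maxHeartbeats 1000000 in
/-- The solvable case. -/
theorem small_case {H : Type u} [Group H] [Finite H] (S : Sylow 2 H)
    (hS : Cfsg.IsQuasiDihedral (S : Subgroup H) ∨ Cfsg.IsWreathed (S : Subgroup H))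
    (K : Subgroup H) [K.Normal] (hsup : ∀ h : H, ∃ s ∈ (S : Subgroup H), ∃ k ∈ K, h = s * k)
    (hderK : commutator H ≤ K)
    (hK2 : ∀ M : Subgroup K, M.index ≠ 2) (hOK : Cfsg.oddCore K = ⊥)
    (Z : Subgroup K) [Z.Normal] (hZc : Z ≤ center K) (hZcard : Nat.card Z = 2)
    (hZmap : ∀ h : H, Z.map (MulAut.conjNormal h : K ≃* K).toMonoidHom = Z) (P : Sylow 2 K)
    (hP : (P : Subgroup K) = (S : Subgroup H).subgroupOf K) {m : ℕ} (hm : 1 ≤ m)
    (eP : (P : Subgroup K) ≃* QuaternionGroup (2 ^ m))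
    (huniq : ∀ x y : K, orderOf x = 2 → orderOf y = 2 → x = y)
    (hsol : Group.IsSolvable (K ⧸ Z)) :
    Nat.card K = 24 ∧ commutator H = K ∧
      Nonempty (K ≃* Matrix.SpecialLinearGroup (Fin 2) (ZMod 3)) := by
  haveI : Fact (Nat.Prime 2) := ⟨Nat.prime_two⟩
  haveI : NeZero (2 ^ m) := ⟨by positivity⟩
  obtain ⟨z, hz⟩ := exists_prime_orderOf_dvd_card' (G := Z) 2 (dvd_of_eq hZcard.symm)
  have hzK : ∀ x : K, orderOf x = 2 → x = z := fun x hx => huniq x z hx (by rw [Subgroup.orderOf_coe, hz])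
  have hZP : Z ≤ (P : Subgroup K) := by
    obtain ⟨w, hw⟩ := exists_prime_orderOf_dvd_card' (G := (P : Subgroup K)) 2 (by
      rw [Nat.card_congr eP.toEquiv, Nat.card_eq_fintype_card, QuaternionGroup.card]
      exact Dvd.intro (2 * 2 ^ m) (by ring))
    intro x hx
    by_cases hx1 : x = 1
    · rw [hx1]; exact one_mem _
    rw [huniq x w (orderOf_eq_prime (by
      have := congrArg Subtype.val (pow_card_eq_one' (x := (⟨x, hx⟩ : Z)))
      rwa [hZcard, SubgroupClass.coe_pow, OneMemClass.coe_one] at this) hx1)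
      (by rw [Subgroup.orderOf_coe, hw])]
    exact w.2
  let π := QuotientGroup.mk' Z
  have hQ2 := no_index_two_quotient Z hK2
  have hOQ : Cfsg.oddCore (K ⧸ Z) = ⊥ := oddCore_quotient_central hOK Z hZc hZcard
  let P' : Sylow 2 (K ⧸ Z) := P.mapSurjective (QuotientGroup.mk'_surjective Z)
  obtain ⟨eY⟩ := quotient_sylow_dihedral P eP Z hZcard hZP
  have hcardP' : Nat.card (P' : Subgroup (K ⧸ Z)) = 2 * 2 ^ m := by
    rw [Nat.card_congr eY.toEquiv, DihedralGroup.nat_card]
  have hnp : ¬ IsPGroup 2 (K ⧸ Z) := not_isPGroup_two hQ2 (lt_of_lt_of_le (by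
    rw [hcardP']; have := Nat.two_pow_pos m; omega) (Subgroup.card_le_card_group _))
  haveI := hsol
  let V : Subgroup (K ⧸ Z) := Cfsg.pCore 2 (K ⧸ Z)
  haveI hVn : V.Normal := Grp.pCore_isNormal
  have hVp : IsPGroup 2 V := Grp.pCore_isPGroup
  have hCV : centralizer (V : Set (K ⧸ Z)) ≤ V := Grp.centralizer_pCore_le hOQ
  have hVP : V ≤ (P' : Subgroup (K ⧸ Z)) := Grp.pCore_le_sylow P'
  -- otherwise the quotient would be a 2-group
  have haut : ¬ IsPGroup 2 (MulAut V) := fun hA => hnp fun q => by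
    obtain ⟨k, hk⟩ := hA (MulAut.conjNormal q)
    have hmem : q ^ (2 ^ k) ∈ V := hCV (Subgroup.mem_centralizer_iff.2 fun v hv => by
      rw [← map_pow] at hk
      have h1 : MulAut.conjNormal (q ^ (2 ^ k)) (⟨v, hv⟩ : V) = ⟨v, hv⟩ := by rw [hk]; rfl
      have h2 := congrArg Subtype.val h1
      rw [MulAut.conjNormal_apply] at h2
      exact (mul_inv_eq_iff_eq_mul.1 h2).symm)
    obtain ⟨j, hj⟩ := hVp ⟨_, hmem⟩
    exact ⟨k + j, by rw [pow_add, pow_mul]; exact congrArg Subtype.val hj⟩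
  obtain ⟨eV⟩ : Nonempty (V ≃* DihedralGroup 2) := by
    rcases Transfer.TwoByCyclic.dihedral_subgroup eY (V.subgroupOf (P' : Subgroup (K ⧸ Z))) with hc | ⟨j, ⟨g⟩⟩
    · exfalso
      let eVV := Subgroup.subgroupOfEquivOfLe hVP
      haveI : IsCyclic V := isCyclic_of_surjective eVV eVV.surjective
      obtain ⟨k, hk⟩ := IsPGroup.iff_card.1 hVp
      refine haut (IsPGroup.of_card (n := k - 1) ?_)
      rw [IsCyclic.card_mulAut, hk]
      rcases Nat.eq_zero_or_pos k with rfl | hk0
      · simp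
      · rw [Nat.totient_prime_pow Nat.prime_two hk0]; norm_num
    · rcases j with _ | _ | j
      · exfalso
        let eV := (Subgroup.subgroupOfEquivOfLe hVP).symm.trans g
        haveI := isCyclic_of_prime_card (α := V) (p := 2)
          (by rw [Nat.card_congr eV.toEquiv, DihedralGroup.nat_card]; rfl)
        refine haut (IsPGroup.of_card (n := 0) ?_)
        rw [IsCyclic.card_mulAut, Nat.card_congr eV.toEquiv, DihedralGroup.nat_card]
        rfl
      · exact ⟨((Subgroup.subgroupOfEquivOfLe hVP).symm.trans g : V ≃* DihedralGroup (2 ^ 1))⟩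
      · exfalso
        exact haut ((Fus.isPGroup_mulAut_dihedralGroup (k := j + 2) (by omega)).of_equiv
          (MulAut.congr ((Subgroup.subgroupOfEquivOfLe hVP).symm.trans g)).symm)
  have hV4 : Nat.card V = 4 := by rw [Nat.card_congr eV.toEquiv, DihedralGroup.nat_card]
  have hVsq : ∀ v ∈ V, v * v = 1 := fun v hv => by
    have h1 : ∀ d : DihedralGroup 2, d * d = 1 := by decide
    exact congrArg Subtype.val (eV.injective (by rw [map_mul, map_one]; exact h1 _) :
      (⟨v, hv⟩ : V) * ⟨v, hv⟩ = 1)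
  have hVcomm : ∀ a ∈ V, ∀ b ∈ V, a * b = b * a := fun a ha b hb => by
    have h1 : ∀ c d : DihedralGroup 2, c * d = d * c := by decide
    exact congrArg Subtype.val (eV.injective (by rw [map_mul, map_mul]; exact h1 _ _) :
      (⟨a, ha⟩ : V) * ⟨b, hb⟩ = ⟨b, hb⟩ * ⟨a, ha⟩)
  have hVinv : ∀ (α : MulAut (K ⧸ Z)) (v : K ⧸ Z), v ∈ V → α v ∈ V := fun α v hv =>
    le_sSup (show (V.map α.toMonoidHom) ∈ {N : Subgroup (K ⧸ Z) | N.Normal ∧ IsPGroup 2 N} from
      ⟨hVn.map _ α.surjective, hVp.map _⟩) (Subgroup.mem_map_of_mem _ hv)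
  -- automorphisms permute the three involutions
  let X := {v : K ⧸ Z // v ∈ V ∧ v ≠ 1}
  have hXiff : ∀ (α : MulAut (K ⧸ Z)) (v : K ⧸ Z), α v ∈ V ∧ α v ≠ 1 ↔ v ∈ V ∧ v ≠ 1 := fun α v =>
    ⟨fun h => ⟨by simpa using hVinv α⁻¹ _ h.1, fun e => h.2 (by rw [e, map_one])⟩,
      fun h => ⟨hVinv α v h.1, (map_ne_one_iff α α.injective).2 h.2⟩⟩
  let res : MulAut (K ⧸ Z) →* Equiv.Perm X :=
    MonoidHom.mk' (fun α => Equiv.Perm.subtypePerm α.toEquiv (hXiff α)) fun α β => Equiv.ext fun x => rfl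
  have hres : ∀ α, res α = 1 → ∀ v ∈ V, α v = v := fun α hα v hv => by
    by_cases hv1 : v = 1
    · rw [hv1, map_one]
    · exact congrArg Subtype.val (DFunLike.congr_fun hα (⟨v, hv, hv1⟩ : X))
  have hcardX : Nat.card X = 3 := by
    classical
    haveI : Fintype (K ⧸ Z) := Fintype.ofFinite _
    rw [Nat.card_eq_fintype_card, Fintype.card_subtype]
    have : (Finset.univ.filter fun v : K ⧸ Z => v ∈ V ∧ v ≠ 1) =
        (Finset.univ.filter fun v : K ⧸ Z => v ∈ V).erase 1 := by ext v; simp [and_comm]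
    rw [this, Finset.card_erase_of_mem (by simp [V.one_mem]), ← Fintype.card_subtype,
      ← Nat.card_eq_fintype_card]
    have h4 : Nat.card {v : K ⧸ Z // v ∈ V} = 4 := hV4
    omega
  let χ : (K ⧸ Z) →* Equiv.Perm X := res.comp MulAut.conj
  have hχker : χ.ker = V := by
    refine le_antisymm (fun q hq => hCV (Subgroup.mem_centralizer_iff.2 fun v hv => ?_)) fun q hq => ?_
    · have := hres _ hq v hv
      rw [MulAut.conj_apply] at this
      exact (mul_inv_eq_iff_eq_mul.1 this).symm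
    · refine Equiv.ext fun x => Subtype.ext ?_
      show q * (x : K ⧸ Z) * q⁻¹ = x
      rw [hVcomm q hq _ x.2.1, mul_inv_cancel_right]
  haveI : Nontrivial X := Finite.one_lt_card_iff_nontrivial.1 (by omega)
  classical
  haveI : Fintype X := Fintype.ofFinite X
  have hQcard : Nat.card (K ⧸ Z) = 12 := by
    have h1 : Nat.card (K ⧸ Z) = Nat.card χ.range * 4 := by
      rw [χ.ker.card_eq_card_quotient_mul_card_subgroup,
        Nat.card_congr (QuotientGroup.quotientKerEquivRange χ).toEquiv, hχker, hV4]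
    have h6 : Nat.card χ.range ∣ 6 := by
      refine (Subgroup.card_subgroup_dvd_card _).trans ?_
      rw [Nat.card_perm, hcardX]
      rfl
    have hle := Nat.le_of_dvd (by norm_num) h6
    have hne6 : Nat.card χ.range ≠ 6 := fun h => by
      have htop : χ.range = ⊤ := Subgroup.eq_top_of_le_card _ (by rw [h, Nat.card_perm, hcardX]; rfl)
      refine hQ2 (Equiv.Perm.sign.comp χ).ker ?_
      rw [Subgroup.index_ker]
      have hs : Function.Surjective (Equiv.Perm.sign.comp χ) :=
        (Equiv.Perm.sign_surjective X).comp (MonoidHom.range_eq_top.1 htop)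
      rw [MonoidHom.range_eq_top.2 hs, Subgroup.card_top, Nat.card_eq_fintype_card, Fintype.card_units_int]
    rw [h1]
    interval_cases h : Nat.card χ.range
    · norm_num at h6
    · exact absurd (IsPGroup.of_card (n := 2) h1) hnp
    · exact absurd (IsPGroup.of_card (n := 3) h1) hnp
    · rfl
    · norm_num at h6
    · norm_num at h6
    · exact absurd rfl hne6
  have hm1 : m = 1 := by
    have h1 := Subgroup.card_subgroup_dvd_card (P' : Subgroup (K ⧸ Z))
    rw [hQcard, hcardP'] at h1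
    by_contra hne
    have h2 : 2 ^ 3 ∣ 2 * 2 ^ m := by
      rw [← pow_succ']; exact Nat.pow_dvd_pow 2 (by omega)
    have := h2.trans h1
    norm_num at this
  subst hm1
  have hKcard : Nat.card K = 24 := by
    rw [Z.card_eq_card_quotient_mul_card_subgroup, hQcard, hZcard]
  have hPcard : Nat.card (P : Subgroup K) = 8 := by
    rw [Nat.card_congr eP.toEquiv, Nat.card_eq_fintype_card, QuaternionGroup.card]; rfl
  have hVeq : V = (P' : Subgroup (K ⧸ Z)) := Subgroup.eq_of_le_of_card_ge hVP (by rw [hcardP', hV4]; norm_num)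
  have hPeq : (P : Subgroup K) = V.comap π := by
    have hle : (P : Subgroup K) ≤ V.comap π := fun x hx => by
      rw [Subgroup.mem_comap, hVeq]
      exact Subgroup.mem_map_of_mem π hx
    refine Subgroup.eq_of_le_of_card_ge hle (le_of_eq ?_)
    have h2 : (V.comap π).index = V.index :=
      Subgroup.index_comap_of_surjective _ (QuotientGroup.mk'_surjective Z)
    have h3 := (V.comap π).card_mul_index
    have h4 := V.card_mul_index
    rw [hV4, hQcard] at h4
    rw [hKcard, h2, show V.index = 3 by omega] at h3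
    rw [hPcard]; omega
  -- an element of order three
  obtain ⟨c, hc⟩ := (by
    haveI : Fact (Nat.Prime 3) := ⟨Nat.prime_three⟩
    exact exists_prime_orderOf_dvd_card' (G := K) 3 (by rw [hKcard]; norm_num))
  have hcV : π c ∉ V := fun h => by
    have h1 : c ∈ (P : Subgroup K) := hPeq.symm ▸ h
    have h2 : orderOf (⟨c, h1⟩ : (P : Subgroup K)) ∣ Nat.card (P : Subgroup K) := orderOf_dvd_natCard _
    rw [Subgroup.orderOf_mk, hc, hPcard] at h2
    norm_num at h2
  have hc3 : χ (π c) * χ (π c) * χ (π c) = 1 := by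
    rw [← map_mul, ← map_mul, ← map_mul, ← map_mul, show c * c * c = 1 by
      have h := pow_orderOf_eq_one c
      rwa [hc, pow_succ, pow_two] at h, map_one, map_one]
  have hc1 : χ (π c) ≠ 1 := fun h => hcV (hχker ▸ h)
  obtain ⟨eX⟩ : Nonempty (X ≃ Fin 3) := ⟨Fintype.equivFinOfCardEq (by rw [← Nat.card_eq_fintype_card, hcardX])⟩
  have hq3 : eX.permCongrHom (χ (π c)) * eX.permCongrHom (χ (π c)) * eX.permCongrHom (χ (π c)) = 1 := by
    rw [← map_mul, ← map_mul, hc3, map_one]
  have hq1 : eX.permCongrHom (χ (π c)) ≠ 1 := (map_ne_one_iff _ eX.permCongrHom.injective).2 hc1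
  -- the Sylow subgroup lies in the derived group
  have hzD : (z : K) ∈ commutator K := by
    obtain ⟨⟨a, b, hab⟩, -⟩ := quat_facts le_rfl eP
    obtain ⟨k, hk⟩ := exists_prime_orderOf_dvd_card' (G := ↥(Subgroup.zpowers ⁅a, b⁆)) 2 (by
      rw [Nat.card_zpowers]
      obtain ⟨j, hj⟩ := IsPGroup.iff_orderOf.1 P.isPGroup' ⁅a, b⁆
      rcases j with _ | j
      · rw [pow_zero, orderOf_eq_one_iff, commutatorElement_eq_one_iff_mul_comm] at hj
        exact absurd hj hab
      · rw [hj]; exact dvd_pow_self 2 (by omega))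
    obtain ⟨i, hi⟩ := Subgroup.mem_zpowers_iff.1 k.2
    rw [← hzK (((k : (P : Subgroup K)) : K)) (by rw [Subgroup.orderOf_coe, Subgroup.orderOf_coe, hk]), ← hi]
    have : (((⁅a, b⁆ ^ i : (P : Subgroup K))) : K) = ⁅(a : K), (b : K)⁆ ^ i := by
      rw [SubgroupClass.coe_zpow]; rfl
    rw [this]
    exact (commutator K).zpow_mem (Subgroup.commutator_mem_commutator (Subgroup.mem_top _) (Subgroup.mem_top _)) i
  have hZD : Z ≤ commutator K := fun x hx => by
    by_cases hx1 : x = 1
    · rw [hx1]; exact one_mem _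
    rw [hzK x (orderOf_eq_prime (by
      have := congrArg Subtype.val (pow_card_eq_one' (x := (⟨x, hx⟩ : Z)))
      rwa [hZcard, SubgroupClass.coe_pow, OneMemClass.coe_one] at this) hx1)]
    exact hzD
  have hVD : ∀ v ∈ V, ∃ w ∈ V, v = ⁅π c, w⁆ := by
    let g : V → V := fun w => ⟨⁅π c, (w : K ⧸ Z)⁆, by
      rw [commutatorElement_def]; exact V.mul_mem (hVn.conj_mem _ w.2 _) (V.inv_mem w.2)⟩
    have hinj : Function.Injective g := by
      intro v w h
      have h' : ⁅π c, (v : K ⧸ Z)⁆ = ⁅π c, (w : K ⧸ Z)⁆ := congrArg Subtype.val h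
      by_contra hne
      have hu : (w : K ⧸ Z)⁻¹ * v ≠ 1 := fun e => hne (Subtype.ext (inv_mul_eq_one.1 e).symm)
      have hfix : π c * ((w : K ⧸ Z)⁻¹ * v) * (π c)⁻¹ = (w : K ⧸ Z)⁻¹ * v := by
        rw [commutatorElement_def, commutatorElement_def] at h'
        have h'' : π c * v * (π c)⁻¹ = π c * w * (π c)⁻¹ * (w : K ⧸ Z)⁻¹ * v := by
          calc π c * v * (π c)⁻¹ = π c * v * (π c)⁻¹ * (v : K ⧸ Z)⁻¹ * v := by group
            _ = _ := by rw [h']
        calc π c * ((w : K ⧸ Z)⁻¹ * v) * (π c)⁻¹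
            = (π c * w * (π c)⁻¹)⁻¹ * (π c * v * (π c)⁻¹) := by group
          _ = _ := by rw [h'']; group
      exact three_cycle_facts.1 _ hq3 hq1 (eX ⟨_, V.mul_mem (V.inv_mem w.2) v.2, hu⟩) (by
        show eX (χ (π c) (eX.symm (eX _))) = _
        rw [eX.symm_apply_apply]
        exact congrArg eX (Subtype.ext hfix))
    intro v hv
    obtain ⟨w, hw⟩ := (Finite.injective_iff_surjective.1 hinj) ⟨v, hv⟩
    exact ⟨w, w.2, (congrArg Subtype.val hw).symm⟩
  have hPD : (P : Subgroup K) ≤ commutator K := fun x hx => by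
    obtain ⟨w, -, hw⟩ := hVD (π x) (hPeq ▸ hx : x ∈ V.comap π)
    obtain ⟨w, rfl⟩ := QuotientGroup.mk'_surjective Z w
    rw [← map_commutatorElement] at hw
    have h1 : ⁅c, w⁆⁻¹ * x ∈ Z := (QuotientGroup.eq_one_iff _).1 (by
      show π (⁅c, w⁆⁻¹ * x) = 1
      rw [map_mul, map_inv, hw, inv_mul_cancel])
    rw [show x = ⁅c, w⁆ * (⁅c, w⁆⁻¹ * x) from (mul_inv_cancel_left _ _).symm]
    exact (commutator K).mul_mem (Subgroup.commutator_mem_commutator (Subgroup.mem_top _) (Subgroup.mem_top _))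
      (hZD h1)
  -- the derived group of the whole group is the kernel
  have hder : commutator H = K := by
    refine le_antisymm hderK ?_
    let D : Subgroup K := (commutator H).subgroupOf K
    have hKD : commutator K ≤ D := by
      rw [_root_.commutator_def, Subgroup.commutator_le]
      intro a _ b _
      exact Subgroup.commutator_mem_commutator (Subgroup.mem_top (a : H)) (Subgroup.mem_top (b : H))
    suffices hD : D = ⊤ from fun x hx => Subgroup.mem_subgroupOf.1 (hD ▸ Subgroup.mem_top (⟨x, hx⟩ : K) : _ ∈ D)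
    by_contra hne
    have h8 : 8 ∣ Nat.card D := hPcard ▸ Subgroup.card_dvd_of_le (hPD.trans hKD)
    have h24 : Nat.card D ∣ 24 := hKcard ▸ Subgroup.card_subgroup_dvd_card D
    have hD8 : Nat.card D = 8 := by
      have hle := Nat.le_of_dvd (by norm_num) h24
      have hne24 : Nat.card D ≠ 24 := fun h => hne (Subgroup.eq_top_of_card_eq _ (by rw [h, hKcard]))
      obtain ⟨q, hq⟩ := h8
      rw [hq] at h24 hle hne24 ⊢
      have : q ≤ 3 := by omega
      interval_cases q <;> first | rfl | omega | norm_num at h24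
    have hDP : D = (P : Subgroup K) :=
      (Subgroup.eq_of_le_of_card_ge (hPD.trans hKD) (by rw [hD8, hPcard])).symm
    -- elements of the Sylow subgroup act as inner automorphisms
    let θ := res.comp (autQuot K Z hZmap)
    let T : Subgroup (S : Subgroup H) := K.subgroupOf (S : Subgroup H)
    haveI : T.Normal := (inferInstance : K.Normal).subgroupOf _
    have hmem : ∀ p : (P : Subgroup K), ((p : K) : H) ∈ (S : Subgroup H) := fun p =>
      Subgroup.mem_subgroupOf.1 (hP ▸ p.2)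
    let ι : (P : Subgroup K) →* (S : Subgroup H) :=
      (K.subtype.comp (P : Subgroup K).subtype).codRestrict _ hmem
    have hιT : ∀ p, ι p ∈ T := fun p => Subgroup.mem_subgroupOf.2 (p : K).2
    have hιi : Function.Injective ι := fun p q h =>
      Subtype.ext (Subtype.ext (congrArg (fun s : (S : Subgroup H) => (s : H)) h))
    have hTι : ∀ t ∈ T, ∃ p, ι p = t := fun t ht =>
      ⟨⟨⟨(t : H), Subgroup.mem_subgroupOf.1 ht⟩, hP.symm ▸ Subgroup.mem_subgroupOf.2 t.2⟩, rfl⟩
    obtain ⟨⟨a, b, hab⟩, -⟩ := quat_facts le_rfl eP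
    have hTnc : ∃ a ∈ T, ∃ b ∈ T, a * b ≠ b * a :=
      ⟨ι a, hιT a, ι b, hιT b, fun h => hab (hιi (by rw [map_mul, map_mul, h]))⟩
    have hTu : ∀ a ∈ T, ∀ b ∈ T, orderOf a = 2 → orderOf b = 2 → a = b := fun a ha b hb ha2 hb2 => by
      have h := huniq ⟨(a : H), Subgroup.mem_subgroupOf.1 ha⟩ ⟨(b : H), Subgroup.mem_subgroupOf.1 hb⟩
        (by rw [Subgroup.orderOf_mk, Subgroup.orderOf_coe, ha2])
        (by rw [Subgroup.orderOf_mk, Subgroup.orderOf_coe, hb2])
      exact Subtype.ext (Subtype.mk.inj h)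
    refine sup_center_ne_top hS T hTnc hTu (eq_top_iff.2 fun s _ => ?_)
    -- first, it fixes the three involutions
    have hθc : θ (c : H) = χ (π c) := by
      refine congrArg res (MulEquiv.ext fun q => QuotientGroup.induction_on q fun k => ?_)
      rw [autQuot_mk]
      refine congrArg π (Subtype.ext ?_) |>.trans (by rw [map_mul, map_mul, map_inv]; rfl : π (c * k * c⁻¹) = _)
      simp
    have hθcomm : θ (s : H) * θ (c : H) = θ (c : H) * θ (s : H) := by
      rw [← commutatorElement_eq_one_iff_mul_comm, ← map_commutatorElement]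
      have hd : ⁅(s : H), (c : H)⁆ ∈ commutator H :=
        Subgroup.commutator_mem_commutator (Subgroup.mem_top _) (Subgroup.mem_top _)
      obtain ⟨d, hd', hdP⟩ : ∃ d : K, (d : H) = ⁅(s : H), (c : H)⁆ ∧ d ∈ (P : Subgroup K) :=
        ⟨⟨_, hderK hd⟩, rfl, hDP ▸ (Subgroup.mem_subgroupOf.2 hd : _ ∈ D)⟩
      rw [← hd']
      have hdV : π d ∈ V := (hPeq ▸ hdP : d ∈ V.comap π)
      refine Equiv.ext fun x => Subtype.ext ?_
      obtain ⟨k, hk⟩ := QuotientGroup.mk'_surjective Z (x : K ⧸ Z)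
      show autQuot K Z hZmap (d : H) (x : K ⧸ Z) = x
      rw [← hk]
      show autQuot K Z hZmap (d : H) (k : K ⧸ Z) = π k
      rw [autQuot_mk, show MulAut.conjNormal (d : H) k = d * k * d⁻¹ from Subtype.ext (by simp)]
      show π (d * k * d⁻¹) = π k
      rw [map_mul, map_mul, map_inv, hVcomm _ hdV (π k) (hk.symm ▸ x.2.1), mul_inv_cancel_right]
    have hθs : θ (s : H) = 1 := by
      have hp : IsPGroup 2 ((S : Subgroup H).map θ) := S.isPGroup'.map θ
      obtain ⟨k, hk⟩ := hp ⟨θ (s : H), Subgroup.mem_map_of_mem θ s.2⟩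
      have hk' : θ (s : H) ^ (2 ^ k) = 1 := congrArg Subtype.val hk
      set p := eX.permCongrHom (θ (s : H)) with hp_def
      have hpp : p * p = 1 := by
        rcases three_cycle_facts.2.2 p with h | h
        · have h1 : orderOf p ∣ 3 := orderOf_dvd_of_pow_eq_one (by rw [pow_succ, pow_two, h])
          have h2 : orderOf p ∣ 2 ^ k := orderOf_dvd_of_pow_eq_one (by rw [hp_def, ← map_pow, hk', map_one])
          have h3 : p = 1 := orderOf_eq_one_iff.1 (Nat.eq_one_of_dvd_coprimes
            ((by norm_num : Nat.Coprime 3 2).pow_right k) h1 h2)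
          rw [h3, one_mul]
        · exact h
      have h1 := three_cycle_facts.2.1 p _ hq3 hq1 (by rw [hp_def, ← hθc, ← map_mul, hθcomm, map_mul]) hpp
      exact (map_eq_one_iff _ eX.permCongrHom.injective).1 h1
    -- so it acts modulo the centre trivially
    let α := MulAut.conjNormal (s : H) (H := K)
    have hαP : ∀ p : (P : Subgroup K), ∃ q : (P : Subgroup K), ((q : K) = α (p : K)) ∧
        (p⁻¹ * q : (P : Subgroup K)).1 ∈ Z := fun p => by
      have hpV : π (p : K) ∈ V := (hPeq ▸ p.2 : (p : K) ∈ V.comap π)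
      have h1 : autQuot K Z hZmap (s : H) (π (p : K)) = π (p : K) := hres _ hθs _ hpV
      have h1' : π (α (p : K)) = π (p : K) := h1
      refine ⟨⟨α (p : K), ?_⟩, rfl, ?_⟩
      · have hmemV : α (p : K) ∈ V.comap π := by rw [Subgroup.mem_comap, h1']; exact hpV
        exact (SetLike.ext_iff.1 hPeq _).2 hmemV
      · exact QuotientGroup.eq.1 h1'.symm
    have hZ2 : ∀ w : (P : Subgroup K), (w : K) ∈ Z → w = 1 ∨ eP w = QuaternionGroup.a 2 := fun w hw => by
      rcases BS.quaternion_sq_one (x := eP w) (by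
        rw [← map_pow, show w ^ 2 = 1 from Subtype.ext (by
          have := congrArg Subtype.val (pow_card_eq_one' (x := (⟨(w : K), hw⟩ : Z)))
          rwa [hZcard, SubgroupClass.coe_pow, OneMemClass.coe_one] at this), map_one]) with h | h
      · exact Or.inl ((map_eq_one_iff eP eP.injective).1 h)
      · exact Or.inr h
    obtain ⟨q₁, hq₁, hz₁⟩ := hαP (eP.symm (QuaternionGroup.a 1))
    obtain ⟨q₂, hq₂, hz₂⟩ := hαP (eP.symm (QuaternionGroup.xa 0))
    have key : ∀ (g : QuaternionGroup (2 ^ 1)) (q : (P : Subgroup K)),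
        ((eP.symm g)⁻¹ * q : (P : Subgroup K)).1 ∈ Z → eP q = g ∨ eP q = g * QuaternionGroup.a 2 := by
      intro g q hq
      rcases hZ2 _ hq with h | h
      · refine Or.inl ?_
        rw [← inv_mul_eq_one.1 h, eP.apply_symm_apply]
      · refine Or.inr ?_
        rw [← h, map_mul, map_inv, eP.apply_symm_apply, mul_inv_cancel_left]
    obtain ⟨w, hw1, hw2⟩ := q8_inner (eP q₁) (eP q₂) (key _ _ hz₁) (key _ _ hz₂)
    let w' := eP.symm w
    have hsplit : s = ι w' * ((ι w')⁻¹ * s) := (mul_inv_cancel_left _ _).symm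
    rw [hsplit]
    refine Subgroup.mul_mem_sup (hιT w') (centralizer_le_center_of_normal hS T hTnc ?_)
    -- the remainder centralises the Sylow subgroup
    let R : Subgroup (QuaternionGroup (2 ^ 1)) :=
      { carrier := {g | (ι w')⁻¹ * s * ι (eP.symm g) = ι (eP.symm g) * ((ι w')⁻¹ * s)}
        one_mem' := by simp
        mul_mem' := fun {g h} hg hh => by
          simp only [Set.mem_setOf_eq, map_mul] at hg hh ⊢
          rw [← mul_assoc, hg, mul_assoc, hh, ← mul_assoc]
        inv_mem' := fun {g} hg => by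
          simp only [Set.mem_setOf_eq, map_inv] at hg ⊢
          exact (Commute.inv_right hg).eq }
    have hmemR : ∀ (g : QuaternionGroup (2 ^ 1)) (q : (P : Subgroup K)),
        ((q : K) = α ((eP.symm g : (P : Subgroup K)) : K)) → w * g = eP q * w → g ∈ R := by
      intro g q hq hw
      show (ι w')⁻¹ * s * ι (eP.symm g) = ι (eP.symm g) * ((ι w')⁻¹ * s)
      have h1 : ι q = s * ι (eP.symm g) * s⁻¹ := Subtype.ext (by
        show ((q : K) : H) = _
        rw [hq]
        rfl)
      have h2 : ι w' * ι (eP.symm g) = ι q * ι w' := by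
        have h0 : w' * eP.symm g = q * w' := eP.injective (by simp [w', hw])
        rw [← map_mul ι, ← map_mul ι, h0]
      rw [h1] at h2
      calc (ι w')⁻¹ * s * ι (eP.symm g) = (ι w')⁻¹ * (s * ι (eP.symm g) * s⁻¹ * ι w') * ((ι w')⁻¹ * s) := by group
        _ = _ := by rw [← h2]; group
    have hR : R = ⊤ := q8_gen R (hmemR _ _ hq₁ hw1) (hmemR _ _ hq₂ hw2)
    refine Subgroup.mem_centralizer_iff.2 fun t ht => ?_
    obtain ⟨p, rfl⟩ := hTι t ht
    have := (hR ▸ Subgroup.mem_top (eP p) : eP p ∈ R)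
    show ι p * ((ι w')⁻¹ * s) = (ι w')⁻¹ * s * ι p
    rw [← eP.symm_apply_apply p]
    exact (this : _ = _).symm
  -- recognition
  refine ⟨hKcard, hder, ?_⟩
  rcases S0106.result P 1 le_rfl ⟨eP⟩ with ⟨R, N, hNn, hcompl⟩ | ⟨A, B, hB, ⟨e⟩⟩
  · exfalso
    have h1 := hcompl.card_mul
    rw [Nat.card_congr (Sylow.equiv R P).toEquiv, hPcard, hKcard] at h1
    have hN3 : Nat.card N = 3 := by omega
    have hN1 : N = ⊥ := eq_bot_iff.2 ((Grp.le_pPrimeCore hNn (by rw [hN3]; norm_num)).trans hOK.le)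
    rw [hN1, Subgroup.card_bot] at hN3
    omega
  · have hSL : Nat.card (Matrix.SpecialLinearGroup (Fin 2) (ZMod 3)) = 24 := by
      rw [Fus.PSLTwo.natCard_SL_two, ZMod.card]
    have h1 := (B.subgroupOf A).card_eq_card_quotient_mul_card_subgroup
    rw [Nat.card_congr e.toEquiv, hSL] at h1
    have h2 := Subgroup.card_le_card_group A
    rw [hKcard] at h2
    have h3 : 0 < Nat.card (B.subgroupOf A) := Nat.card_pos
    have hB1 : Nat.card (B.subgroupOf A) = 1 := by nlinarith
    rw [hB1, mul_one] at h1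
    have hA : A = ⊤ := Subgroup.eq_top_of_card_eq _ (by rw [h1, hKcard])
    have hbot : B.subgroupOf A = ⊥ := Subgroup.card_eq_one.1 hB1
    exact ⟨(Subgroup.topEquiv.symm.trans ((MulEquiv.subgroupCongr hA.symm).trans
      (QuotientGroup.quotientBot.symm.trans (QuotientGroup.quotientMulEquivOfEq hbot.symm)))).trans e⟩

end Cfsg.Agent.Invol.GW
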