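import Cfsg.Agent.Lib.Invol.GW.Consumers.DGroupDihedral
import Cfsg.Agent.Lib.Invol.GW.Consumers.RankOne
import Cfsg.Agent.Lib.Invol.ThompsonTransferDihedral
import Cfsg.Agent.Lib.Invol.QuasiDihedral

/-!
# A centralizer of an involution that is a D-group: semidihedral Sylow 2-subgroups are impossible (for S3322),
given S0483
-/

set_option autoImplicit false
set_option linter.style.haveILetI false

namespace Cfsg.Agent.Invol.GW

open Subgroup

universe u

theorem three_le_card_subtype {X : Type*} [Finite X] {p : X → Prop} {a b c : X} (ha : p a) (hb : p b) (hc : p c)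
    (hab : a ≠ b) (hac : a ≠ c) (hbc : b ≠ c) : 3 ≤ Nat.card {x // p x} := by
  classical
  haveI : Fintype X := Fintype.ofFinite X
  rw [Nat.card_eq_fintype_card, Fintype.card_subtype]
  refine le_trans (le_of_eq ?_) (Finset.card_le_card (s := ({a, b, c} : Finset X)) fun x hx => ?_)
  · rw [Finset.card_insert_of_notMem (by simp [hab, hac]), Finset.card_pair hbc]
  · simp only [Finset.mem_insert, Finset.mem_singleton] at hx
    rcases hx with rfl | rfl | rfl <;> simp [ha, hb, hc]

/-- An involutory automorphism of `PSL₂(q)`, `q` odd, fixes at least three elements. -/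
theorem invol_aut_three_PSL {F : Type} [Field F] [Fintype F] (hodd : Odd (Fintype.card F)) (h3 : 3 < Fintype.card F)
    (α : MulAut (Matrix.ProjectiveSpecialLinearGroup (Fin 2) F)) (hα : α * α = 1) :
    3 ≤ Nat.card {y // α y = y} := by
  haveI : Finite (Matrix.ProjGenLinGroup (Fin 2) F) := Dickson.finite_pgl
  have hfour : FixesFour α → 3 ≤ Nat.card {y // α y = y} := by
    rintro ⟨u, v, hu, hv, hne, -, hau, hav⟩
    refine three_le_card_subtype (map_one α) hau hav (fun h => ?_) (fun h => ?_) hne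
    · rw [← h, orderOf_one] at hu; omega
    · rw [← h, orderOf_one] at hv; omega
  by_cases h1 : α = 1
  · obtain ⟨u, v, hu, hv, hne, hc⟩ := exists_two_involutions_PSL (F := F) hodd
    exact hfour ⟨u, v, hu, hv, hne, hc, by rw [h1]; rfl, by rw [h1]; rfl⟩
  have hord : orderOf α = 2 := orderOf_eq_prime (by rw [pow_two, hα]) h1
  rcases involution_inndiag_or_fixesFour hodd hord with ⟨g, hg⟩ | h
  swap
  · exact hfour h
  let ι := Matrix.ProjectiveSpecialLinearGroup.toPGL (n := Fin 2) (R := F)
  set γ := Matrix.ProjGenLinGroup.mk g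
  have hΨ : pglAut F γ = α := (Matrix.ProjGenLinGroup.lift_mk _ g).trans hg.symm
  have hγ : orderOf γ = 2 := by rw [← orderOf_injective (pglAut F) pglAut_injective, hΨ, hord]
  let C := centralizer ({γ} : Set (Matrix.ProjGenLinGroup (Fin 2) F))
  haveI : ι.range.Normal := normal_of_index_eq_two (Dickson.PGLMax.index_range hodd)
  have hrel : ι.range.relIndex C ∣ 2 := (relIndex_dvd_index_of_normal ι.range C).trans (Dickson.PGLMax.index_range hodd).dvd
  have hmul := Grp.relIndex_mul_card_inf C ι.range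
  rw [inf_comm] at hmul
  have hcard : Nat.card (C.comap ι) = Nat.card (ι.range ⊓ C : Subgroup _) := by
    rw [← Subgroup.card_map_of_injective Matrix.ProjectiveSpecialLinearGroup.toPGL_injective, map_comap_eq]
  have h8 : 8 ≤ Nat.card C := by
    obtain ⟨k, hk⟩ := hodd
    rcases card_centralizer_involution ⟨k, hk⟩ hγ with h | h <;> · rw [h]; omega
  have h4 : 4 ≤ Nat.card (C.comap ι) := by
    rw [hcard]
    have := Nat.le_of_dvd two_pos hrel
    nlinarith
  refine le_trans (le_trans (by norm_num : 3 ≤ 4) h4) (Nat.card_le_card_of_injective (fun y => ⟨(y :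
    Matrix.ProjectiveSpecialLinearGroup (Fin 2) F), ?_⟩) fun y z h => Subtype.ext (congrArg Subtype.val h :))
  have hy : ι y * γ = γ * ι y := mem_centralizer_singleton_iff.1 y.2
  have h2 : α * MulAut.conj (y : Matrix.ProjectiveSpecialLinearGroup (Fin 2) F) * α⁻¹ =
      MulAut.conj (α y) := by
    ext w
    simp [MulAut.mul_apply, MulAut.conj_apply]
  rw [← hΨ, ← pglAut_toPGL, ← pglAut_toPGL, ← map_mul, ← map_inv, ← map_mul, hΨ, ← hy, mul_inv_cancel_right] at h2
  exact (Matrix.ProjectiveSpecialLinearGroup.toPGL_injective (pglAut_injective h2)).symm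

/-- An involutory automorphism of one of the models fixes at least three elements. -/
theorem invol_aut_three {L : Type u} [Group L] [Finite L] (h : IsPSLTwoOrSeven L) (α : MulAut L)
    (hα : α * α = 1) : 3 ≤ Nat.card {l // α l = l} := by
  rcases h with ⟨F, hF, hFf, hodd, h3, ⟨f⟩⟩ | ⟨⟨f⟩⟩
  · have h' := invol_aut_three_PSL hodd h3 (MulAut.congr f α) (by rw [← map_mul, hα, map_one])
    refine le_trans h' (Nat.card_le_card_of_injective (fun y => ⟨f.symm y, ?_⟩) fun y z hyz =>
      Subtype.ext (f.symm.injective (congrArg Subtype.val hyz :)))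
    have hy : f (α (f.symm y)) = y := y.2
    exact f.injective (hy.trans (f.apply_symm_apply _).symm)
  · let c : Equiv.Perm (Fin 7) ≃* MulAut (alternatingGroup (Fin 7)) :=
      MulEquiv.ofBijective MulAut.conjNormal (S2119.result 7 (by norm_num) (by norm_num))
    let x := c.symm (MulAut.congr f α)
    have hx : x * x = 1 := by rw [← map_mul, ← map_mul, hα, map_one, map_one]
    obtain ⟨u, v, huA, hvA, hu, hv, hu1, hv1, hne, huv, hux, hvx⟩ := seven_four x hx
    have hfix : ∀ (w : Equiv.Perm (Fin 7)) (hw : w ∈ alternatingGroup (Fin 7)), w * x = x * w →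
        α (f.symm ⟨w, hw⟩) = f.symm ⟨w, hw⟩ := by
      intro w hw hwx
      have h1 : MulAut.congr f α = MulAut.conjNormal x := (c.apply_symm_apply _).symm
      have h2 : f (α (f.symm ⟨w, hw⟩)) = ⟨w, hw⟩ := by
        refine (DFunLike.congr_fun h1 ⟨w, hw⟩).trans (Subtype.ext ?_)
        rw [MulAut.conjNormal_apply]
        exact mul_inv_eq_iff_eq_mul.2 hwx.symm
      exact f.injective (h2.trans (f.apply_symm_apply _).symm)
    refine three_le_card_subtype (map_one α) (hfix u huA hux) (hfix v hvA hvx) (fun h => hu1 ?_) (fun h => hv1 ?_)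
      fun h => hne (congrArg Subtype.val (f.symm.injective h) :)
    · have := congrArg f h
      rw [map_one, f.apply_symm_apply] at this
      exact (congrArg Subtype.val this).symm
    · have := congrArg f h
      rw [map_one, f.apply_symm_apply] at this
      exact (congrArg Subtype.val this).symm

variable {K : Type u} [Group K] [Finite K]

/-- A quotient of a quasi-dihedral group by its centre is dihedral. -/
theorem qd_image_dihedral {S : Type u} [Group S] [Finite S] {n : ℕ} {x y : S} (h : QD S n x y) {D : Type u} [Group D]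
    (f : S →* D) (hf : Function.Surjective f) (hz : f (x ^ (2 * qq n)) = 1) (hker : f.ker ≤ zpowers x) :
    ∃ k, Nonempty (D ≃* DihedralGroup k) := by
  haveI : Finite D := Finite.of_surjective f hf
  have hA : (zpowers x).map f = zpowers (f x) := MonoidHom.map_zpowers f x
  haveI : IsCyclic ((zpowers x).map f) := by rw [hA]; infer_instance
  refine ⟨_, Dickson.nonempty_dihedral ((zpowers x).map f) ?_ (w := f y) ?_ ?_ ?_⟩
  · rw [index_map_eq _ hf hker, h.index_zpowers]
  · rintro ⟨w, hw, hwy⟩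
    refine h.y_notMem ?_
    have : w⁻¹ * y ∈ f.ker := by rw [MonoidHom.mem_ker, map_mul, map_inv, hwy, inv_mul_cancel]
    simpa using mul_mem hw (hker this)
  · rw [← map_mul, h.y_mul_self, map_one]
  · rintro _ ⟨w, hw, rfl⟩
    obtain ⟨i, rfl⟩ := mem_zpowers_iff.1 hw
    rw [← map_inv f y, ← map_mul, ← map_mul, h.conj_zpow, ← map_inv,
      show i * (2 * qq n - 1) = 2 * qq n * i + -i by ring, zpow_add, zpow_mul, map_mul, map_zpow, hz, one_zpow,
      one_mul, zpow_neg]

/-- With trivial core, a semidihedral Sylow 2-subgroup is impossible. -/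
theorem semi_socle_case (hGW : GWStatement.{u}) (hO : Cfsg.oddCore K = ⊥) (hns : ¬ Group.IsSolvable K)
    (T : Sylow 2 K) (hT : Cfsg.IsQuasiDihedral (T : Subgroup K)) {j : K} (hj : orderOf j = 2)
    (hjT : j ∈ (T : Subgroup K)) (h8 : ¬ 8 ∣ Nat.card (centralizer ({j} : Set K)))
    (hinv : ∀ x ∈ (T : Subgroup K), x * j = j * x → x ≠ 1 → x ≠ j →
      ∀ a ∈ centralizer ({j} : Set K), a * a = 1 ∨ x * a * x⁻¹ = a⁻¹) : False := by
  classical
  haveI : Fact (Nat.Prime 2) := ⟨Nat.prime_two⟩
  obtain ⟨n, x, y, h⟩ := exists_qd hT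
  set z : (T : Subgroup K) := x ^ (2 * qq n)
  have hz2 : orderOf (z : K) = 2 := by rw [Subgroup.orderOf_coe]; exact h.orderOf_z
  have hzT : ∀ t : (T : Subgroup K), (t : K) * z = z * t := fun t => congrArg Subtype.val (h.z_central t)
  have h16 : 8 ∣ Nat.card (T : Subgroup K) := by
    rw [h.card]
    exact (pow_dvd_pow 2 (by have := h.hn; omega : 3 ≤ n + 1))
  have hnotz : ∀ g : K, g * j * g⁻¹ ≠ z := by
    intro g hg
    refine h8 (h16.trans ?_)
    have hle : (T : Subgroup K).map (MulAut.conj g⁻¹).toMonoidHom ≤ centralizer ({j} : Set K) := by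
      rintro _ ⟨t, ht, rfl⟩
      rw [mem_centralizer_singleton_iff]
      show g⁻¹ * t * g⁻¹⁻¹ * j = j * (g⁻¹ * t * g⁻¹⁻¹)
      have := hzT ⟨t, ht⟩
      rw [← hg] at this
      calc g⁻¹ * t * g⁻¹⁻¹ * j = g⁻¹ * (t * (g * j * g⁻¹)) * g := by group
        _ = g⁻¹ * ((g * j * g⁻¹) * t) * g := by rw [this]
        _ = j * (g⁻¹ * t * g⁻¹⁻¹) := by group
    rw [← Subgroup.card_map_of_injective (f := (MulAut.conj g⁻¹).toMonoidHom) (MulAut.conj g⁻¹).injective]
    exact Subgroup.card_dvd_of_le hle
  have hjz : j ≠ (z : K) := fun e => hnotz 1 (by rw [one_mul, inv_one, mul_one, e])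
  -- the transfer
  let M : Subgroup K := (zpowers x).map (T : Subgroup K).subtype
  have hMidx : M.index = 2 ^ (0 + 1) * (T : Subgroup K).index := by
    rw [index_map_subtype, h.index_zpowers, zero_add, pow_one]
  have hMu : ∀ w ∈ M, orderOf w = 2 → w = (z : K) := by
    rintro _ ⟨w, hw, rfl⟩ hw2
    change orderOf (w : K) = 2 at hw2
    rw [Subgroup.orderOf_coe] at hw2
    rcases h.involution_cases hw2 with hw' | ⟨i, -, hw'⟩
    · exact congrArg Subtype.val hw'
    · obtain ⟨k, hk⟩ := mem_zpowers_iff.1 hw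
      exact absurd (hw'.symm.trans hk.symm) (h.zpow_mul_y_ne _ _)
  let φ := TransferDihedral.cosetSign M
  have hφj : φ j = -1 := TransferDihedral.cosetSign_eq_neg_one M (j := 0) (by rw [hj]; rfl) hMidx
    (by rw [← Nat.not_even_iff_odd, even_iff_two_dvd]; exact T.not_dvd_index) fun g hg => by
      rw [pow_zero, pow_one] at hg
      exact hnotz g (hMu _ hg (by rw [Invol.orderOf_conj_eq, hj]))
  have hφz : φ (z : K) = 1 := by
    rw [show z = x ^ qq n * x ^ qq n by rw [← zpow_add]; show x ^ (2 * qq n) = _; rw [two_mul], Subgroup.coe_mul,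
      map_mul, Int.units_mul_self]
  have hinvols : ∀ w : (T : Subgroup K), orderOf w = 2 → φ (w : K) = 1 → w = z := by
    intro w hw hφw
    rcases h.involution_cases hw with hw' | ⟨i, hi, hw'⟩
    · exact hw'
    exfalso
    rcases h.involution_cases (show orderOf (⟨j, hjT⟩ : (T : Subgroup K)) = 2 by rw [Subgroup.orderOf_mk, hj]) with
      hj' | ⟨l, hl, hj'⟩
    · exact hjz (congrArg Subtype.val hj')
    obtain ⟨k, hk⟩ := h.conj_mul_y (i := l) (j := i) (dvd_sub hi hl)
    rw [← hj', ← hw'] at hk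
    have := congrArg (fun t : (T : Subgroup K) => φ (t : K)) hk
    simp only [Subgroup.coe_mul, InvMemClass.coe_inv, map_mul, map_inv, hφw, hφj, mul_comm (φ ((x ^ k :
      (T : Subgroup K)) : K)), mul_inv_cancel_right] at this
    exact absurd this (by decide)
  let K0 := φ.ker
  have hr : BS.TwoRankOne K0 := by
    intro u v hu hv huv
    by_contra hne
    rw [← Subgroup.orderOf_coe] at hu hv
    have huv' : (u : K) * v = v * u := congrArg Subtype.val huv.eq
    obtain ⟨W, hW4, -, hWmem⟩ := Transfer.TwoByCyclic.exists_klein (Invol.mul_self_of_orderOf_two hu)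
      (Invol.mul_self_of_orderOf_two hv) huv' (fun e => by rw [e, orderOf_one] at hu; omega)
      (fun e => by rw [e, orderOf_one] at hv; omega) (fun e => hne (Subtype.ext e))
    obtain ⟨s, hs⟩ := Invol.exists_conj_subset_sylow (H := W) (IsPGroup.of_card (n := 2) hW4) T
    have key : ∀ w : K, w ∈ W → φ w = 1 → orderOf w = 2 → s * w * s⁻¹ = (z : K) := fun w hw hφw hw2 =>
      congrArg Subtype.val (hinvols ⟨_, hs w hw⟩ (by rw [Subgroup.orderOf_mk, Invol.orderOf_conj_eq, hw2])
        (by show φ (s * w * s⁻¹) = 1; rw [map_mul, map_mul, hφw, mul_one, map_inv, mul_inv_cancel]))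
    have := (key _ ((hWmem _).2 (Or.inr (Or.inl rfl))) u.2 hu).trans
      (key _ ((hWmem _).2 (Or.inr (Or.inr (Or.inl rfl)))) v.2 hv).symm
    exact hne (Subtype.ext (mul_left_cancel (mul_right_cancel this)))
  have hO0 : Cfsg.oddCore K0 = ⊥ := by
    refine (Subgroup.map_eq_bot_iff_of_injective _ K0.subtype_injective).1 (eq_bot_iff.2 ?_)
    show (Cfsg.pPrimeCore 2 K0).map K0.subtype ≤ ⊥
    rw [Grp.pPrimeCore_map_eq]
    exact inf_le_left.trans hO.le
  obtain ⟨hzc0, -⟩ := central_involution hr hO0 (z := (⟨(z : K), hφz⟩ : K0)) ((Subgroup.orderOf_coe _).symm.trans hz2)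
  have hzc : (z : K) ∈ center K := by
    refine mem_center_iff.2 fun g => ?_
    rcases Int.units_eq_one_or (φ g) with hg | hg
    · exact congrArg Subtype.val (mem_center_iff.1 hzc0 ⟨g, hg⟩)
    · have h1 := congrArg Subtype.val (mem_center_iff.1 hzc0 ⟨g * j, show φ (g * j) = 1 by
        rw [map_mul, hg, hφj]; rfl⟩)
      simp only [Subgroup.coe_mul] at h1
      rw [mul_assoc, hzT ⟨j, hjT⟩, ← mul_assoc, ← mul_assoc] at h1
      exact mul_right_cancel h1
  -- the centralizer of `j` is small
  set C := centralizer ({j} : Set K) with hCdef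
  have hCsq : ∀ a ∈ C, a * a = 1 := by
    intro a ha
    rcases hinv z z.2 ((hzT ⟨j, hjT⟩).symm) (fun e => by rw [e, orderOf_one] at hz2; omega) (fun e => hjz e.symm)
      a ha with h1 | h1
    · exact h1
    · rw [← mem_center_iff.1 hzc a, mul_inv_cancel_right] at h1
      calc a * a = a * a⁻¹ := by rw [← h1]
        _ = 1 := mul_inv_cancel a
  have hC4 : Nat.card C ≤ 4 := by
    obtain ⟨k, hk⟩ := IsPGroup.iff_card.1 (show IsPGroup 2 C from fun a =>
      ⟨1, by rw [pow_one, pow_two]; exact Subtype.ext (hCsq a a.2)⟩)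
    rw [hk]
    by_contra hlt
    refine h8 (hk ▸ (show 8 ∣ 2 ^ k from pow_dvd_pow 2 (?_ : 3 ≤ k)))
    by_contra hk3
    exact hlt (le_trans (Nat.pow_le_pow_right two_pos (by omega : k ≤ 2)) (by norm_num))
  -- the quotient by the centre
  let Z := zpowers (z : K)
  have hZc : Z ≤ center K := zpowers_le.2 hzc
  haveI : Z.Normal := ⟨fun a ha g => by rwa [mem_center_iff.1 (hZc ha) g, mul_inv_cancel_right]⟩
  have hZcard : Nat.card Z = 2 := by rw [Nat.card_zpowers, hz2]
  let π := QuotientGroup.mk' Z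
  have hπ := QuotientGroup.mk'_surjective Z
  have hOQ : Cfsg.oddCore (K ⧸ Z) = ⊥ := oddCore_quotient_central hO Z hZc hZcard
  have hnsQ : ¬ Group.IsSolvable (K ⧸ Z) := fun hs => hns
    ((Group.isSolvable_iff_subgroup_quotient Z).2 ⟨Group.isSolvable_of_comm fun a b =>
      Subtype.ext (mem_center_iff.1 (hZc b.2) a), hs⟩)
  let T' : Sylow 2 (K ⧸ Z) := T.mapSurjective hπ
  let f : (T : Subgroup K) →* ((T : Subgroup K).map π) := π.subgroupMap (T : Subgroup K)
  obtain ⟨k, ⟨eT⟩⟩ := qd_image_dihedral h f (π.subgroupMap_surjective _)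
    (Subtype.ext ((QuotientGroup.eq_one_iff _).2 (mem_zpowers (z : K))))
    (fun t ht => by
      have h1 : π (t : K) = 1 := congrArg Subtype.val (MonoidHom.mem_ker.1 ht)
      obtain ⟨i, hi⟩ := mem_zpowers_iff.1 ((QuotientGroup.eq_one_iff _).1 h1)
      have : t = z ^ i := Subtype.ext (by rw [SubgroupClass.coe_zpow, hi])
      rw [this]
      exact zpow_mem (zpow_mem (mem_zpowers x) _) i)
  obtain ⟨L, hLn, hmodel, -⟩ := exists_socle hGW hOQ hnsQ T' ((MulEquiv.subgroupCongr
    (Sylow.coe_mapSurjective hπ T)).trans eT)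
  haveI := hLn
  -- the image of the kernel
  have hZK0 : Z ≤ K0 := zpowers_le.2 hφz
  let K1 : Subgroup (K ⧸ Z) := K0.map π
  have hmemK1 : ∀ g : K, π g ∈ K1 ↔ g ∈ K0 := fun g => by
    refine ⟨?_, fun hg => mem_map_of_mem π hg⟩
    rintro ⟨w, hw, hwg⟩
    have := hZK0 (QuotientGroup.eq.1 hwg)
    rwa [mul_mem_cancel_left (inv_mem hw)] at this
  let τ := π j
  have hτ2 : τ * τ = 1 := by
    show π j * π j = 1
    rw [← map_mul, Invol.mul_self_of_orderOf_two hj, map_one]
  have hτK1 : τ ∉ K1 := fun h' => by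
    have := MonoidHom.mem_ker.1 ((hmemK1 j).1 h')
    rw [hφj] at this
    exact absurd this (by decide)
  haveI : K1.Normal := (inferInstance : K0.Normal).map π hπ
  have hK1mul : ∀ a b : K ⧸ Z, a ∉ K1 → b ∉ K1 → a * b ∈ K1 := by
    intro a b ha hb
    obtain ⟨a, rfl⟩ := hπ a
    obtain ⟨b, rfl⟩ := hπ b
    rw [hmemK1, MonoidHom.mem_ker] at ha hb
    rw [← map_mul, hmemK1, MonoidHom.mem_ker, map_mul, (Int.units_eq_one_or _).resolve_left ha,
      (Int.units_eq_one_or _).resolve_left hb]
    rfl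
  haveI := isSimple_of_model hmodel
  have hLK1 : L ≤ K1 := by
    rcases (inferInstance : (K1.subgroupOf L).Normal).eq_bot_or_eq_top with e | e
    · exfalso
      have h3 := invol_aut_three hmodel 1 (one_mul 1)
      have hinj : Function.Injective fun l : {l : L // (1 : MulAut L) l = l} => decide ((l.1 : K ⧸ Z) ∈ K1) := by
        intro l l' hll
        simp only [decide_eq_decide] at hll
        have key : l.1⁻¹ * l'.1 ∈ K1.subgroupOf L := by
          rw [mem_subgroupOf]
          show (l.1 : K ⧸ Z)⁻¹ * (l'.1 : K ⧸ Z) ∈ K1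
          by_cases hm : (l.1 : K ⧸ Z) ∈ K1
          · exact mul_mem (inv_mem hm) (hll.1 hm)
          · exact hK1mul _ _ (fun h' => hm (inv_mem_iff.1 h')) (fun h' => hm (hll.2 h'))
        rw [e, mem_bot, inv_mul_eq_one] at key
        exact Subtype.ext key
      have := Nat.card_le_card_of_injective _ hinj
      rw [Nat.card_eq_fintype_card (α := Bool), Fintype.card_bool] at this
      omega
    · exact fun l hl => mem_subgroupOf.1 (e ▸ mem_top (⟨l, hl⟩ : L) : (⟨l, hl⟩ : L) ∈ K1.subgroupOf L)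
  -- the centralizer of the image of `j`
  let CQ := centralizer ({τ} : Set (K ⧸ Z))
  have hCQ : Nat.card CQ ≤ 4 := by
    let U := CQ.comap π
    have hU : Nat.card U = 2 * Nat.card CQ := by
      have e1 := CQ.card_mul_index
      have e2 := U.card_mul_index
      rw [index_comap_of_surjective _ hπ] at e2
      have e3 := Z.card_eq_card_quotient_mul_card_subgroup
      rw [hZcard, ← e1, ← e2] at e3
      refine Nat.eq_of_mul_eq_mul_right (Nat.pos_of_ne_zero (index_ne_zero_of_finite : CQ.index ≠ 0)) ?_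
      rw [e3]; ring
    have hUmem : ∀ u ∈ U, u * j * u⁻¹ = j ∨ u * j * u⁻¹ = j * (z : K) := by
      intro u hu
      have h1 : π (u * j * u⁻¹) = π j := by
        rw [map_mul, map_mul, map_inv]
        exact mul_inv_eq_iff_eq_mul.2 (mem_centralizer_singleton_iff.1 hu)
      obtain ⟨i, hi⟩ := mem_zpowers_iff.1 (QuotientGroup.eq.1 h1.symm)
      have hzz : (z : K) * z = 1 := Invol.mul_self_of_orderOf_two hz2
      rcases Int.even_or_odd i with ⟨p, rfl⟩ | ⟨p, rfl⟩
      · left
        rw [zpow_add, ← (Commute.refl (z : K)).mul_zpow, hzz, one_zpow] at hi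
        exact (inv_mul_eq_one.1 hi.symm).symm
      · right
        rw [zpow_add, zpow_one, two_mul, zpow_add, ← (Commute.refl (z : K)).mul_zpow, hzz, one_zpow, one_mul] at hi
        rw [hi, mul_inv_cancel_left]
    have hle : Nat.card U ≤ 8 := by
      by_cases hex : ∃ u ∈ U, u * j * u⁻¹ ≠ j
      · obtain ⟨u0, hu0, hu0j⟩ := hex
        have hu0z := (hUmem u0 hu0).resolve_left hu0j
        have hother : ∀ u ∈ U, u * j * u⁻¹ ≠ j → u0⁻¹ * u ∈ C := fun u hu huj => by
          have h2 := (hUmem u hu).resolve_left huj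
          rw [hCdef, mem_centralizer_singleton_iff]
          calc u0⁻¹ * u * j = u0⁻¹ * (u * j * u⁻¹) * u := by group
            _ = u0⁻¹ * (u0 * j * u0⁻¹) * u := by rw [h2, hu0z]
            _ = j * (u0⁻¹ * u) := by group
        let key : U → C ⊕ C := fun u =>
          if hu : (u : K) * j * (u : K)⁻¹ = j then Sum.inl ⟨u, mem_centralizer_singleton_iff.2
            (mul_inv_eq_iff_eq_mul.1 hu)⟩
          else Sum.inr ⟨u0⁻¹ * u, hother u u.2 hu⟩
        have hkey : Function.Injective key := by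
          intro u v huv
          simp only [key] at huv
          split_ifs at huv
          · exact Subtype.ext (congrArg Subtype.val (Sum.inl_injective huv) :)
          · exact Subtype.ext (mul_left_cancel (congrArg Subtype.val (Sum.inr_injective huv) :))
        have := Nat.card_le_card_of_injective key hkey
        rw [Nat.card_sum] at this
        omega
      · push Not at hex
        have := Subgroup.card_le_of_le (H := U) (K := C) fun u hu =>
          mem_centralizer_singleton_iff.2 (mul_inv_eq_iff_eq_mul.1 (hex u hu))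
        omega
    omega
  -- too many fixed elements
  let α : MulAut L := MulAut.conjNormal τ
  have h3 := invol_aut_three hmodel α (by rw [← map_mul, hτ2, map_one])
  have hfix : ∀ l : {l : L // α l = l}, ((l.1 : K ⧸ Z)) ∈ CQ := fun l => by
    have := congrArg Subtype.val l.2
    rw [MulAut.conjNormal_apply] at this
    exact mem_centralizer_singleton_iff.2 (mul_inv_eq_iff_eq_mul.1 this).symm
  let key : {l : L // α l = l} × Bool → CQ := fun p =>
    ⟨(p.1.1 : K ⧸ Z) * if p.2 then τ else 1, mul_mem (hfix p.1) (by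
      split_ifs
      · exact mem_centralizer_singleton_iff.2 rfl
      · exact one_mem _)⟩
  have hkey : Function.Injective key := by
    rintro ⟨l, b⟩ ⟨l', b'⟩ he
    have he' : (l.1 : K ⧸ Z) * (if b then τ else 1) = (l'.1 : K ⧸ Z) * if b' then τ else 1 :=
      congrArg Subtype.val he
    cases b <;> cases b' <;> simp only [Bool.false_eq_true, if_false, if_true, mul_one] at he'
    · rw [Subtype.ext (Subtype.ext he')]
    · exfalso
      exact hτK1 ((mul_mem_cancel_left (hLK1 l'.1.2)).1 (he' ▸ hLK1 l.1.2))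
    · exfalso
      exact hτK1 ((mul_mem_cancel_left (hLK1 l.1.2)).1 (he'.symm ▸ hLK1 l'.1.2))
    · rw [Subtype.ext (Subtype.ext (mul_right_cancel he'))]
  have := Nat.card_le_card_of_injective key hkey
  rw [Nat.card_prod, Nat.card_eq_fintype_card (α := Bool), Fintype.card_bool] at this
  omega

/-- A semidihedral Sylow 2-subgroup is impossible. -/
theorem semi_case (hGW : GWStatement.{u}) {G : Type u} [Group G] [Finite G] (hns : ¬ Group.IsSolvable G)
    (T : Sylow 2 G) (hT : Cfsg.IsQuasiDihedral (T : Subgroup G)) {j : G} (hj : orderOf j = 2)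
    (hjT : j ∈ (T : Subgroup G)) (h8 : ¬ 8 ∣ Nat.card (centralizer ({j} : Set G)))
    (hinv : ∀ x ∈ (T : Subgroup G), x * j = j * x → x ≠ 1 → x ≠ j →
      ∀ a ∈ centralizer ({j} : Set G), a * a = 1 ∨ x * a * x⁻¹ = a⁻¹) : False := by
  haveI : Fact (Nat.Prime 2) := ⟨Nat.prime_two⟩
  haveI hn : (Cfsg.oddCore G).Normal := Grp.pPrimeCore_isNormal
  have hcop : (Nat.card (Cfsg.oddCore G)).Coprime 2 := Grp.pPrimeCore_coprime
  have hodd : Odd (Nat.card (Cfsg.oddCore G)) := Nat.coprime_two_right.1 hcop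
  have hQ : ¬ Group.IsSolvable (G ⧸ Cfsg.oddCore G) := fun h => hns
    ((Group.isSolvable_iff_subgroup_quotient (Cfsg.oddCore G)).2 ⟨Cfsg.Agent.S0205.result hodd, h⟩)
  let π := QuotientGroup.mk' (Cfsg.oddCore G)
  have hπ := QuotientGroup.mk'_surjective (Cfsg.oddCore G)
  have hinj : ∀ a b : G, a ∈ (T : Subgroup G) → b ∈ (T : Subgroup G) → π a = π b → a = b := by
    intro a b ha hb he
    have h1 : a⁻¹ * b ∈ Cfsg.oddCore G := QuotientGroup.eq.1 he
    obtain ⟨k, hk⟩ := IsPGroup.iff_orderOf.1 T.isPGroup' ⟨a⁻¹ * b, mul_mem (inv_mem ha) hb⟩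
    rw [Subgroup.orderOf_mk] at hk
    refine inv_mul_eq_one.1 (orderOf_eq_one_iff.1 (Nat.eq_one_of_dvd_coprimes (hcop.pow_right k) ?_ hk.dvd))
    exact Subgroup.orderOf_dvd_natCard _ h1
  have hC := centralizer_involution_quotient (Cfsg.oddCore G) hodd hj
  obtain ⟨eT⟩ := sylow_mapSurjective_equiv T (Cfsg.oddCore G) hcop
  refine semi_socle_case hGW Grp.pPrimeCore_quotient_eq_bot hQ (T.mapSurjective hπ) ?_ (j := π j) ?_
    ⟨j, hjT, rfl⟩ ?_ ?_
  · obtain ⟨n, hn3, hc, x, y, hx, hy, hxy⟩ := hT
    exact ⟨n, hn3, by rw [← Nat.card_congr eT.toEquiv, hc], eT x, eT y, by rw [MulEquiv.orderOf_eq, hx],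
      by rw [MulEquiv.orderOf_eq, hy], by rw [← map_inv, ← map_mul, ← map_mul, hxy, map_pow]⟩
  · refine orderOf_eq_prime (by rw [← map_pow, pow_two, Invol.mul_self_of_orderOf_two hj, map_one]) fun h => ?_
    have := hinj j 1 hjT (one_mem _) (h.trans (map_one π).symm)
    rw [this, orderOf_one] at hj
    omega
  · rw [hC]
    exact fun h => h8 (h.trans (Subgroup.card_map_dvd _ _))
  · rintro _ ⟨x, hx, rfl⟩ hxj hx1 hxj'
    rw [hC]
    rintro _ ⟨a, ha, rfl⟩
    rw [← map_mul, ← map_mul] at hxj
    rcases hinv x hx (hinj _ _ (mul_mem hx hjT) (mul_mem hjT hx) hxj) (fun e => hx1 (by rw [e, map_one]))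
      (fun e => hxj' (by rw [e])) a ha with h1 | h1
    · left; rw [← map_mul, h1, map_one]
    · right; rw [← map_inv, ← map_mul, ← map_mul, h1, map_inv]

end Cfsg.Agent.Invol.GW
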