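import Cfsg.Agent.Lib.Invol.GW.Consumers.DGroupEven
import Cfsg.Agent.Lib.Invol.GW.Consumers.DGroupSemi
import Cfsg.Agent.Lib.Block.CentreFreeTwo.Basic
import Cfsg.Agent.Lib.Invol.OneInvol

/-!
# A self-centralizing D-group (statement S3322), given S0483
-/

set_option autoImplicit false
set_option linter.style.haveILetI false

namespace Cfsg.Agent.Invol.GW

open Subgroup

universe u

variable {G : Type u} [Group G] [Finite G] {H A : Subgroup G}

/-- A cyclic 2-part in `A`. -/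
theorem dgroup_rank_one (hGW : GWStatement.{u}) (d : DData H A) (h4 : 4 ∣ Nat.card H)
    (huniq : ∀ u v : G, u ∈ A → orderOf u = 2 → v ∈ A → orderOf v = 2 → u = v) (hns : ¬ Group.IsSolvable G) :
    DGroupConcl G := by
  classical
  haveI : Fact (Nat.Prime 2) := ⟨Nat.prime_two⟩
  obtain ⟨T, ⟨x, hxT, hx, hxA⟩, hiT, hidx, hex⟩ := d.exists_sylow h4
  obtain ⟨j, hjA, hj⟩ := hex
  have hjT := hiT j hjA hj
  have hC := d.cent j hjA hj
  have dih : ∀ {n : ℕ}, ↥(T : Subgroup G) ≃* DihedralGroup n → DGroupConcl G := by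
    intro n e
    obtain ⟨N, hN, hodd, hc⟩ := dihedral_case hGW hns T e hj (hC.symm ▸ d.involProd) (hC.symm ▸ d.sqCommute)
    exact ⟨N, hN, Or.inl hodd, hc⟩
  let D : Subgroup G := (T : Subgroup G) ⊓ H
  let M : Subgroup D := A.subgroupOf D
  have hDp : IsPGroup 2 D := T.isPGroup'.to_le inf_le_left
  have hMidx : M.index = 2 := by
    rw [index_eq_two_iff]
    refine ⟨⟨x, hxT, hx⟩, fun b => ?_⟩
    rw [mem_subgroupOf, mem_subgroupOf, Subgroup.coe_mul, xor_iff_iff_not]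
    exact ⟨fun h h' => hxA ((A.mul_mem_cancel_left h').1 h), fun h => d.out_mul _ b.2.2 h x hx hxA⟩
  haveI hMc : IsCyclic M := by
    obtain ⟨a, -, ha⟩ := OneInvol.exists_zpowers_eq (R := M) (hDp.to_subgroup M) (A := ⊤)
      (fun a _ b _ => Subtype.ext (Subtype.ext (d.comm _ (mem_subgroupOf.1 a.2) _ (mem_subgroupOf.1 b.2))))
      fun u v hu hv => by
        rw [← Subgroup.orderOf_coe, ← Subgroup.orderOf_coe] at hu hv
        exact Subtype.ext (Subtype.ext (huniq _ _ (mem_subgroupOf.1 u.2) hu (mem_subgroupOf.1 v.2) hv))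
    exact isCyclic_iff_exists_zpowers_eq_top.2 ⟨a, ha.symm⟩
  obtain ⟨eD⟩ := Dickson.nonempty_dihedral M hMidx (w := ⟨x, hxT, hx⟩) (fun h => hxA (mem_subgroupOf.1 h))
    (Subtype.ext (d.out_sq x hx hxA)) fun a ha => Subtype.ext (d.inv x hx hxA _ (mem_subgroupOf.1 ha))
  by_cases hTH : (T : Subgroup G) ≤ H
  · exact dih ((MulEquiv.subgroupCongr (inf_eq_left.2 hTH : D = (T : Subgroup G))).symm.trans eD)
  -- the four-group
  have hsq : ∀ b ∈ (T : Subgroup G), b ∈ H → b ∈ A → b * b = 1 := by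
    intro b hb hbH hbA
    by_contra hb2
    obtain ⟨k, hk⟩ := IsPGroup.iff_orderOf.1 T.isPGroup' ⟨b, hb⟩
    rw [Subgroup.orderOf_mk] at hk
    have hk2 : 2 ≤ k := by
      by_contra hlt
      refine hb2 ?_
      rw [← pow_two]
      exact orderOf_dvd_iff_pow_eq_one.1 (hk ▸ (pow_dvd_pow 2 (by omega : k ≤ 1)).trans (pow_one 2).dvd)
    set c := b ^ (orderOf b / 4)
    have hc : orderOf c = 4 :=
      orderOf_pow_orderOf_div (orderOf_pos b).ne' (hk ▸ (show 4 ∣ 2 ^ k from pow_dvd_pow 2 hk2))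
    have hcA : c ∈ A := pow_mem hbA _
    refine hTH (d.sylow_le T hiT ⟨j, hjA, hj⟩ fun g hg hgH i hi hi2 => ?_)
    have hsq4 : ∀ w : G, orderOf w = 4 → orderOf (w * w) = 2 := fun w hw => Invol.orderOf_two_iff.2 ⟨by
      rw [← pow_two, ← pow_two, ← pow_mul, show 2 * 2 = orderOf w from hw.symm, pow_orderOf_eq_one], fun h => by
      have := orderOf_dvd_of_pow_eq_one (show w ^ 2 = 1 by rw [pow_two, h])
      rw [hw] at this
      norm_num at this⟩
    have hcg : g * c * g⁻¹ ∈ A := by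
      by_contra hout
      have h1 := d.out_sq _ (hgH c (pow_mem hb _) (d.le hcA)) hout
      have h2 : orderOf (g * c * g⁻¹) = 4 := by rw [Invol.orderOf_conj_eq, hc]
      have h3 := hsq4 _ h2
      rw [h1, orderOf_one] at h3
      omega
    rw [← huniq (c * c) i (A.mul_mem hcA hcA) (hsq4 c hc) hi hi2,
      show g * (c * c) * g⁻¹ = g * c * g⁻¹ * (g * c * g⁻¹) by group]
    exact A.mul_mem hcg hcg
  have hM2 : Nat.card M = 2 := by
    obtain ⟨a, ha⟩ := IsCyclic.exists_generator (α := M)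
    have h1 : orderOf a ∣ 2 := orderOf_dvd_of_pow_eq_one (by
      rw [pow_two]
      exact Subtype.ext (Subtype.ext (hsq _ (a : D).2.1 (a : D).2.2 (mem_subgroupOf.1 a.2))))
    rw [orderOf_eq_card_of_forall_mem_zpowers ha] at h1
    refine ((Nat.dvd_prime Nat.prime_two).1 h1).resolve_left fun h => ?_
    have hjM : (⟨⟨j, hjT, d.le hjA⟩, mem_subgroupOf.2 hjA⟩ : M) = 1 :=
      @Subsingleton.elim _ ((Nat.card_eq_one_iff_unique.1 h).1) _ _
    rw [show j = 1 from congrArg (fun u : M => ((u : D) : G)) hjM, orderOf_one] at hj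
    omega
  have hD4 : Nat.card D = 4 := by
    rw [← M.card_mul_index, hMidx, hM2]
  have hDsq : ∀ w ∈ D, w * w = 1 := fun w hw =>
    if hwA : w ∈ A then hsq w hw.1 hw.2 hwA else d.out_sq w hw.2 hwA
  let D' : Subgroup (T : Subgroup G) := H.subgroupOf (T : Subgroup G)
  have hD'4 : Nat.card D' = 4 := by
    rw [← hD4, ← Subgroup.card_subtype, subgroupOf_map_subtype]
    show Nat.card (H ⊓ (T : Subgroup G) : Subgroup G) = Nat.card ((T : Subgroup G) ⊓ H : Subgroup G)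
    rw [inf_comm]
  have hD'sq : ∀ w ∈ D', w * w = 1 := fun w hw => Subtype.ext (hDsq _ ⟨w.2, hw⟩)
  have hself : centralizer (D' : Set (T : Subgroup G)) = D' := by
    refine le_antisymm (fun w hw => mem_subgroupOf.2 ?_) fun w hw => mem_centralizer_iff.2 fun v hv => ?_
    · rw [← hC, mem_centralizer_singleton_iff]
      exact (congrArg Subtype.val (mem_centralizer_iff.1 hw ⟨j, hjT⟩ (mem_subgroupOf.2 (d.le hjA)))).symm
    · calc v * w = (v * w)⁻¹ := (inv_eq_of_mul_eq_one_right (hD'sq _ (mul_mem hv hw))).symm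
        _ = w * v := by
          rw [mul_inv_rev, inv_eq_of_mul_eq_one_right (hD'sq w hw), inv_eq_of_mul_eq_one_right (hD'sq v hv)]
  have hne : D' ≠ ⊤ := fun h => hTH (subgroupOf_eq_top.1 h)
  rcases Block.CentreFreeTwo.of_selfCentralizing T.isPGroup' D' hD'4 hD'sq hself hne with ⟨n, -, ⟨e⟩⟩ | hqd
  · exact dih e
  refine (semi_case hGW hns T hqd hj hjT ?_ ?_).elim
  · rw [hC]
    intro h8
    have h1 := Grp.card_mul_relIndex (inf_le_right : D ≤ H)
    rw [hD4] at h1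
    refine hidx ?_
    rw [← h1] at h8
    exact (Nat.mul_dvd_mul_iff_left (by norm_num : 0 < 4)).1 (show 4 * 2 ∣ 4 * D.relIndex H from h8)
  · intro w hw hwj hw1 hwj' a ha
    rw [hC] at ha
    have hwH : w ∈ H := hC ▸ mem_centralizer_singleton_iff.2 hwj
    have hwA : w ∉ A := fun h => hwj' (huniq w j h
      (Invol.orderOf_two_iff.2 ⟨hDsq w ⟨hw, hwH⟩, hw1⟩) hjA hj)
    by_cases haA : a ∈ A
    · exact Or.inr (d.inv w hwH hwA a haA)
    · exact Or.inl (d.out_sq a ha haA)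

/-- Statement S3322, given S0483. -/
theorem projective_linear_two_quotient_of_dgroup (hGW : GWStatement.{u}) (H A : Subgroup G) (hAH : A < H)
    (hD : ∀ x ∈ H, x ∉ A → x ^ 2 = 1) (h4 : 4 ∣ Nat.card ↥H)
    (hC : ∀ j ∈ H, orderOf j = 2 → (∀ h ∈ H, h * j = j * h) → Subgroup.centralizer ({j} : Set G) = H)
    (hns : ¬ Group.IsSolvable G) :
    ∃ (N : Subgroup G) (_ : N.Normal), (Odd (Nat.card ↥N) ∨ ∃ m : ℕ, Odd m ∧ Nat.card ↥N = 2 * m) ∧
      ∃ (F : Type) (_ : Field F) (_ : Fintype F), 3 < Fintype.card F ∧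
        (Nonempty (G ⧸ N ≃* Matrix.ProjectiveSpecialLinearGroup (Fin 2) F) ∨
          Nonempty (G ⧸ N ≃* Matrix.ProjGenLinGroup (Fin 2) F)) := by
  rcases dgroup_cases hAH hD hC with hsq | d
  · exact dgroup_elementary H h4 hsq (fun j hj hj2 => hC j hj hj2 fun h hh => by
      calc h * j = (h * j)⁻¹ := (inv_eq_of_mul_eq_one_right (hsq _ (H.mul_mem hh hj))).symm
        _ = j * h := by
          rw [mul_inv_rev, inv_eq_of_mul_eq_one_right (hsq h hh), inv_eq_of_mul_eq_one_right (hsq j hj)]) hns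
  by_cases h : ∃ u v : G, u ∈ A ∧ orderOf u = 2 ∧ v ∈ A ∧ orderOf v = 2 ∧ u ≠ v
  · obtain ⟨u, v, hu, hu2, hv, hv2, hne⟩ := h
    exact dgroup_rank_two d h4 hu hu2 hv hv2 hne hns
  · push Not at h
    exact dgroup_rank_one hGW d h4 h hns

end Cfsg.Agent.Invol.GW
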