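import Cfsg.Agent.Lib.Invol.GW.Consumers.CommutingOuter
import Cfsg.Agent.Lib.Grp.QuotientNormalizer
import Cfsg.Agent.Lib.Invol.Sylow
import Cfsg.Agent.S0205

/-!
# A centralizer of an involution that is a D-group, dihedral Sylow 2-subgroups (for S3322), given S0483
-/

set_option autoImplicit false
set_option linter.style.haveILetI false

namespace Cfsg.Agent.Invol.GW

open Subgroup

universe u

/-- The groups of the conclusion, in odd characteristic. -/
def IsPSLOrPGL (K : Type u) [Group K] : Prop :=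
  ∃ (F : Type) (_ : Field F) (_ : Fintype F), 3 < Fintype.card F ∧
    (Nonempty (K ≃* Matrix.ProjectiveSpecialLinearGroup (Fin 2) F) ∨
      Nonempty (K ≃* Matrix.ProjGenLinGroup (Fin 2) F))

/-- Every element is a product of two elements with trivial square. -/
def InvolProd {G : Type u} [Group G] (C : Subgroup G) : Prop :=
  ∀ h ∈ C, ∃ a ∈ C, ∃ b ∈ C, a * a = 1 ∧ b * b = 1 ∧ h = a * b

/-- Elements with non-trivial squares commute. -/
def SqCommute {G : Type u} [Group G] (C : Subgroup G) : Prop :=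
  ∀ u ∈ C, ∀ v ∈ C, u * u ≠ 1 → v * v ≠ 1 → u * v = v * u

theorem InvolProd.map {G : Type u} [Group G] {K : Type*} [Group K] {C : Subgroup G} (h : InvolProd C)
    (f : G →* K) : ∀ g ∈ C.map f, ∃ a ∈ C.map f, ∃ b ∈ C.map f, a * a = 1 ∧ b * b = 1 ∧ g = a * b := by
  rintro _ ⟨g, hg, rfl⟩
  obtain ⟨a, ha, b, hb, haa, hbb, rfl⟩ := h g hg
  exact ⟨f a, Subgroup.mem_map_of_mem f ha, f b, Subgroup.mem_map_of_mem f hb,
    by rw [← map_mul, haa, map_one], by rw [← map_mul, hbb, map_one], map_mul f a b⟩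

theorem SqCommute.map {G : Type u} [Group G] {K : Type*} [Group K] {C : Subgroup G} (h : SqCommute C)
    (f : G →* K) : ∀ u ∈ C.map f, ∀ v ∈ C.map f, u * u ≠ 1 → v * v ≠ 1 → u * v = v * u := by
  rintro _ ⟨u, hu, rfl⟩ _ ⟨v, hv, rfl⟩ hu2 hv2
  rw [← map_mul, ← map_mul, h u hu v hv
    (fun e => hu2 (by rw [← map_mul, e, map_one])) (fun e => hv2 (by rw [← map_mul, e, map_one]))]

/-- Centralizers of involutions in a quotient by a subgroup of odd order. -/
theorem centralizer_involution_quotient {G : Type u} [Group G] [Finite G] (N : Subgroup G) [N.Normal]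
    (hN : Odd (Nat.card N)) {t : G} (ht : orderOf t = 2) :
    centralizer ({QuotientGroup.mk' N t} : Set (G ⧸ N)) =
      (centralizer ({t} : Set G)).map (QuotientGroup.mk' N) := by
  have hz : Nat.card (zpowers t) = 2 := by rw [Nat.card_zpowers, ht]
  have h := Grp.QuotNorm.centralizer_map N (zpowers t)
    (by rw [hz]; exact Nat.coprime_two_right.2 hN) (Or.inl (Cfsg.Agent.S0205.result hN))
  rwa [MonoidHom.map_zpowers, zpowers_eq_closure, zpowers_eq_closure, centralizer_closure, centralizer_closure] at h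

/-- With dihedral Sylow subgroups there is no elementary abelian subgroup of order eight. -/
theorem no_three {X : Type u} [Group X] [Finite X] (S : Sylow 2 X) {m : ℕ}
    (e : (S : Subgroup X) ≃* DihedralGroup (2 ^ m)) {u v i : X} (hu : u * u = 1) (hv : v * v = 1) (hi : i * i = 1)
    (huv : u * v = v * u) (hui : u * i = i * u) (hvi : v * i = i * v) (hu1 : u ≠ 1) (hv1 : v ≠ 1) (hne : u ≠ v) :
    i = 1 ∨ i = u ∨ i = v ∨ i = u * v := by
  haveI : Fact (Nat.Prime 2) := ⟨Nat.prime_two⟩
  obtain ⟨K, hK4, -, hKmem⟩ := Transfer.TwoByCyclic.exists_klein hu hv huv hu1 hv1 hne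
  let E := closure ({u, v, i} : Set X)
  have hcomm : ∀ a ∈ ({u, v, i} : Set X), ∀ b ∈ ({u, v, i} : Set X), a * b = b * a := by
    simp only [Set.mem_insert_iff, Set.mem_singleton_iff]
    rintro a (rfl | rfl | rfl) b (rfl | rfl | rfl)
    exacts [rfl, huv, hui, huv.symm, rfl, hvi, hui.symm, hvi.symm, rfl]
  haveI hEc : IsMulCommutative E := isMulCommutative_closure hcomm
  have hEsq : ∀ x ∈ E, x * x = 1 := by
    intro x hx
    induction hx using closure_induction with
    | mem a ha =>
      simp only [Set.mem_insert_iff, Set.mem_singleton_iff] at ha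
      rcases ha with rfl | rfl | rfl <;> assumption
    | one => exact one_mul 1
    | mul a b ha hb iha ihb =>
      have hab : a * b = b * a := congrArg Subtype.val (hEc.is_comm.comm ⟨a, ha⟩ ⟨b, hb⟩)
      calc a * b * (a * b) = a * (b * a) * b := by group
        _ = (a * a) * (b * b) := by rw [← hab]; group
        _ = 1 := by rw [iha, ihb, one_mul]
    | inv a _ iha => rw [← mul_inv_rev, iha, inv_one]
  have hEp : IsPGroup 2 E := fun x => ⟨1, by rw [pow_one, pow_two]; exact Subtype.ext (hEsq x x.2)⟩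
  obtain ⟨R, hR⟩ := hEp.exists_le_sylow
  have h4 := card_elementary_le_four ((Sylow.equiv R S).trans e) (E.subgroupOf (R : Subgroup X))
    fun x hx => Subtype.ext (hEsq x hx)
  rw [Nat.card_congr (subgroupOfEquivOfLe hR).toEquiv] at h4
  have hu' : u ∈ E := subset_closure (by simp)
  have hv' : v ∈ E := subset_closure (by simp)
  have hKE : K ≤ E := fun x hx => by
    rcases (hKmem x).1 hx with rfl | rfl | rfl | rfl
    exacts [one_mem E, hu', hv', mul_mem hu' hv']
  have heq := eq_of_le_of_card_ge hKE (by rw [hK4]; exact h4)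
  exact (hKmem i).1 (heq ▸ subset_closure (by simp))

/-- Every element of a dihedral group is a product of two elements with trivial square. -/
theorem dihedral_prod {n : ℕ} (x : DihedralGroup n) : ∃ a b, a * a = 1 ∧ b * b = 1 ∧ x = a * b := by
  rcases x with i | i
  · exact ⟨DihedralGroup.sr 0, DihedralGroup.sr i, DihedralGroup.sr_mul_self _, DihedralGroup.sr_mul_self _,
      by rw [DihedralGroup.sr_mul_sr, sub_zero]⟩
  · exact ⟨DihedralGroup.sr i, 1, DihedralGroup.sr_mul_self _, one_mul 1, (mul_one _).symm⟩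

/-- Outside a dihedral subgroup of index two of a dihedral 2-group the involutions form one class. -/
theorem dihedral_outer_conj {m : ℕ} (D : Subgroup (DihedralGroup (2 ^ m))) (hD : D.index = 2)
    {u v : DihedralGroup (2 ^ m)} (hu : u ∈ D) (hv : v ∈ D) (hu2 : u * u = 1) (hv2 : v * v = 1) (hu1 : u ≠ 1)
    (hv1 : v ≠ 1) (hne : u ≠ v) {a b : DihedralGroup (2 ^ m)} (ha : a ∉ D) (hb : b ∉ D) (ha2 : a * a = 1)
    (hb2 : b * b = 1) : ∃ g, g * a * g⁻¹ = b := by
  haveI : NeZero (2 ^ m) := ⟨by positivity⟩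
  have hpar : ∀ i : ZMod (2 ^ m), (∃ k : ZMod (2 ^ m), i = k + k) ∨ ∃ k : ZMod (2 ^ m), i = k + k + 1 := by
    intro i
    obtain ⟨z, rfl⟩ := ZMod.intCast_surjective i
    rcases Int.even_or_odd z with ⟨k, rfl⟩ | ⟨k, rfl⟩
    · exact Or.inl ⟨(k : ZMod (2 ^ m)), by push_cast; rfl⟩
    · exact Or.inr ⟨(k : ZMod (2 ^ m)), by push_cast; ring⟩
  have hev : ∀ k : ZMod (2 ^ m), DihedralGroup.r (k + k) ∈ D := fun k => by
    rw [← DihedralGroup.r_mul_r]; exact mul_self_mem_of_index_two hD _
  -- a rotation squaring to one is determined by being trivial or not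
  have hrot : ∀ i j : ZMod (2 ^ m), i + i = 0 → j + j = 0 → i ≠ 0 → j ≠ 0 → i = j := by
    intro i j hi hj hi0 hj0
    have half : ∀ c : ZMod (2 ^ m), c + c = 0 → c ≠ 0 → 2 * c.val = 2 ^ m := fun c hc hc0 => by
      have h3 := congrArg ZMod.val hc
      rw [ZMod.val_add, ZMod.val_zero] at h3
      have h4 := ZMod.val_lt c
      have h5 : c.val ≠ 0 := fun h => hc0 ((ZMod.val_eq_zero c).1 h)
      obtain ⟨q, hq⟩ := Nat.dvd_of_mod_eq_zero h3
      rcases Nat.lt_or_ge q 2 with hq2 | hq2
      · interval_cases q <;> omega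
      · have : 2 ^ m * 2 ≤ 2 ^ m * q := Nat.mul_le_mul_left _ hq2
        omega
    have h1 := half i hi hi0
    have h2 := half j hj hj0
    exact ZMod.val_injective _ (by omega)
  -- the subgroup contains a reflection
  obtain ⟨c, hc⟩ : ∃ c, DihedralGroup.sr c ∈ D := by
    rcases u with i | i
    · rcases v with j | j
      · exfalso
        simp only [DihedralGroup.r_mul_r, DihedralGroup.one_def, DihedralGroup.r.injEq, ne_eq] at hu2 hv2 hu1 hv1 hne
        exact hne (hrot i j hu2 hv2 hu1 hv1)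
      · exact ⟨j, hv⟩
    · exact ⟨i, hu⟩
  have hr1 : DihedralGroup.r (1 : ZMod (2 ^ m)) ∉ D := by
    intro h
    have hall : ∀ i, DihedralGroup.r i ∈ D := fun i => by
      obtain ⟨z, rfl⟩ := ZMod.intCast_surjective i
      rw [← DihedralGroup.r_one_zpow]; exact zpow_mem h z
    rcases a with i | i
    · exact ha (hall i)
    · refine ha ?_
      have := mul_mem hc (hall (i - c))
      rwa [DihedralGroup.sr_mul_r, add_sub_cancel] at this
  have hodd : ∀ i, DihedralGroup.r i ∈ D → ∃ k, i = k + k := fun i hi => by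
    rcases hpar i with h | ⟨k, rfl⟩
    · exact h
    · exfalso
      refine hr1 ?_
      have := mul_mem (inv_mem (hev k)) hi
      rwa [DihedralGroup.inv_r, DihedralGroup.r_mul_r, neg_add_cancel_left] at this
  -- the outer involutions are reflections
  have hrefl : ∀ x : DihedralGroup (2 ^ m), x ∉ D → x * x = 1 → ∃ i, x = DihedralGroup.sr i := by
    rintro (i | i) hx hx2
    · exfalso
      rw [DihedralGroup.r_mul_r, DihedralGroup.one_def, DihedralGroup.r.injEq] at hx2
      rcases u with j | j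
      · rw [DihedralGroup.r_mul_r, DihedralGroup.one_def, DihedralGroup.r.injEq] at hu2
        have hi0 : i ≠ 0 := fun h => hx (by rw [h, ← DihedralGroup.one_def]; exact one_mem D)
        have hj0 : j ≠ 0 := fun h => hu1 (by rw [h, DihedralGroup.one_def])
        exact hx (hrot i j hx2 hu2 hi0 hj0 ▸ hu)
      rcases v with l | l
      · rw [DihedralGroup.r_mul_r, DihedralGroup.one_def, DihedralGroup.r.injEq] at hv2
        have hi0 : i ≠ 0 := fun h => hx (by rw [h, ← DihedralGroup.one_def]; exact one_mem D)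
        have hl0 : l ≠ 0 := fun h => hv1 (by rw [h, DihedralGroup.one_def])
        exact hx (hrot i l hx2 hv2 hi0 hl0 ▸ hv)
      · -- two reflections of the subgroup differ by an even rotation
        have hjl := mul_mem hu hv
        rw [DihedralGroup.sr_mul_sr] at hjl
        obtain ⟨k, hk⟩ := hodd _ hjl
        have hi0 : i ≠ 0 := fun h => hx (by rw [h, ← DihedralGroup.one_def]; exact one_mem D)
        have hk0 : l - j ≠ 0 := fun h => hne (congrArg DihedralGroup.sr (sub_eq_zero.1 h).symm)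
        rcases hpar i with ⟨p, rfl⟩ | ⟨p, rfl⟩
        · exact hx (hev p)
        · -- an odd rotation squaring to one forces order four
          obtain ⟨p', rfl⟩ := ZMod.intCast_surjective p
          obtain ⟨k', rfl⟩ := ZMod.intCast_surjective k
          have h1 : ((2 * (2 * p' + 1) : ℤ) : ZMod (2 ^ m)) = 0 := by push_cast; linear_combination hx2
          rw [ZMod.intCast_zmod_eq_zero_iff_dvd] at h1
          push_cast at h1
          have h2 : ¬ (2 : ℤ) ^ m ∣ 2 * k' := fun h => hk0 (by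
            rw [hk]
            have : ((2 * k' : ℤ) : ZMod (2 ^ m)) = 0 := by
              rw [ZMod.intCast_zmod_eq_zero_iff_dvd]; push_cast; exact h
            push_cast at this
            linear_combination this)
          rcases Nat.lt_or_ge m 2 with hm | hm
          · interval_cases m <;> simp at h2
          · obtain ⟨w, hw⟩ := (pow_dvd_pow (2 : ℤ) hm).trans h1
            omega
    · exact ⟨i, rfl⟩
  obtain ⟨i, rfl⟩ := hrefl a ha ha2
  obtain ⟨j, rfl⟩ := hrefl b hb hb2
  have hab : DihedralGroup.sr i * DihedralGroup.sr j ∈ D :=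
    (mul_mem_iff_of_index_two hD).2 (iff_of_false ha hb)
  rw [DihedralGroup.sr_mul_sr] at hab
  obtain ⟨k, hk⟩ := hodd _ hab
  refine ⟨DihedralGroup.r (-k), ?_⟩
  rw [DihedralGroup.r_mul_sr, DihedralGroup.inv_r, DihedralGroup.sr_mul_r]
  congr 1
  linear_combination -hk

set_option maxHeartbeats 1000000 in
/-- An involution of seven letters in the alternating group centralizes two non-commuting elements with
non-trivial squares. -/
theorem seven_witness :
    (Equiv.swap 0 1 * Equiv.swap 2 3 : Equiv.Perm (Fin 7)).cycleType = {2, 2} ∧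
      ∃ u v : Equiv.Perm (Fin 7), Equiv.Perm.sign u = 1 ∧ Equiv.Perm.sign v = 1 ∧ u * u ≠ 1 ∧ v * v ≠ 1 ∧
        u * v ≠ v * u ∧ u * (Equiv.swap 0 1 * Equiv.swap 2 3) = (Equiv.swap 0 1 * Equiv.swap 2 3) * u ∧
        v * (Equiv.swap 0 1 * Equiv.swap 2 3) = (Equiv.swap 0 1 * Equiv.swap 2 3) * v := by
  refine ⟨by decide +kernel, Equiv.swap 4 5 * Equiv.swap 5 6,
    Equiv.swap 0 2 * Equiv.swap 2 1 * Equiv.swap 1 3 * Equiv.swap 4 5, ?_⟩
  decide +kernel

theorem seven_cycleType {w : Equiv.Perm (Fin 7)} (hw : orderOf w = 2) (hs : Equiv.Perm.sign w = 1) :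
    w.cycleType = {2, 2} := by
  obtain ⟨n, hn⟩ := Equiv.Perm.cycleType_prime_order (by rw [hw]; exact Nat.prime_two)
  rw [hw] at hn
  have h1 := Equiv.Perm.sum_cycleType w
  have h2 : w.support.card ≤ 7 := le_trans (Finset.card_le_univ _) (by simp)
  rw [Equiv.Perm.sign_of_cycleType, hn, Multiset.sum_replicate, Multiset.card_replicate, smul_eq_mul] at hs
  rw [hn, Multiset.sum_replicate, smul_eq_mul] at h1
  have h3 : n ≤ 2 := by omega
  interval_cases n
  · exact absurd hs (by decide)
  · rw [hn]; rfl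
  · exact absurd hs (by decide)

variable {K : Type u} [Group K] [Finite K]

/-- The alternating group of degree seven has no such centralizer. -/
theorem seven_false (L : Subgroup K) [L.Normal] (hCL : centralizer (L : Set K) = ⊥)
    (f : L ≃* alternatingGroup (Fin 7)) (T : Sylow 2 K) {m : ℕ} (e : (T : Subgroup K) ≃* DihedralGroup (2 ^ m))
    {j : K} (hj : orderOf j = 2) (hcom : SqCommute (centralizer ({j} : Set K))) : False := by
  let c : Equiv.Perm (Fin 7) ≃* MulAut (alternatingGroup (Fin 7)) :=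
    MulEquiv.ofBijective MulAut.conjNormal (S2119.result 7 (by norm_num) (by norm_num))
  let θ : K →* Equiv.Perm (Fin 7) :=
    c.symm.toMonoidHom.comp ((MulAut.congr f).toMonoidHom.comp (MulAut.conjNormal (H := L)))
  have hθinj : Function.Injective θ := by
    refine (c.symm.injective.comp ((MulAut.congr f).injective.comp ?_))
    rw [← MonoidHom.ker_eq_bot_iff, eq_bot_iff]
    intro g hg
    rw [← hCL]
    refine mem_centralizer_iff.2 fun l hl => ?_
    have := congrArg Subtype.val (DFunLike.congr_fun (MonoidHom.mem_ker.1 hg) ⟨l, hl⟩)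
    rw [MulAut.conjNormal_apply] at this
    exact (mul_inv_eq_iff_eq_mul.1 this).symm
  have hθL : ∀ l : L, θ l = (f l : Equiv.Perm (Fin 7)) := by
    intro l
    refine c.injective (show c (c.symm _) = _ from (c.apply_symm_apply _).trans ?_)
    refine MulEquiv.ext fun y => Subtype.ext ?_
    show ((f (MulAut.conjNormal (l : K) (f.symm y))) : Equiv.Perm (Fin 7)) = _
    rw [show MulAut.conjNormal (l : K) (f.symm y) = l * f.symm y * l⁻¹ from Subtype.ext (MulAut.conjNormal_apply _ _),
      map_mul, map_mul, map_inv, f.apply_symm_apply]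
    show _ = (MulAut.conjNormal (f l : Equiv.Perm (Fin 7)) y : Equiv.Perm (Fin 7))
    rw [MulAut.conjNormal_apply]
    rfl
  have hle : alternatingGroup (Fin 7) ≤ θ.range := fun w hw =>
    ⟨(f.symm ⟨w, hw⟩ : L), by rw [hθL, f.apply_symm_apply]⟩
  -- the image has no odd permutation
  have hrange : θ.range = alternatingGroup (Fin 7) := by
    refine le_antisymm (fun w hw => ?_) hle
    by_contra hwA
    have htop : θ.range = ⊤ := by
      refine eq_top_iff.2 fun p _ => ?_
      by_cases hp : p ∈ alternatingGroup (Fin 7)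
      · exact hle hp
      · have h := hle ((mul_mem_iff_of_index_two alternatingGroup.index_eq_two).2 (iff_of_false hwA hp))
        exact (mul_mem_cancel_left hw).1 h
    have get : ∀ p : Equiv.Perm (Fin 7), ∃ g, θ g = p := fun p => MonoidHom.mem_range.1 (htop ▸ mem_top p)
    obtain ⟨a, ha⟩ := get (Equiv.swap 0 1)
    obtain ⟨b, hb⟩ := get (Equiv.swap 2 3)
    obtain ⟨d, hd⟩ := get (Equiv.swap 4 5)
    have sq : ∀ {g : K} {p : Equiv.Perm (Fin 7)}, θ g = p → p * p = 1 → g * g = 1 := fun hg hp =>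
      hθinj (by rw [map_mul, hg, hp, map_one])
    have cm : ∀ {g h : K} {p q : Equiv.Perm (Fin 7)}, θ g = p → θ h = q → p * q = q * p → g * h = h * g :=
      fun hg hh hpq => hθinj (by rw [map_mul, map_mul, hg, hh, hpq])
    have ne : ∀ {g h : K} {p q : Equiv.Perm (Fin 7)}, θ g = p → θ h = q → p ≠ q → g ≠ h :=
      fun hg hh hpq e => hpq (hg.symm.trans ((congrArg θ e).trans hh))
    rcases no_three T e (sq ha (by decide)) (sq hb (by decide)) (sq hd (by decide)) (cm ha hb (by decide))
      (cm ha hd (by decide)) (cm hb hd (by decide)) (ne ha (map_one θ) (by decide)) (ne hb (map_one θ) (by decide))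
      (ne ha hb (by decide)) with h | h | h | h
    · exact ne hd (map_one θ) (by decide) h
    · exact ne hd ha (by decide) h
    · exact ne hd hb (by decide) h
    · exact ne hd (show θ (a * b) = _ by rw [map_mul, ha, hb]) (by decide) h
  obtain ⟨hw0, u, v, hu, hv, hu2, hv2, hne, huw, hvw⟩ := seven_witness
  have hjA : θ j ∈ alternatingGroup (Fin 7) := hrange ▸ ⟨j, rfl⟩
  have hj2 : orderOf (θ j) = 2 := by rw [orderOf_injective θ hθinj, hj]
  obtain ⟨p, hp⟩ := _root_.isConj_iff.1 (Equiv.Perm.isConj_iff_cycleType_eq.2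
    (hw0.trans (seven_cycleType hj2 (Equiv.Perm.mem_alternatingGroup.1 hjA)).symm))
  let w0 : Equiv.Perm (Fin 7) := Equiv.swap 0 1 * Equiv.swap 2 3
  have lift : ∀ q : Equiv.Perm (Fin 7), Equiv.Perm.sign q = 1 → q * w0 = w0 * q →
      ∃ g ∈ centralizer ({j} : Set K), θ g = MulAut.conj p q := by
    intro q hq hqw
    obtain ⟨g, hg⟩ := MonoidHom.mem_range.1 (hrange.ge (show MulAut.conj p q ∈ alternatingGroup (Fin 7) by
      rw [Equiv.Perm.mem_alternatingGroup, MulAut.conj_apply, map_mul, map_mul, map_inv, hq, mul_one, mul_inv_cancel]))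
    refine ⟨g, mem_centralizer_singleton_iff.2 (hθinj ?_), hg⟩
    rw [map_mul, map_mul, hg, ← hp, ← MulAut.conj_apply, ← map_mul, ← map_mul]
    exact congrArg _ hqw
  obtain ⟨g, hgC, hg⟩ := lift u hu huw
  obtain ⟨h, hhC, hh⟩ := lift v hv hvw
  refine hne ((MulAut.conj p).injective ?_)
  rw [map_mul, map_mul, ← hg, ← hh, ← map_mul, ← map_mul]
  refine congrArg θ (hcom g hgC h hhC (fun e' => hu2 ((MulAut.conj p).injective ?_))
    (fun e' => hv2 ((MulAut.conj p).injective ?_)))
  · rw [map_mul, ← hg, ← map_mul, e', map_one, map_one]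
  · rw [map_mul, ← hh, ← map_mul, e', map_one, map_one]

/-- Two distinct commuting involutions of `PSL₂(q)`, `q` odd. -/
theorem exists_two_involutions_PSL {F : Type} [Field F] [Fintype F] (hodd : Odd (Fintype.card F)) :
    ∃ u v : Matrix.ProjectiveSpecialLinearGroup (Fin 2) F,
      orderOf u = 2 ∧ orderOf v = 2 ∧ u ≠ v ∧ u * v = v * u := by
  obtain ⟨u, v, hu, hv, hne, hc, -, -⟩ := field_fixesFour hodd (1 : RingAut F)
  exact ⟨u, v, hu, hv, hne, hc⟩

/-- The case of a trivial core. -/
theorem dihedral_socle_case (hGW : GWStatement.{u}) (hO : Cfsg.oddCore K = ⊥) (hns : ¬ Group.IsSolvable K)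
    (T : Sylow 2 K) {m : ℕ} (e : (T : Subgroup K) ≃* DihedralGroup (2 ^ m)) {j : K} (hj : orderOf j = 2)
    (hprod : InvolProd (centralizer ({j} : Set K))) (hcom : SqCommute (centralizer ({j} : Set K))) :
    IsPSLOrPGL K := by
  classical
  haveI : Fact (Nat.Prime 2) := ⟨Nat.prime_two⟩
  obtain ⟨L, hLn, hmodel, hCL⟩ := exists_socle hGW hO hns T e
  haveI := hLn
  rcases hmodel with ⟨F, hF, hFf, hodd, h3, ⟨f⟩⟩ | ⟨⟨f⟩⟩
  swap
  · exact (seven_false L hCL f T e hj hcom).elim
  haveI : Finite (Matrix.ProjGenLinGroup (Fin 2) F) := Dickson.finite_pgl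
  let ι := Matrix.ProjectiveSpecialLinearGroup.toPGL (n := Fin 2) (R := F)
  let Ψ := pglAut F
  let Φ : K →* MulAut (Matrix.ProjectiveSpecialLinearGroup (Fin 2) F) :=
    (MulAut.congr f).toMonoidHom.comp (MulAut.conjNormal (H := L))
  have hΦinj : Function.Injective Φ := by
    refine (MulAut.congr f).injective.comp ?_
    rw [← MonoidHom.ker_eq_bot_iff, eq_bot_iff]
    intro g hg
    rw [← hCL]
    refine mem_centralizer_iff.2 fun l hl => ?_
    have := congrArg Subtype.val (DFunLike.congr_fun (MonoidHom.mem_ker.1 hg) ⟨l, hl⟩)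
    rw [MulAut.conjNormal_apply] at this
    exact (mul_inv_eq_iff_eq_mul.1 this).symm
  have hΦL : ∀ l : L, Φ l = Ψ (ι (f l)) := by
    intro l
    rw [pglAut_toPGL]
    refine MulEquiv.ext fun y => ?_
    show f (MulAut.conjNormal (l : K) (f.symm y)) = f l * y * (f l)⁻¹
    rw [show MulAut.conjNormal (l : K) (f.symm y) = l * f.symm y * l⁻¹ from Subtype.ext (MulAut.conjNormal_apply _ _),
      map_mul, map_mul, map_inv, f.apply_symm_apply]
  let P : Subgroup K := Ψ.range.comap Φ
  have hLP : L ≤ P := fun l hl => ⟨ι (f ⟨l, hl⟩), (hΦL ⟨l, hl⟩).symm⟩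
  -- every involution is inner-diagonal
  have hsqP : ∀ i : K, i * i = 1 → i ∈ P := by
    intro i hi
    by_cases hiL : i ∈ L
    · exact hLP hiL
    have hi1 : i ≠ 1 := fun h => hiL (h ▸ one_mem L)
    have hord : orderOf (Φ i) = 2 := by
      rw [orderOf_injective Φ hΦinj]; exact orderOf_eq_prime (by rw [pow_two, hi]) hi1
    rcases involution_inndiag_or_fixesFour hodd hord with ⟨g, hg⟩ | ⟨u, v, hu, hv, hne, huv, hiu, hiv⟩
    · exact ⟨Matrix.ProjGenLinGroup.mk g, (Matrix.ProjGenLinGroup.lift_mk _ g).trans hg.symm⟩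
    exfalso
    have hfix : ∀ y, Φ i y = y → ((f.symm y : L) : K) * i = i * (f.symm y : L) := by
      intro y hy
      have h1 : MulAut.conjNormal (H := L) i (f.symm y) = f.symm y :=
        f.injective (hy.trans (f.apply_symm_apply y).symm)
      have h2 := congrArg Subtype.val h1
      rw [MulAut.conjNormal_apply] at h2
      exact (mul_inv_eq_iff_eq_mul.1 h2).symm
    have hval : Function.Injective fun y => ((f.symm y : L) : K) := Subtype.val_injective.comp f.symm.injective
    have hone : ((f.symm 1 : L) : K) = 1 := by rw [map_one]; rfl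
    have hmul : ∀ y z, ((f.symm (y * z) : L) : K) = (f.symm y : L) * (f.symm z : L) := fun y z => by
      rw [map_mul]; rfl
    have hsq : ∀ y, orderOf y = 2 → ((f.symm y : L) : K) * (f.symm y : L) = 1 := fun y hy => by
      rw [← hmul, Invol.mul_self_of_orderOf_two hy, hone]
    have hne1 : ∀ y, orderOf y = 2 → ((f.symm y : L) : K) ≠ 1 := fun y hy h => by
      rw [show y = 1 from hval (h.trans hone.symm), orderOf_one] at hy
      omega
    rcases no_three T e (hsq u hu) (hsq v hv) hi (by rw [← hmul, ← hmul, huv]) (hfix u hiu) (hfix v hiv)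
      (hne1 u hu) (hne1 v hv) (fun h => hne (hval h)) with h | h | h | h
    · exact hi1 h
    · exact hiL (h ▸ (f.symm u).2)
    · exact hiL (h ▸ (f.symm v).2)
    · exact hiL (h ▸ mul_mem (f.symm u).2 (f.symm v).2)
  have hCP : centralizer ({j} : Set K) ≤ P := fun h hh => by
    obtain ⟨a, -, b, -, haa, hbb, rfl⟩ := hprod h hh
    exact mul_mem (hsqP a haa) (hsqP b hbb)
  have hTP : (T : Subgroup K) ≤ P := fun t ht => by
    obtain ⟨a, b, haa, hbb, hab⟩ := dihedral_prod (e ⟨t, ht⟩)
    have h : (⟨t, ht⟩ : (T : Subgroup K)) = e.symm a * e.symm b := e.injective (by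
      rw [map_mul, e.apply_symm_apply, e.apply_symm_apply, hab])
    rw [show t = (e.symm a : K) * (e.symm b : K) from congrArg Subtype.val h]
    refine mul_mem (hsqP _ ?_) (hsqP _ ?_)
    · rw [← Subgroup.coe_mul, ← map_mul, haa, map_one, OneMemClass.coe_one]
    · rw [← Subgroup.coe_mul, ← map_mul, hbb, map_one, OneMemClass.coe_one]
  -- `P` embeds into `PGL₂`
  let θ : P →* Matrix.ProjGenLinGroup (Fin 2) F :=
    (MonoidHom.ofInjective (pglAut_injective (F := F))).symm.toMonoidHom.comp
      ((Φ.comp P.subtype).codRestrict Ψ.range fun g => g.2)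
  have hΨθ : ∀ g : P, Ψ (θ g) = Φ g := fun g =>
    MonoidHom.apply_ofInjective_symm (pglAut_injective (F := F)) _
  have hθinj : Function.Injective θ := fun g h hgh => Subtype.ext (hΦinj (by rw [← hΨθ, ← hΨθ, hgh]))
  have hindex : ι.range.index = 2 := Dickson.PGLMax.index_range hodd
  have hθL : ∀ g : P, (g : K) ∈ L ↔ θ g ∈ ι.range := by
    intro g
    constructor
    · intro hg
      refine ⟨f ⟨g, hg⟩, pglAut_injective (F := F) ?_⟩
      rw [hΨθ]; exact (hΦL ⟨g, hg⟩).symm
    · rintro ⟨y, hy⟩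
      have : Φ g = Φ (f.symm y : L) := by rw [hΦL, f.apply_symm_apply, ← hΨθ, ← hy]
      exact hΦinj this ▸ (f.symm y).2
  have hprodL : ∀ a b : P, (a : K) ∉ L → (b : K) ∉ L → (a : K) * b ∈ L := fun a b ha hb => by
    rw [← Subgroup.coe_mul, hθL, map_mul, mul_mem_iff_of_index_two hindex]
    exact iff_of_false (fun h => ha ((hθL a).2 h)) (fun h => hb ((hθL b).2 h))
  -- the normal subgroup `P` is everything
  have hPtop : P = ⊤ := by
    refine eq_top_iff.2 fun g _ => ?_
    suffices hp : ∃ p ∈ P, p * j * p⁻¹ = g * j * g⁻¹ by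
      obtain ⟨p, hp, he⟩ := hp
      have hc : p⁻¹ * g ∈ centralizer ({j} : Set K) := mem_centralizer_singleton_iff.2 (by
        calc p⁻¹ * g * j = p⁻¹ * (g * j * g⁻¹) * g := by group
          _ = p⁻¹ * (p * j * p⁻¹) * g := by rw [he]
          _ = j * (p⁻¹ * g) := by group)
      have := mul_mem hp (hCP hc)
      rwa [mul_inv_cancel_left] at this
    have hi2 : orderOf (g * j * g⁻¹) = 2 := by rw [Invol.orderOf_conj_eq, hj]
    by_cases hjL : j ∈ L
    · have hiL : g * j * g⁻¹ ∈ L := hLn.conj_mem j hjL g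
      obtain ⟨y, hy⟩ := _root_.isConj_iff.1 (Fus.PSLTwo.involutions_conj (Nat.odd_iff.1 hodd)
        (x := f ⟨j, hjL⟩) (y := f ⟨_, hiL⟩)
        (by rw [MulEquiv.orderOf_eq, Subgroup.orderOf_mk, hj]) (by rw [MulEquiv.orderOf_eq, Subgroup.orderOf_mk, hi2]))
      refine ⟨(f.symm y : L), hLP (f.symm y).2, ?_⟩
      have := congrArg (fun w => ((f.symm w : L) : K)) hy
      simpa using this
    have hiL : g * j * g⁻¹ ∉ L := fun h => hjL (by
      have := hLn.conj_mem _ h g⁻¹
      rwa [show g⁻¹ * (g * j * g⁻¹) * g⁻¹⁻¹ = j by group] at this)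
    have hjP : j ∈ P := hsqP j (Invol.mul_self_of_orderOf_two hj)
    have hiP : g * j * g⁻¹ ∈ P := hsqP _ (Invol.mul_self_of_orderOf_two hi2)
    let T' : Sylow 2 P := T.subtype hTP
    have intoT : ∀ x : K, x ∈ P → orderOf x = 2 → x ∉ L → ∃ p ∈ P, p * x * p⁻¹ ∈ (T : Subgroup K) ∧ p * x * p⁻¹ ∉ L := by
      intro x hx hx2 hxL
      obtain ⟨p, hp⟩ := Invol.exists_conj_mem_sylow (p := 2) (n := 1) (x := (⟨x, hx⟩ : P))
        (by rw [Subgroup.orderOf_mk, hx2, pow_one]) T'
      refine ⟨p, p.2, hp, fun h => hxL ?_⟩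
      have := hLn.conj_mem _ h (p : K)⁻¹
      rwa [show (p : K)⁻¹ * ((p : K) * x * (p : K)⁻¹) * (p : K)⁻¹⁻¹ = x by group] at this
    obtain ⟨p, hp, hpT, hpL⟩ := intoT j hjP hj hjL
    obtain ⟨q, hq, hqT, hqL⟩ := intoT _ hiP hi2 hiL
    let D : Subgroup (DihedralGroup (2 ^ m)) := (L.subgroupOf (T : Subgroup K)).comap e.symm.toMonoidHom
    have hmemD : ∀ t : (T : Subgroup K), e t ∈ D ↔ (t : K) ∈ L := fun t => by
      show e.symm (e t) ∈ L.subgroupOf (T : Subgroup K) ↔ _
      rw [e.symm_apply_apply, mem_subgroupOf]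
    have hD : D.index = 2 := by
      rw [index_eq_two_iff]
      refine ⟨e ⟨_, hpT⟩, fun b => ?_⟩
      obtain ⟨t, rfl⟩ := e.surjective b
      rw [← map_mul, hmemD, hmemD, Subgroup.coe_mul, xor_iff_iff_not]
      constructor
      · intro h h'
        exact hpL ((mul_mem_cancel_left h').1 h)
      · intro h
        exact hprodL ⟨t, hTP t.2⟩ ⟨_, hTP hpT⟩ h hpL
    obtain ⟨u, v, hu, hv, hne, huv⟩ := exists_two_involutions_PSL (F := F) hodd
    have huu := Invol.mul_self_of_orderOf_two hu
    have hvv := Invol.mul_self_of_orderOf_two hv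
    obtain ⟨W, hW4, -, hWmem⟩ := Transfer.TwoByCyclic.exists_klein huu hvv huv
      (fun h => by rw [h, orderOf_one] at hu; omega) (fun h => by rw [h, orderOf_one] at hv; omega) hne
    obtain ⟨s, hs⟩ := Invol.exists_conj_subset_sylow (G := K)
      (H := (W.map f.symm.toMonoidHom).map L.subtype)
      (((IsPGroup.of_card (n := 2) hW4).map _).map _) T
    have hmem : ∀ y ∈ W, s * ((f.symm y : L) : K) * s⁻¹ ∈ (T : Subgroup K) := fun y hy =>
      hs _ ⟨f.symm y, ⟨y, hy, rfl⟩, rfl⟩
    let u' : (T : Subgroup K) := ⟨_, hmem u ((hWmem u).2 (Or.inr (Or.inl rfl)))⟩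
    let v' : (T : Subgroup K) := ⟨_, hmem v ((hWmem v).2 (Or.inr (Or.inr (Or.inl rfl))))⟩
    have hconv : ∀ y, y * y = 1 → s * ((f.symm y : L) : K) * s⁻¹ * (s * ((f.symm y : L) : K) * s⁻¹) = 1 := by
      intro y hy
      rw [show s * ((f.symm y : L) : K) * s⁻¹ * (s * ((f.symm y : L) : K) * s⁻¹) =
        s * (((f.symm y : L) : K) * (f.symm y : L)) * s⁻¹ by group, ← Subgroup.coe_mul, ← map_mul, hy, map_one,
        OneMemClass.coe_one, mul_one, mul_inv_cancel]
    have hinj : ∀ y z, s * ((f.symm y : L) : K) * s⁻¹ = s * ((f.symm z : L) : K) * s⁻¹ → y = z := fun y z h =>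
      f.symm.injective (Subtype.ext (mul_left_cancel (mul_right_cancel h)))
    have hone : s * ((f.symm 1 : L) : K) * s⁻¹ = 1 := by rw [map_one, OneMemClass.coe_one, mul_one, mul_inv_cancel]
    obtain ⟨w, hw⟩ := dihedral_outer_conj D hD ((hmemD u').2 (hLn.conj_mem _ (f.symm u).2 s))
      ((hmemD v').2 (hLn.conj_mem _ (f.symm v).2 s))
      (by rw [← map_mul, show u' * u' = 1 from Subtype.ext (hconv u huu), map_one])
      (by rw [← map_mul, show v' * v' = 1 from Subtype.ext (hconv v hvv), map_one])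
      ((map_ne_one_iff e e.injective).2 fun h => by
        rw [show u = 1 from hinj u 1 ((congrArg Subtype.val h).trans hone.symm), orderOf_one] at hu; omega)
      ((map_ne_one_iff e e.injective).2 fun h => by
        rw [show v = 1 from hinj v 1 ((congrArg Subtype.val h).trans hone.symm), orderOf_one] at hv; omega)
      (fun h => hne (hinj u v (congrArg Subtype.val (e.injective h))))
      (a := e ⟨_, hpT⟩) (b := e ⟨_, hqT⟩) (fun h => hpL ((hmemD _).1 h)) (fun h => hqL ((hmemD _).1 h))
      (by rw [← map_mul, show (⟨_, hpT⟩ : (T : Subgroup K)) * ⟨_, hpT⟩ = 1 from Subtype.ext (by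
        show p * j * p⁻¹ * (p * j * p⁻¹) = 1
        rw [← Invol.orderOf_conj_eq p j] at hj
        exact Invol.mul_self_of_orderOf_two hj), map_one])
      (by rw [← map_mul, show (⟨_, hqT⟩ : (T : Subgroup K)) * ⟨_, hqT⟩ = 1 from Subtype.ext (by
        show q * (g * j * g⁻¹) * q⁻¹ * (q * (g * j * g⁻¹) * q⁻¹) = 1
        rw [← Invol.orderOf_conj_eq q (g * j * g⁻¹)] at hi2
        exact Invol.mul_self_of_orderOf_two hi2), map_one])
    have hwK : ((e.symm w : (T : Subgroup K)) : K) * (p * j * p⁻¹) * ((e.symm w : (T : Subgroup K)) : K)⁻¹ =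
        q * (g * j * g⁻¹) * q⁻¹ := by
      have := congrArg (fun b => ((e.symm b : (T : Subgroup K)) : K)) hw
      simpa using this
    refine ⟨q⁻¹ * (e.symm w : (T : Subgroup K)) * p, mul_mem (mul_mem (inv_mem hq) (hTP (e.symm w).2)) hp, ?_⟩
    calc q⁻¹ * ((e.symm w : (T : Subgroup K)) : K) * p * j * (q⁻¹ * ((e.symm w : (T : Subgroup K)) : K) * p)⁻¹
        = q⁻¹ * (((e.symm w : (T : Subgroup K)) : K) * (p * j * p⁻¹) *
            ((e.symm w : (T : Subgroup K)) : K)⁻¹) * q := by group
      _ = q⁻¹ * (q * (g * j * g⁻¹) * q⁻¹) * q := by rw [hwK]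
      _ = g * j * g⁻¹ := by group
  let ε : K ≃* P := (Subgroup.topEquiv (G := K)).symm.trans (MulEquiv.subgroupCongr hPtop.symm)
  refine ⟨F, hF, hFf, h3, ?_⟩
  have hθr : ι.range ≤ θ.range := by
    rintro _ ⟨y, rfl⟩
    refine ⟨⟨(f.symm y : L), hLP (f.symm y).2⟩, pglAut_injective (F := F) ?_⟩
    rw [hΨθ, hΦL, f.apply_symm_apply]
  by_cases hsurj : θ.range = ⊤
  · exact Or.inr ⟨ε.trans (MulEquiv.ofBijective θ ⟨hθinj, MonoidHom.range_eq_top.1 hsurj⟩)⟩
  · have heq : θ.range = ι.range := by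
      refine le_antisymm (fun w hw => ?_) hθr
      by_contra hwι
      refine hsurj (eq_top_iff.2 fun y _ => ?_)
      by_cases hy : y ∈ ι.range
      · exact hθr hy
      · have h := hθr ((mul_mem_iff_of_index_two hindex).2 (iff_of_false hwι hy))
        exact (mul_mem_cancel_left hw).1 h
    exact Or.inl ⟨ε.trans ((MonoidHom.ofInjective hθinj).trans ((MulEquiv.subgroupCongr heq).trans
      (MonoidHom.ofInjective Matrix.ProjectiveSpecialLinearGroup.toPGL_injective).symm))⟩

/-- A group with dihedral Sylow 2-subgroups and a centralizer of an involution of this shape. -/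
theorem dihedral_case (hGW : GWStatement.{u}) {G : Type u} [Group G] [Finite G] (hns : ¬ Group.IsSolvable G)
    (T : Sylow 2 G) {n : ℕ} (e : (T : Subgroup G) ≃* DihedralGroup n) {j : G} (hj : orderOf j = 2)
    (hprod : InvolProd (centralizer ({j} : Set G))) (hcom : SqCommute (centralizer ({j} : Set G))) :
    ∃ (N : Subgroup G) (_ : N.Normal), Odd (Nat.card N) ∧ IsPSLOrPGL (G ⧸ N) := by
  haveI : Fact (Nat.Prime 2) := ⟨Nat.prime_two⟩
  obtain ⟨m, rfl⟩ := exists_two_pow T.isPGroup' e
  haveI hn : (Cfsg.oddCore G).Normal := Grp.pPrimeCore_isNormal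
  have hcop : (Nat.card (Cfsg.oddCore G)).Coprime 2 := Grp.pPrimeCore_coprime
  have hodd : Odd (Nat.card (Cfsg.oddCore G)) := Nat.coprime_two_right.1 hcop
  refine ⟨Cfsg.oddCore G, hn, hodd, ?_⟩
  have hQ : ¬ Group.IsSolvable (G ⧸ Cfsg.oddCore G) := fun h => hns
    ((Group.isSolvable_iff_subgroup_quotient (Cfsg.oddCore G)).2 ⟨Cfsg.Agent.S0205.result hodd, h⟩)
  obtain ⟨eT⟩ := sylow_mapSurjective_equiv T (Cfsg.oddCore G) hcop
  have hC := centralizer_involution_quotient (Cfsg.oddCore G) hodd hj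
  have hj2 : orderOf (QuotientGroup.mk' (Cfsg.oddCore G) j) = 2 := by
    refine orderOf_eq_prime (by rw [← map_pow, ← hj, pow_orderOf_eq_one, map_one]) fun h => ?_
    have h1 := Subgroup.orderOf_dvd_natCard _ ((QuotientGroup.eq_one_iff j).1 h)
    rw [hj] at h1
    exact Nat.not_even_iff_odd.2 hodd (even_iff_two_dvd.2 h1)
  refine dihedral_socle_case hGW Grp.pPrimeCore_quotient_eq_bot hQ
    (T.mapSurjective (QuotientGroup.mk'_surjective _)) (eT.symm.trans e) hj2 ?_ ?_
  · rw [InvolProd, hC]; exact hprod.map _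
  · rw [SqCommute, hC]; exact hcom.map _

end Cfsg.Agent.Invol.GW
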