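import Cfsg.Agent.Lib.Invol.GW.Consumers.DGroupDihedral
import Cfsg.Agent.Lib.Grp.Frattini

/-!
# D-groups and their Sylow 2-subgroups (for S3322)
-/

set_option autoImplicit false
set_option linter.style.haveILetI false

namespace Cfsg.Agent.Invol.GW

open Subgroup

universe u

/-- A D-group `H` that is not elementary abelian, with `H` the centralizer of the involutions of `A`. -/
structure DData {G : Type u} [Group G] (H A : Subgroup G) : Prop where
  le : A ≤ H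
  comm : ∀ a ∈ A, ∀ b ∈ A, a * b = b * a
  out_sq : ∀ x ∈ H, x ∉ A → x * x = 1
  inv : ∀ x ∈ H, x ∉ A → ∀ a ∈ A, x * a * x⁻¹ = a⁻¹
  out_mul : ∀ x ∈ H, x ∉ A → ∀ y ∈ H, y ∉ A → x * y ∈ A
  out : ∃ x ∈ H, x ∉ A
  exp : ∃ a ∈ A, a * a ≠ 1
  cent : ∀ i ∈ A, orderOf i = 2 → centralizer ({i} : Set G) = H

/-- A D-group is elementary abelian or has the standard shape. -/
theorem dgroup_cases {G : Type u} [Group G] {H A : Subgroup G} (hAH : A < H)
    (hD : ∀ x ∈ H, x ∉ A → x ^ 2 = 1)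
    (hC : ∀ j ∈ H, orderOf j = 2 → (∀ h ∈ H, h * j = j * h) → centralizer ({j} : Set G) = H) :
    (∀ x ∈ H, x * x = 1) ∨ DData H A := by
  have hsq : ∀ x ∈ H, x ∉ A → x * x = 1 := fun x hx hxA => by rw [← pow_two]; exact hD x hx hxA
  have hinv : ∀ x ∈ H, x ∉ A → ∀ a ∈ A, x * a * x⁻¹ = a⁻¹ := by
    intro x hx hxA a ha
    have h1 := hsq (x * a) (H.mul_mem hx (hAH.le ha)) fun h => hxA ((A.mul_mem_cancel_right ha).1 h)
    rw [inv_eq_of_mul_eq_one_right (hsq x hx hxA)]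
    exact eq_inv_of_mul_eq_one_left (by rw [← h1]; group)
  obtain ⟨x₀, hx₀, hx₀A⟩ := SetLike.exists_of_lt hAH
  have hcomm : ∀ a ∈ A, ∀ b ∈ A, a * b = b * a := by
    intro a ha b hb
    have h1 := hinv x₀ hx₀ hx₀A _ (A.mul_mem ha hb)
    have h2 : x₀ * (a * b) * x₀⁻¹ = a⁻¹ * b⁻¹ := by
      rw [← hinv x₀ hx₀ hx₀A a ha, ← hinv x₀ hx₀ hx₀A b hb]; group
    rw [h2, ← mul_inv_rev, inv_inj] at h1
    exact h1.symm
  by_cases hexp : ∀ a ∈ A, a * a = 1
  · exact Or.inl fun x hx => (em (x ∈ A)).elim (hexp x) (hsq x hx)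
  push Not at hexp
  refine Or.inr ⟨hAH.le, hcomm, hsq, hinv, fun x hx hxA y hy hyA => ?_, ⟨x₀, hx₀, hx₀A⟩, hexp, fun i hi hi2 => ?_⟩
  · by_contra hxy
    obtain ⟨a, ha, ha2⟩ := hexp
    have h1 := hinv (x * y) (H.mul_mem hx hy) hxy a ha
    rw [show x * y * a * (x * y)⁻¹ = x * (y * a * y⁻¹) * x⁻¹ by group, hinv y hy hyA a ha,
      hinv x hx hxA _ (A.inv_mem ha), inv_inv] at h1
    exact ha2 (mul_eq_one_iff_eq_inv.2 h1)
  · refine hC i (hAH.le hi) hi2 fun h hh => ?_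
    by_cases hhA : h ∈ A
    · exact hcomm h hhA i hi
    · have h1 := hinv h hh hhA i hi
      rw [Invol.inv_of_orderOf_two hi2] at h1
      exact mul_inv_eq_iff_eq_mul.1 h1

variable {G : Type u} [Group G] {H A : Subgroup G} (d : DData H A)
include d

theorem DData.central {i : G} (hi : i ∈ A) (hi2 : orderOf i = 2) : ∀ h ∈ H, h * i = i * h := fun h hh =>
  mem_centralizer_singleton_iff.1 ((d.cent i hi hi2).symm ▸ hh)

theorem DData.not_central {x : G} (hx : x ∈ H) (hxA : x ∉ A) : ¬ ∀ a ∈ A, x * a = a * x := fun h => by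
  obtain ⟨a, ha, ha2⟩ := d.exp
  have h1 := d.inv x hx hxA a ha
  rw [h a ha, mul_inv_cancel_right] at h1
  exact ha2 (mul_eq_one_iff_eq_inv.2 h1)

/-- Every element is a product of two with trivial squares. -/
theorem DData.involProd : InvolProd H := by
  intro h hh
  obtain ⟨x, hx, hxA⟩ := d.out
  by_cases hhA : h ∈ A
  · have hxh : x * h ∈ H := H.mul_mem hx hh
    refine ⟨x, hx, x * h, hxh, d.out_sq x hx hxA,
      d.out_sq _ hxh fun h' => hxA ((A.mul_mem_cancel_right hhA).1 h'), ?_⟩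
    rw [← mul_assoc, d.out_sq x hx hxA, one_mul]
  · exact ⟨h, hh, 1, H.one_mem, d.out_sq h hh hhA, one_mul 1, (mul_one h).symm⟩

theorem DData.sqCommute : SqCommute H := fun u hu v hv hu2 hv2 =>
  d.comm u (by_contra fun h => hu2 (d.out_sq u hu h)) v (by_contra fun h => hv2 (d.out_sq v hv h))

/-- Elements carrying two involutions of `A` into `H` normalize `H`. -/
theorem DData.conj_mem {g i₁ i₂ : G} (h₁ : i₁ ∈ A) (h₁2 : orderOf i₁ = 2) (h₂ : i₂ ∈ A) (h₂2 : orderOf i₂ = 2)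
    (hne : i₁ ≠ i₂) (hg₁ : g * i₁ * g⁻¹ ∈ H) (hg₂ : g * i₂ * g⁻¹ ∈ H) :
    ∀ h : G, h ∈ H ↔ g * h * g⁻¹ ∈ H := by
  have h12 : orderOf (i₁ * i₂) = 2 := Invol.orderOf_two_iff.2 ⟨by
    calc i₁ * i₂ * (i₁ * i₂) = i₁ * (i₂ * i₁) * i₂ := by group
      _ = (i₁ * i₁) * (i₂ * i₂) := by rw [d.comm i₂ h₂ i₁ h₁]; group
      _ = 1 := by rw [Invol.mul_self_of_orderOf_two h₁2, Invol.mul_self_of_orderOf_two h₂2, one_mul],
    fun h => hne (by rw [mul_eq_one_iff_eq_inv.1 h, Invol.inv_of_orderOf_two h₂2])⟩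
  obtain ⟨e, heA, he, hge⟩ : ∃ e ∈ A, orderOf e = 2 ∧ g * e * g⁻¹ ∈ A := by
    by_cases ha : g * i₁ * g⁻¹ ∈ A
    · exact ⟨i₁, h₁, h₁2, ha⟩
    by_cases hb : g * i₂ * g⁻¹ ∈ A
    · exact ⟨i₂, h₂, h₂2, hb⟩
    refine ⟨i₁ * i₂, A.mul_mem h₁ h₂, h12, ?_⟩
    have := d.out_mul _ hg₁ ha _ hg₂ hb
    rwa [show g * i₁ * g⁻¹ * (g * i₂ * g⁻¹) = g * (i₁ * i₂) * g⁻¹ by group] at this
  intro h
  rw [← d.cent e heA he]
  conv_rhs => rw [d.cent e heA he, ← d.cent _ hge (by rw [Invol.orderOf_conj_eq, he])]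
  rw [mem_centralizer_singleton_iff, mem_centralizer_singleton_iff]
  constructor
  · intro hh
    calc g * h * g⁻¹ * (g * e * g⁻¹) = g * (h * e) * g⁻¹ := by group
      _ = g * (e * h) * g⁻¹ := by rw [hh]
      _ = g * e * g⁻¹ * (g * h * g⁻¹) := by group
  · intro hh
    calc h * e = g⁻¹ * (g * h * g⁻¹ * (g * e * g⁻¹)) * g := by group
      _ = g⁻¹ * (g * e * g⁻¹ * (g * h * g⁻¹)) * g := by rw [hh]
      _ = e * h := by group

/-- With two involutions in `A`, none of them is fused to an element outside. -/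
theorem DData.not_fused {i₁ i₂ : G} (h₁ : i₁ ∈ A) (h₁2 : orderOf i₁ = 2) (h₂ : i₂ ∈ A) (h₂2 : orderOf i₂ = 2)
    (hne : i₁ ≠ i₂) {i : G} (hi : i ∈ A) (hi2 : orderOf i = 2) {x : G} (hx : x ∈ H) (hxA : x ∉ A) (g : G) :
    g * i * g⁻¹ ≠ x := by
  intro hgx
  have key : ∀ e : G, e ∈ A → orderOf e = 2 → g⁻¹ * e * g⁻¹⁻¹ ∈ H := by
    intro e he he2
    rw [← d.cent i hi hi2, mem_centralizer_singleton_iff]
    have hxe : x * e = e * x := d.central he he2 x hx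
    rw [← hgx] at hxe
    calc g⁻¹ * e * g⁻¹⁻¹ * i = g⁻¹ * (e * (g * i * g⁻¹)) * g := by group
      _ = g⁻¹ * ((g * i * g⁻¹) * e) * g := by rw [hxe]
      _ = i * (g⁻¹ * e * g⁻¹⁻¹) := by group
  have hH := d.conj_mem h₁ h₁2 h₂ h₂2 hne (key i₁ h₁ h₁2) (key i₂ h₂ h₂2)
  refine d.not_central hx hxA fun a ha => ?_
  have h1 := mem_centralizer_singleton_iff.1 ((d.cent i hi hi2).symm ▸ ((hH a).1 (d.le ha)) :
    g⁻¹ * a * g⁻¹⁻¹ ∈ centralizer ({i} : Set G))
  rw [← hgx]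
  calc g * i * g⁻¹ * a = g * (i * (g⁻¹ * a * g⁻¹⁻¹)) * g⁻¹ := by group
    _ = g * (g⁻¹ * a * g⁻¹⁻¹ * i) * g⁻¹ := by rw [h1]
    _ = a * (g * i * g⁻¹) := by group

variable [Finite G]

/-- A Sylow subgroup of `G` whose intersection with `H` is a Sylow subgroup of `H`. -/
theorem DData.exists_sylow (h4 : 4 ∣ Nat.card H) :
    ∃ T : Sylow 2 G, (∃ x, x ∈ (T : Subgroup G) ∧ x ∈ H ∧ x ∉ A) ∧
      (∀ i ∈ A, orderOf i = 2 → i ∈ (T : Subgroup G)) ∧ ¬ 2 ∣ ((T : Subgroup G) ⊓ H).relIndex H ∧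
      ∃ i ∈ A, orderOf i = 2 := by
  haveI : Fact (Nat.Prime 2) := ⟨Nat.prime_two⟩
  obtain ⟨x, hx, hxA⟩ := d.out
  have hx2 : orderOf x = 2 := orderOf_eq_prime (by rw [pow_two, d.out_sq x hx hxA]) fun h => hxA (h ▸ A.one_mem)
  obtain ⟨P, hP⟩ := (IsPGroup.of_card (n := 1) (by rw [Nat.card_zpowers, Subgroup.orderOf_mk, hx2, pow_one]) :
    IsPGroup 2 (zpowers (⟨x, hx⟩ : H))).exists_le_sylow
  obtain ⟨T, hT⟩ := (P.isPGroup'.map H.subtype).exists_le_sylow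
  have hPT : (P : Subgroup H) = (T : Subgroup G).subgroupOf H := by
    refine (P.is_maximal' ?_ fun w hw => hT ⟨w, hw, rfl⟩).symm
    exact T.isPGroup'.comap_subtype
  have hidx : ¬ 2 ∣ ((T : Subgroup G) ⊓ H).relIndex H := by
    rw [inf_relIndex_right]
    show ¬ 2 ∣ ((T : Subgroup G).subgroupOf H).index
    rw [← hPT]
    exact P.not_dvd_index
  have hiT : ∀ i ∈ A, orderOf i = 2 → i ∈ (T : Subgroup G) := by
    intro i hi hi2
    let Z : Subgroup H := zpowers ⟨i, d.le hi⟩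
    have hZc : Z ≤ center H := zpowers_le.2 (mem_center_iff.2 fun h => Subtype.ext (d.central hi hi2 h h.2))
    have hp : IsPGroup 2 ((P : Subgroup H) ⊔ Z : Subgroup H) := P.isPGroup'.to_sup_of_normal_right'
      (IsPGroup.of_card (n := 1) (by rw [Nat.card_zpowers, Subgroup.orderOf_mk, hi2, pow_one]))
      (le_trans (fun w _ => mem_centralizer_iff.2 fun v hv => (mem_center_iff.1 (hZc hv) w).symm)
        (centralizer_le_normalizer _))
    have := (P.is_maximal' hp le_sup_left).le (le_sup_right (a := (P : Subgroup H)) (mem_zpowers _))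
    exact hT ⟨_, this, rfl⟩
  refine ⟨T, ⟨x, hT ⟨_, hP (mem_zpowers _), rfl⟩, hx, hxA⟩, hiT, hidx, ?_⟩
  -- an involution in `A`
  have hxP : (⟨x, hx⟩ : H) ∈ (P : Subgroup H) := hP (mem_zpowers _)
  have h4P : 4 ∣ Nat.card (P : Subgroup H) := by
    have h1 := (P : Subgroup H).card_mul_index
    exact (Nat.Coprime.pow_left 2 ((Nat.prime_two.coprime_iff_not_dvd).2 P.not_dvd_index)).dvd_of_dvd_mul_right
      (h1 ▸ h4)
  obtain ⟨y, hyP, hy⟩ : ∃ y ∈ (P : Subgroup H), y ∉ zpowers (⟨x, hx⟩ : H) := by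
    by_contra hno
    push Not at hno
    have := Subgroup.card_le_of_le (H := (P : Subgroup H)) hno
    rw [Nat.card_zpowers, Subgroup.orderOf_mk, hx2] at this
    have := Nat.le_of_dvd Nat.card_pos h4P
    omega
  obtain ⟨w, hwP, hwA, hw1⟩ : ∃ w ∈ (P : Subgroup H), (w : G) ∈ A ∧ w ≠ 1 := by
    by_cases hyA : (y : G) ∈ A
    · exact ⟨y, hyP, hyA, fun h => hy (h ▸ one_mem _)⟩
    · refine ⟨⟨x, hx⟩ * y, mul_mem hxP hyP, d.out_mul x hx hxA y y.2 hyA, fun h => hy ?_⟩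
      rw [← inv_eq_of_mul_eq_one_right h]
      exact inv_mem (mem_zpowers _)
  obtain ⟨k, hk⟩ := IsPGroup.iff_orderOf.1 P.isPGroup' ⟨w, hwP⟩
  rw [Subgroup.orderOf_mk] at hk
  have h2 : 2 ∣ orderOf (w : G) := by
    rw [Subgroup.orderOf_coe, hk]
    refine dvd_pow_self 2 fun h => hw1 (orderOf_eq_one_iff.1 ?_)
    rw [hk, h, pow_zero]
  exact ⟨(w : G) ^ (orderOf (w : G) / 2), pow_mem hwA _, orderOf_pow_orderOf_div (orderOf_pos _).ne' h2⟩

/-- If the normalizer fixes the set of involutions of `A`, a Sylow subgroup of `H` is one of `G`. -/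
theorem DData.sylow_le (T : Sylow 2 G) (hiT : ∀ i ∈ A, orderOf i = 2 → i ∈ (T : Subgroup G))
    (hex : ∃ i ∈ A, orderOf i = 2)
    (hE : ∀ g ∈ (T : Subgroup G), (∀ w ∈ (T : Subgroup G), w ∈ H → g * w * g⁻¹ ∈ H) →
      ∀ i ∈ A, orderOf i = 2 → g * i * g⁻¹ ∈ A) : (T : Subgroup G) ≤ H := by
  haveI : Fact (Nat.Prime 2) := ⟨Nat.prime_two⟩
  haveI := T.isPGroup'.isNilpotent
  let D : Subgroup (T : Subgroup G) := H.subgroupOf (T : Subgroup G)
  suffices hD : normalizer (D : Set (T : Subgroup G)) ≤ D by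
    have htop : D = ⊤ := by
      by_contra hne
      exact not_le_of_gt (Group.normalizerCondition_of_isNilpotent D (lt_top_iff_ne_top.2 hne)) hD
    exact fun t ht => mem_subgroupOf.1 (htop ▸ mem_top (⟨t, ht⟩ : (T : Subgroup G)) :
      (⟨t, ht⟩ : (T : Subgroup G)) ∈ D)
  let U : Subgroup (T : Subgroup G) := normalizer (D : Set (T : Subgroup G))
  haveI : Group.IsNilpotent U := (T.isPGroup'.to_subgroup U).isNilpotent
  let E : Subgroup U :=
    { carrier := {u | ((u : (T : Subgroup G)) : G) ∈ A ∧ ((u : (T : Subgroup G)) : G) * ((u : (T : Subgroup G)) : G) = 1}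
      one_mem' := ⟨A.one_mem, one_mul 1⟩
      mul_mem' := by
        rintro a b ⟨ha, ha2⟩ ⟨hb, hb2⟩
        refine ⟨A.mul_mem ha hb, ?_⟩
        show ((a : (T : Subgroup G)) : G) * b * (((a : (T : Subgroup G)) : G) * b) = 1
        calc ((a : (T : Subgroup G)) : G) * b * (((a : (T : Subgroup G)) : G) * b)
            = (a : (T : Subgroup G)) * ((((b : (T : Subgroup G)) : G)) * (a : (T : Subgroup G))) * b := by group
          _ = (((a : (T : Subgroup G)) : G) * a) * (((b : (T : Subgroup G)) : G) * b) := by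
              rw [d.comm _ hb _ ha]; group
          _ = 1 := by rw [ha2, hb2, one_mul]
      inv_mem' := by
        rintro a ⟨ha, ha2⟩
        refine ⟨A.inv_mem ha, ?_⟩
        show ((a : (T : Subgroup G)) : G)⁻¹ * ((a : (T : Subgroup G)) : G)⁻¹ = 1
        rw [← mul_inv_rev, ha2, inv_one] }
  haveI : E.Normal := ⟨fun e he u => by
    refine ⟨?_, ?_⟩
    · show ((u : (T : Subgroup G)) : G) * e * ((u : (T : Subgroup G)) : G)⁻¹ ∈ A
      by_cases h1 : ((e : (T : Subgroup G)) : G) = 1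
      · rw [h1, mul_one, mul_inv_cancel]; exact A.one_mem
      refine hE _ (u : (T : Subgroup G)).2 (fun w hw hwH => ?_) _ he.1 (Invol.orderOf_two_iff.2 ⟨he.2, h1⟩)
      exact (mem_subgroupOf.1 ((mem_normalizer_iff.1 u.2 ⟨w, hw⟩).1 hwH) :)
    · show ((u : (T : Subgroup G)) : G) * e * ((u : (T : Subgroup G)) : G)⁻¹ *
        (((u : (T : Subgroup G)) : G) * e * ((u : (T : Subgroup G)) : G)⁻¹) = 1
      calc _ = ((u : (T : Subgroup G)) : G) * (((e : (T : Subgroup G)) : G) * e) * ((u : (T : Subgroup G)) : G)⁻¹ := by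
            group
        _ = 1 := by rw [he.2, mul_one, mul_inv_cancel]⟩
  obtain ⟨i, hiA, hi⟩ := hex
  have hiU : (⟨i, hiT i hiA hi⟩ : (T : Subgroup G)) ∈ U := le_normalizer (mem_subgroupOf.2 (d.le hiA))
  have hne : E ≠ ⊥ := fun h => by
    have hm : (⟨⟨i, hiT i hiA hi⟩, hiU⟩ : U) ∈ E := ⟨hiA, Invol.mul_self_of_orderOf_two hi⟩
    rw [h, mem_bot] at hm
    rw [show i = 1 from congrArg (fun u : U => ((u : (T : Subgroup G)) : G)) hm, orderOf_one] at hi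
    omega
  obtain ⟨e, he, he1⟩ := (Subgroup.bot_or_exists_ne_one _).resolve_left (Grp.inf_center_ne_bot E hne)
  have he2 : orderOf ((e : (T : Subgroup G)) : G) = 2 :=
    Invol.orderOf_two_iff.2 ⟨he.1.2, fun h => he1 (Subtype.ext (Subtype.ext h))⟩
  intro u hu
  have hu' : (u : G) ∈ centralizer ({((e : (T : Subgroup G)) : G)} : Set G) :=
    mem_centralizer_singleton_iff.2 (congrArg (fun w : U => ((w : (T : Subgroup G)) : G))
      (mem_center_iff.1 he.2 ⟨u, hu⟩))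
  rw [d.cent _ he.1.1 he2] at hu'
  exact mem_subgroupOf.2 hu'

end Cfsg.Agent.Invol.GW
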