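import Cfsg.Agent.Lib.Transfer.HalfClasses
import Cfsg.Agent.Lib.Invol.GW.Consumers.HallNumbers
import Cfsg.Agent.Lib.Grp.Solvable

/-!
# Exactly half as many classes of 2-elements as elements of a Sylow 2-subgroup, given S0483 (for S3896)
-/

set_option autoImplicit false
set_option linter.style.haveILetI false

namespace Cfsg.Agent.Invol.GW.Half

open Subgroup Transfer.SmallTwo
open scoped commutatorElement Pointwise

universe u

variable {G : Type u} [Group G] [Finite G]

/-- A normal subgroup above the derived group, of 2-power index, with the same 2-part as the derived group. -/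
theorem exists_odd_over_commutator (h8 : ¬ 8 ∣ Nat.card (commutator G)) :
    ∃ K : Subgroup G, K.Normal ∧ commutator G ≤ K ∧ (∀ g : G, ∃ n : ℕ, g ^ 2 ^ n ∈ K) ∧
      ¬ 8 ∣ Nat.card K := by
  haveI : Fact (Nat.Prime 2) := ⟨Nat.prime_two⟩
  set m := Nat.card (Abelianization G) / 2 ^ (Nat.card (Abelianization G)).factorization 2 with hm
  have hm2 : Nat.Coprime 8 m := by
    have := (Nat.coprime_ordCompl Nat.prime_two (Nat.card_pos (α := Abelianization G)).ne').pow_left 3
    exact this
  set φ : G →* Abelianization G := (powMonoidHom m).comp Abelianization.of with hφ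
  refine ⟨φ.ker, inferInstance, Abelianization.commutator_subset_ker φ, fun g => ?_, fun h => h8 ?_⟩
  · refine ⟨(Nat.card (Abelianization G)).factorization 2, ?_⟩
    rw [MonoidHom.mem_ker, map_pow]
    show (Abelianization.of g ^ m) ^ _ = 1
    rw [← pow_mul, mul_comm, hm, Nat.mul_div_cancel' (Nat.ordProj_dvd _ _)]
    exact pow_card_eq_one'
  · obtain ⟨S, hS⟩ := Sylow.exists_subgroup_card_pow_prime 2 (n := 3) (G := φ.ker) (by simpa using h)
    have hle : S.map φ.ker.subtype ≤ commutator G := by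
      rintro _ ⟨x, hx, rfl⟩
      have h1 : Abelianization.of (x : G) ^ m = 1 := x.2
      have h2 : orderOf (Abelianization.of (x : G)) ∣ 8 := by
        refine (orderOf_map_dvd _ _).trans ?_
        rw [Subgroup.orderOf_coe]
        exact (Subgroup.orderOf_mk x hx ▸ orderOf_dvd_natCard (⟨x, hx⟩ : S)).trans (by rw [hS]; norm_num)
      exact (QuotientGroup.eq_one_iff _).mp
        (orderOf_eq_one_iff.mp (Nat.eq_one_of_dvd_coprimes hm2 h2 (orderOf_dvd_of_pow_eq_one h1)))
    have := Subgroup.card_dvd_of_le hle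
    rwa [Subgroup.card_map_of_injective φ.ker.subtype_injective, hS] at this

/-- Without a normal 2-complement the group is not a 2-group, so neither is `K`. -/
theorem not_isPGroup (P : Sylow 2 G)
    (hk : 2 * Nat.card (Grp.PClass 2 G) = Nat.card (P : Subgroup G)) {K : Subgroup G} [K.Normal]
    (hKq : ∀ g : G, ∃ n : ℕ, g ^ 2 ^ n ∈ K) : ¬ IsPGroup 2 K := by
  intro hK
  obtain ⟨P', Q, h, M, -, -⟩ := Transfer.HalfClasses.exists_mover P hk
  obtain ⟨a, ha⟩ := hKq h
  obtain ⟨b, hb⟩ := hK ⟨_, ha⟩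
  have hb' : (h ^ 2 ^ a) ^ 2 ^ b = 1 := congrArg Subtype.val hb
  rw [← pow_mul, ← pow_add] at hb'
  have h1 := Nat.eq_one_of_dvd_coprimes ((Nat.coprime_two_right.2 M.odd).pow_right (a + b))
    dvd_rfl (orderOf_dvd_of_pow_eq_one hb')
  obtain ⟨q, -, hne⟩ := M.moved
  exact hne (by rw [orderOf_eq_one_iff.mp h1, one_mul, mul_one])

theorem mul_comm_of_inf_eq_bot {A B : Subgroup G} [A.Normal] [B.Normal] (h : A ⊓ B = ⊥) :
    ∀ a ∈ A, ∀ b ∈ B, a * b = b * a := fun a ha b hb => by
  have : ⁅a, b⁆ ∈ A ⊓ B := Subgroup.commutator_le_inf A B (commutator_mem_commutator ha hb)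
  rw [h, mem_bot] at this
  exact commutatorElement_eq_one_iff_mul_comm.mp this

/-- The non-solvable case. -/
theorem nonsolvable_case (hGW : GWStatement.{u}) (hO : Cfsg.pPrimeCore 2 G = ⊥) (K : Subgroup G) [K.Normal]
    (hKc : commutator G ≤ K) (hK8 : ¬ 8 ∣ Nat.card K) (hns : ¬ Group.IsSolvable K) :
    ∃ S : Subgroup (G ⧸ center G), S.Normal ∧ IsSimpleGroup S ∧ ¬ IsMulCommutative S ∧
      centralizer (S : Set (G ⧸ center G)) = ⊥ ∧
      ∃ (F : Type) (_ : Field F) (_ : Fintype F), 3 < Fintype.card F ∧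
        (Fintype.card F % 8 = 3 ∨ Fintype.card F % 8 = 5) ∧
        Nonempty (S ≃* Matrix.ProjectiveSpecialLinearGroup (Fin 2) F) := by
  haveI : Fact (Nat.Prime 2) := ⟨Nat.prime_two⟩
  have h4 : 4 ∣ Nat.card K := by_contra fun h => hns (isSolvable_of_not_four h)
  obtain ⟨T⟩ : Nonempty (Sylow 2 K) := inferInstance
  obtain ⟨-, -, hkl⟩ := sylow_four_facts hns h4 hK8 T
  haveI := hkl
  obtain ⟨eT⟩ := HallNumbers.dihedral_of_klein (T := (T : Subgroup K))
  have hKO : Cfsg.oddCore K = ⊥ := (Subgroup.map_eq_bot_iff_of_injective _ K.subtype_injective).1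
    (eq_bot_iff.2 ((Grp.pPrimeCore_map_eq K).le.trans (inf_le_left.trans hO.le)))
  obtain ⟨L, hLn, hLm, hLC⟩ := exists_socle hGW hKO hns T eT
  haveI := hLn
  haveI hLs := isSimple_of_model hLm
  obtain ⟨F, hF, hFf, hFo, hF3, ⟨f⟩⟩ : ∃ (F : Type) (_ : Field F) (_ : Fintype F), Odd (Fintype.card F) ∧
      3 < Fintype.card F ∧ Nonempty (L ≃* Matrix.ProjectiveSpecialLinearGroup (Fin 2) F) := by
    rcases hLm with h | ⟨⟨f⟩⟩
    · exact h
    · refine absurd (Dvd.dvd.trans ?_ (Subgroup.card_subgroup_dvd_card L)) hK8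
      rw [Nat.card_congr f.toEquiv, nat_card_alternatingGroup, Nat.card_eq_fintype_card, Fintype.card_fin]
      decide
  have hmod := Klein.PSL.mod_eight hFo fun h =>
    hK8 (((Nat.card_congr f.toEquiv).symm ▸ h : 8 ∣ Nat.card L).trans (Subgroup.card_subgroup_dvd_card L))
  set Lg := L.map K.subtype with hLg
  have hLne : L ≠ ⊥ := (Subgroup.nontrivial_iff_ne_bot L).mp inferInstance
  haveI hLgn : Lg.Normal := by
    refine ⟨fun x hx g => ?_⟩
    set L' := L.map (MulAut.conjNormal g : MulAut K).toMonoidHom with hL'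
    haveI : L'.Normal := hLn.map _ (MulAut.conjNormal g : MulAut K).surjective
    have hle : L ≤ L' := by
      have hn : ((L' ⊓ L).subgroupOf L).Normal := inferInstance
      rcases hn.eq_bot_or_eq_top with e | e
      · exfalso
        have hb : L' ⊓ L = ⊥ := by
          rw [subgroupOf_eq_bot, disjoint_iff, inf_assoc, inf_idem] at e
          exact e
        refine hLne ((Subgroup.map_eq_bot_iff_of_injective (f := (MulAut.conjNormal g : MulAut K).toMonoidHom) L
          (MulAut.conjNormal g : MulAut K).injective).mp ?_)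
        rw [← le_bot_iff, ← hLC]
        intro a ha
        exact mem_centralizer_iff.2 fun l hl => (mul_comm_of_inf_eq_bot hb a ha l hl).symm
      · exact (subgroupOf_eq_top.mp e).trans inf_le_left
    have heq : L = L' := eq_of_le_of_card_ge hle (Subgroup.card_map_of_injective
      (MulAut.conjNormal g : MulAut K).injective).le
    obtain ⟨l, hl, rfl⟩ := hx
    have hm : (MulAut.conjNormal g l : K) ∈ L := heq.symm ▸ mem_map_of_mem _ hl
    exact ⟨_, hm, MulAut.conjNormal_apply g l⟩
  set C := centralizer (Lg : Set G) with hC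
  have hCK : ∀ x ∈ C, x ∈ K → x = 1 := fun x hx hxK => by
    have : (⟨x, hxK⟩ : K) ∈ centralizer (L : Set K) := mem_centralizer_iff.2 fun l hl =>
      Subtype.ext (mem_centralizer_iff.1 hx _ (mem_map_of_mem _ hl))
    rw [hLC, mem_bot] at this
    exact congrArg Subtype.val this
  have hCZ : C ≤ center G := fun c hc => mem_center_iff.2 fun g =>
    (commutatorElement_eq_one_iff_mul_comm.1 (hCK ⁅c, g⁆
      (by
        rw [commutatorElement_def, mul_assoc c, mul_assoc c]
        exact mul_mem hc ((inferInstance : C.Normal).conj_mem _ (inv_mem hc) g))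
      (hKc (commutator_mem_commutator (mem_top c) (mem_top g))))).symm
  have hLZ : ∀ x ∈ Lg, x ∈ center G → x = 1 := fun x hx hxZ =>
    hCK x (mem_centralizer_iff.2 fun l _ => mem_center_iff.1 hxZ l) (map_subtype_le _ hx)
  set π := QuotientGroup.mk' (center G) with hπ
  let ψ : L →* G ⧸ center G := π.comp (K.subtype.comp L.subtype)
  have hψ : Function.Injective ψ := by
    refine (MonoidHom.ker_eq_bot_iff ψ).mp (eq_bot_iff.2 fun l hl => ?_)
    have h1 := hLZ _ (mem_map_of_mem _ l.2) ((QuotientGroup.eq_one_iff _).mp hl)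
    exact mem_bot.2 (Subtype.ext (Subtype.ext h1))
  have hrange : ψ.range = Lg.map π := by
    rw [MonoidHom.range_eq_map, ← Subgroup.map_map, ← Subgroup.map_map, ← MonoidHom.range_eq_map,
      Subgroup.range_subtype]
  let e : Lg.map π ≃* L := (MulEquiv.subgroupCongr hrange.symm).trans (MonoidHom.ofInjective hψ).symm
  refine ⟨Lg.map π, hLgn.map _ (QuotientGroup.mk'_surjective _), e.isSimpleGroup, ?_, ?_, F, hF, hFf, hF3,
    hmod, ⟨e.trans f⟩⟩
  · intro hc
    refine HallNumbers.psl_not_solvable (by omega) f (Group.isSolvable_of_comm fun a b => e.symm.injective ?_)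
    rw [map_mul, map_mul]
    exact hc.is_comm.comm _ _
  · refine eq_bot_iff.2 fun q hq => ?_
    obtain ⟨x, rfl⟩ := QuotientGroup.mk_surjective q
    refine mem_bot.2 ((QuotientGroup.eq_one_iff _).2 (hCZ (mem_centralizer_iff.2 fun l hl => ?_)))
    have h1 : ⁅l, x⁆ ∈ center G := by
      rw [← QuotientGroup.eq_one_iff]
      show π ⁅l, x⁆ = 1
      rw [map_commutatorElement, commutatorElement_eq_one_iff_mul_comm]
      exact mem_centralizer_iff.1 hq _ (mem_map_of_mem π hl)
    refine commutatorElement_eq_one_iff_mul_comm.1 (hLZ _ ?_ h1)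
    rw [commutatorElement_def, mul_assoc l, mul_assoc l]
    exact mul_mem hl (hLgn.conj_mem _ (inv_mem hl) x)

/-- The solvable case: the normal subgroup is the alternating group of degree four. -/
theorem solvable_case (hO : Cfsg.pPrimeCore 2 G = ⊥) (K : Subgroup G) [K.Normal]
    (hKc : commutator G ≤ K) (hK8 : ¬ 8 ∣ Nat.card K) (hK : Group.IsSolvable K) (hK2 : ¬ IsPGroup 2 K) :
    Nonempty (G ⧸ center G ≃* ↥(alternatingGroup (Fin 4))) ∨
      Nonempty (G ⧸ center G ≃* Equiv.Perm (Fin 4)) := by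
  classical
  haveI : Fact (Nat.Prime 2) := ⟨Nat.prime_two⟩
  haveI : Fact (Nat.Prime 3) := ⟨Nat.prime_three⟩
  haveI := hK
  have hKO : Cfsg.pPrimeCore 2 K = ⊥ := (Subgroup.map_eq_bot_iff_of_injective _ K.subtype_injective).1
    (eq_bot_iff.2 ((Grp.pPrimeCore_map_eq K).le.trans (inf_le_left.trans hO.le)))
  set W := Cfsg.pCore 2 K with hW
  haveI hWn : W.Normal := Grp.pCore_isNormal
  have hCW : centralizer (W : Set K) ≤ W := Grp.centralizer_pCore_le hKO
  have hWp : IsPGroup 2 W := Grp.pCore_isPGroup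
  have hW4d : Nat.card W ∣ 4 := by
    obtain ⟨j, hj⟩ := IsPGroup.iff_card.1 hWp
    have hj2 : j ≤ 2 := by
      by_contra hlt
      refine hK8 (Dvd.dvd.trans ?_ (Subgroup.card_subgroup_dvd_card W))
      rw [hj]
      exact show 2 ^ 3 ∣ 2 ^ j from Nat.pow_dvd_pow 2 (by omega)
    rw [hj]
    exact show 2 ^ j ∣ 2 ^ 2 from Nat.pow_dvd_pow 2 hj2
  have hodd1 : ∀ x : K, Odd (orderOf x) → x ∈ centralizer (W : Set K) → x = 1 := fun x ho hx => by
    obtain ⟨k, hk⟩ := hWp ⟨x, hCW hx⟩
    exact orderOf_eq_one_iff.1 (Nat.eq_one_of_dvd_coprimes ((Nat.coprime_two_right.2 ho).pow_right k)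
      dvd_rfl (orderOf_dvd_of_pow_eq_one (congrArg Subtype.val hk)))
  have hnorm : ∀ x : K, x ∈ normalizer (W : Set K) := fun x => by rw [normalizer_eq_top]; exact mem_top x
  -- an element of odd order
  obtain ⟨g, hgo, hg1⟩ : ∃ g : K, Odd (orderOf g) ∧ g ≠ 1 := by
    by_contra hno
    push Not at hno
    refine hK2 fun x => ⟨(orderOf x).factorization 2, hno _ ?_⟩
    exact Odd.of_dvd_nat (Nat.odd_iff.mpr (Nat.two_dvd_ne_zero.mp
      (Nat.not_dvd_ordCompl Nat.prime_two (orderOf_pos x).ne')))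
      (orderOf_dvd_of_pow_eq_one (by
        rw [← pow_mul, Nat.mul_div_cancel' (Nat.ordProj_dvd _ _), pow_orderOf_eq_one]))
  have hW4 : Nat.card W = 4 := (mover_facts hW4d (hnorm g) hgo fun h => hg1 (hodd1 g hgo h)).1
  haveI : IsMulCommutative W := IsPGroup.isMulCommutative_of_card_eq_prime_sq (p := 2) (by rw [hW4]; rfl)
  have hCeq : centralizer (W : Set K) = W := le_antisymm hCW (le_centralizer_iff_isMulCommutative.2 inferInstance)
  have hg3 : g ^ 3 = 1 := hodd1 _ (hgo.of_dvd_nat (orderOf_pow_dvd 3)) (pow_three_centralizes hW4d (hnorm g) hgo)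
  have h3K : 3 ∣ Nat.card K := by
    rw [← orderOf_eq_prime hg3 hg1]
    exact orderOf_dvd_natCard g
  have hKcard : Nat.card K = 12 := by
    let f : K →* Equiv.Perm W := (MulAut.toPerm W).comp (MulAut.conjNormal (H := W))
    have hker : f.ker = W := by
      ext x
      rw [MonoidHom.mem_ker]
      constructor
      · intro hx
        refine hCW (mem_centralizer_iff.2 fun w hw => ?_)
        have h1 : ((MulAut.conjNormal x ⟨w, hw⟩ : W) : K) = w := congrArg Subtype.val (Equiv.congr_fun hx ⟨w, hw⟩)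
        rw [MulAut.conjNormal_apply] at h1
        exact (mul_inv_eq_iff_eq_mul.1 h1).symm
      · intro hx
        refine Equiv.ext fun w => Subtype.ext ?_
        show ((MulAut.conjNormal x w : W) : K) = (w : K)
        rw [MulAut.conjNormal_apply]
        exact mul_inv_eq_iff_eq_mul.2 (congrArg Subtype.val ((inferInstance : IsMulCommutative W).is_comm.comm ⟨x, hx⟩ w))
    have h1 := f.ker.card_mul_index
    rw [Subgroup.index_ker, hker, hW4] at h1
    have h2 : Nat.card f.range ∣ 24 := by
      have := Subgroup.card_subgroup_dvd_card f.range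
      rwa [Nat.card_perm, hW4, show Nat.factorial 4 = 24 from rfl] at this
    have h3 : ¬ 2 ∣ Nat.card f.range := fun h => hK8 (h1 ▸ Nat.mul_dvd_mul_left 4 h)
    have h4 : 3 ∣ Nat.card f.range :=
      (show Nat.Coprime 3 4 by norm_num).dvd_of_dvd_mul_left (h1 ▸ h3K)
    have h5 : Nat.card f.range ≤ 24 := Nat.le_of_dvd (by norm_num) h2
    interval_cases hc : Nat.card f.range <;> omega
  -- the four Sylow 3-subgroups
  have hR3 : ∀ R : Sylow 3 K, Nat.card (R : Subgroup K) = 3 := fun R => by
    rw [R.card_eq_multiplicity, hKcard, show (12 : ℕ) = 3 * 4 from rfl, Nat.factorization_mul (by norm_num) (by norm_num)]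
    rw [Finsupp.add_apply, Nat.Prime.factorization_self Nat.prime_three,
      Nat.factorization_eq_zero_of_not_dvd (by norm_num)]
    rfl
  obtain ⟨R₀⟩ : Nonempty (Sylow 3 K) := inferInstance
  have hn4 : Nat.card (Sylow 3 K) = 4 := by
    have h1 : Nat.card (Sylow 3 K) ∣ 4 := by
      have h1 := R₀.card_dvd_index
      have h2 := (R₀ : Subgroup K).card_mul_index
      rw [hR3, hKcard] at h2
      rwa [show (R₀ : Subgroup K).index = 4 by omega] at h1
    have h2 : Nat.card (Sylow 3 K) % 3 = 1 % 3 := card_sylow_modEq_one 3 K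
    obtain ⟨i, hi, he⟩ := (Nat.dvd_prime_pow Nat.prime_two).1 (show Nat.card (Sylow 3 K) ∣ 2 ^ 2 from h1)
    interval_cases i
    · exfalso
      haveI : Subsingleton (Sylow 3 K) := (Nat.card_eq_one_iff_unique.1 (by simpa using he)).1
      have h3 := Grp.le_pPrimeCore (p := 2) (Sylow.normal_of_subsingleton R₀) (by rw [hR3]; norm_num)
      rw [hKO, le_bot_iff] at h3
      have := hR3 R₀
      rw [h3, Subgroup.card_bot] at this
      omega
    · rw [he] at h2; norm_num at h2
    · simpa using he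
  have hself : ∀ R : Sylow 3 K, ∀ x : K, x • R = R → x ∈ (R : Subgroup K) := fun R x hx => by
    have h1 : x ∈ normalizer ((R : Subgroup K) : Set K) := Sylow.smul_eq_iff_mem_normalizer.1 hx
    have h2 := (normalizer ((R : Subgroup K) : Set K)).card_mul_index
    have h3 : (normalizer ((R : Subgroup K) : Set K)).index = 4 := by
      rw [← hn4]; exact (Sylow.card_eq_index_normalizer R).symm
    rw [h3, hKcard] at h2
    rw [Subgroup.eq_of_le_of_card_ge (le_normalizer (H := (R : Subgroup K))) (by rw [hR3]; omega)]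
    exact h1
  let ρ : G →* Equiv.Perm (Sylow 3 K) :=
    (MulAction.toPermHom (MulAut K) (Sylow 3 K)).comp (MulAut.conjNormal (H := K))
  have hρK : ∀ x : K, ρ x = 1 → x = 1 := fun x hx => by
    have h1 : ∀ R : Sylow 3 K, x ∈ (R : Subgroup K) := fun R => hself R x (by
      have h2 : (MulAut.conjNormal (H := K) (x : G) : MulAut K) • R = R := by
        have h3 := Equiv.congr_fun hx R
        exact h3
      rw [MulAut.conjNormal_val] at h2
      exact h2)
    by_contra hx1
    have h3 : ∀ R : Sylow 3 K, (R : Subgroup K) = zpowers x := fun R =>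
      (Subgroup.eq_of_le_of_card_ge (zpowers_le.2 (h1 R)) (by
        rw [hR3, Nat.card_zpowers]
        have hd : orderOf x ∣ 3 := hR3 R ▸ Subgroup.orderOf_dvd_natCard _ (h1 R)
        rcases (Nat.dvd_prime Nat.prime_three).1 hd with h | h
        · exact absurd (orderOf_eq_one_iff.1 h) hx1
        · omega)).symm
    haveI : Subsingleton (Sylow 3 K) := ⟨fun A B => Sylow.ext ((h3 A).trans (h3 B).symm)⟩
    have := (Nat.card_of_subsingleton R₀).symm.trans hn4
    omega
  have hker : ρ.ker = center G := by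
    refine le_antisymm (fun r hr => mem_center_iff.2 fun g => ?_) fun z hz => ?_
    · refine (commutatorElement_eq_one_iff_mul_comm.1 ?_).symm
      have hmem : ⁅r, g⁆ ∈ K := hKc (commutator_mem_commutator (mem_top r) (mem_top g))
      refine congrArg Subtype.val (hρK ⟨_, hmem⟩ ?_)
      show ρ ⁅r, g⁆ = 1
      rw [map_commutatorElement, MonoidHom.mem_ker.1 hr, commutatorElement_one_left]
    · have h1 : MulAut.conjNormal z = (1 : MulAut K) := MulEquiv.ext fun k => Subtype.ext (by
        rw [MulAut.conjNormal_apply, MulAut.one_apply, ← mem_center_iff.1 hz (k : G), mul_inv_cancel_right])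
      rw [MonoidHom.mem_ker]
      show MulAction.toPermHom (MulAut K) (Sylow 3 K) (MulAut.conjNormal z) = 1
      rw [h1, map_one]
  let e0 : Sylow 3 K ≃ Fin 4 := (Finite.equivFin _).trans (finCongr hn4)
  let σ : G →* Equiv.Perm (Fin 4) := e0.permCongrHom.toMonoidHom.comp ρ
  have hσ : σ.ker = center G := by
    rw [← hker]
    ext x
    simp only [σ, MonoidHom.mem_ker, MonoidHom.comp_apply]
    exact map_eq_one_iff _ e0.permCongrHom.injective
  let eσ : G ⧸ center G ≃* σ.range := (QuotientGroup.quotientMulEquivOfEq hσ.symm).trans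
    (QuotientGroup.quotientKerEquivRange σ)
  have h12 : 12 ≤ Nat.card σ.range := by
    rw [← hKcard]
    refine Nat.card_le_card_of_injective (fun x : K => (⟨σ x, x, rfl⟩ : σ.range)) ?_
    intro x y hxy
    have h1 : σ (x : G) = σ (y : G) := congrArg Subtype.val hxy
    refine mul_inv_eq_one.1 (hρK (x * y⁻¹) ?_)
    have h2 : ρ (x : G) = ρ (y : G) := e0.permCongrHom.injective h1
    rw [Subgroup.coe_mul, Subgroup.coe_inv, map_mul, map_inv, h2, mul_inv_cancel]
  have hperm : Nat.card (Equiv.Perm (Fin 4)) = 24 := by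
    rw [Nat.card_perm, Nat.card_fin]; rfl
  have h3 := σ.range.card_mul_index
  rw [hperm] at h3
  have h4 : σ.range.index ≤ 2 := by nlinarith
  have h5 : σ.range.index ≠ 0 := Subgroup.index_ne_zero_of_finite
  rcases (show σ.range.index = 1 ∨ σ.range.index = 2 by omega) with h | h
  · exact Or.inr ⟨eσ.trans ((MulEquiv.subgroupCongr (Subgroup.index_eq_one.1 h)).trans Subgroup.topEquiv)⟩
  · exact Or.inl ⟨eσ.trans (MulEquiv.subgroupCongr (Equiv.Perm.eq_alternatingGroup_of_index_eq_two h))⟩

/-- The statement of S3896, given S0483. -/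
theorem half_classes (hGW : GWStatement.{u}) (P : Sylow 2 G) (hO : Cfsg.pPrimeCore 2 G = ⊥)
    (hk : 2 * Nat.card {c : ConjClasses G // ∀ x ∈ c.carrier, ∃ k : ℕ, orderOf x = 2 ^ k} =
      Nat.card ↥(P : Subgroup G)) :
    Nonempty (G ⧸ center G ≃* ↥(alternatingGroup (Fin 4))) ∨ Nonempty (G ⧸ center G ≃* Equiv.Perm (Fin 4)) ∨
    ∃ S : Subgroup (G ⧸ center G), S.Normal ∧ IsSimpleGroup ↥S ∧ ¬ IsMulCommutative ↥S ∧
      centralizer (S : Set (G ⧸ center G)) = ⊥ ∧
      ∃ (F : Type) (_ : Field F) (_ : Fintype F), 3 < Fintype.card F ∧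
        (Fintype.card F % 8 = 3 ∨ Fintype.card F % 8 = 5) ∧
        Nonempty (↥S ≃* Matrix.ProjectiveSpecialLinearGroup (Fin 2) F) := by
  obtain ⟨K, hKn, hKc, hKq, hK8⟩ := exists_odd_over_commutator
    (Transfer.HalfClasses.not_eight_dvd_commutator P hk)
  haveI := hKn
  by_cases hK : Group.IsSolvable K
  · exact (solvable_case hO K hKc hK8 hK (not_isPGroup P hk hKq)).imp id Or.inl
  · exact Or.inr (Or.inr (nonsolvable_case hGW hO K hKc hK8 hK))

end Cfsg.Agent.Invol.GW.Half
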