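import Cfsg.Agent.Lib.Invol.GW.Consumers.Socle
import Cfsg.Agent.Lib.Invol.GW.Consumers.RankOne
import Cfsg.Agent.Lib.Fus.PSLTwo
import Cfsg.Agent.Lib.Invol.GW.Consumers.Dihedral
import Cfsg.Agent.S0803
import Cfsg.Agent.S3305
import Cfsg.Agent.S0205

/-!
# Quaternion Sylow 2-subgroups with cyclic intersections (for S3307), given S0483
-/

set_option autoImplicit false

namespace Cfsg.Agent.Invol.GW

open Subgroup

universe u

/-- Any two distinct Sylow 2-subgroups meet in a cyclic group. -/
def CyclicInter (G : Type u) [Group G] : Prop :=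
  ∀ S T : Sylow 2 G, S ≠ T → IsCyclic ↥((S : Subgroup G) ⊓ (T : Subgroup G))

set_option maxRecDepth 100000 in
theorem four_perm_facts :
    (∀ x : Equiv.Perm (Fin 4), x * (Equiv.swap 0 1 * Equiv.swap 2 3) = (Equiv.swap 0 1 * Equiv.swap 2 3) * x →
      x * x * (x * x) = 1) ∧
    (∀ x : Equiv.Perm (Fin 4), x * (Equiv.swap 0 2 * Equiv.swap 1 3) = (Equiv.swap 0 2 * Equiv.swap 1 3) * x →
      x * x * (x * x) = 1) := by
  constructor <;> decide

/-- Two commuting involutions cannot lie in the intersection of two Sylow subgroups. -/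
theorem not_both {G : Type u} [Group G] [Finite G] (h : CyclicInter G) {S T : Sylow 2 G} (hne : S ≠ T)
    {a b : G} (haS : a ∈ (S : Subgroup G)) (haT : a ∈ (T : Subgroup G)) (hbS : b ∈ (S : Subgroup G))
    (hbT : b ∈ (T : Subgroup G)) (ha : orderOf a = 2) (hb : orderOf b = 2) : a = b := by
  haveI := h S T hne
  let W := (S : Subgroup G) ⊓ (T : Subgroup G)
  have key : ∀ x y : W, orderOf x = 2 → orderOf y = 2 → x = y := by
    intro x y hx hy
    classical
    haveI : Fintype W := Fintype.ofFinite W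
    have hle := IsCyclic.card_pow_eq_one_le (α := W) two_pos
    have hx2 : x ^ 2 = 1 := hx ▸ pow_orderOf_eq_one x
    have hy2 : y ^ 2 = 1 := hy ▸ pow_orderOf_eq_one y
    by_contra hxy
    have hx1 : x ≠ 1 := fun e => by rw [e, orderOf_one] at hx; omega
    have hy1 : y ≠ 1 := fun e => by rw [e, orderOf_one] at hy; omega
    have h3 : ({1, x, y} : Finset W).card = 3 := by
      rw [Finset.card_insert_of_notMem (by simp [hx1.symm, hy1.symm]), Finset.card_pair hxy]
    have h4 := Finset.card_le_card (s := ({1, x, y} : Finset W))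
      (t := Finset.univ.filter fun a : W => a ^ 2 = 1) fun a ha => by
      simp only [Finset.mem_insert, Finset.mem_singleton] at ha
      rcases ha with rfl | rfl | rfl <;> simp [hx2, hy2]
    omega
  exact congrArg Subtype.val (key ⟨a, haS, haT⟩ ⟨b, hbS, hbT⟩
    ((Subgroup.orderOf_coe _).symm.trans ha) ((Subgroup.orderOf_coe _).symm.trans hb))

/-- No symmetric group of degree four. -/
theorem no_four {G : Type u} [Group G] [Finite G] (h : CyclicInter G) (f : Equiv.Perm (Fin 4) →* G)
    (hf : Function.Injective f) : False := by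
  haveI : Fact (Nat.Prime 2) := ⟨Nat.prime_two⟩
  obtain ⟨a, ha⟩ : ∃ a : Equiv.Perm (Fin 4), a = Equiv.swap 0 1 * Equiv.swap 2 3 := ⟨_, rfl⟩
  obtain ⟨b, hb⟩ : ∃ b : Equiv.Perm (Fin 4), b = Equiv.swap 0 2 * Equiv.swap 1 3 := ⟨_, rfl⟩
  have hpg : ∀ c : Equiv.Perm (Fin 4), (∀ x, x * c = c * x → x * x * (x * x) = 1) →
      IsPGroup 2 ((centralizer ({c} : Set (Equiv.Perm (Fin 4)))).map f) := by
    intro c hc
    refine IsPGroup.map (fun x => ⟨2, ?_⟩) f
    refine Subtype.ext ?_
    rw [SubgroupClass.coe_pow, OneMemClass.coe_one, show (2 : ℕ) ^ 2 = 2 + 2 from rfl, pow_add, pow_two]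
    exact hc _ (Subgroup.mem_centralizer_singleton_iff.1 x.2)
  obtain ⟨T₁, hT₁⟩ := (hpg a (ha ▸ four_perm_facts.1)).exists_le_sylow
  obtain ⟨T₂, hT₂⟩ := (hpg b (hb ▸ four_perm_facts.2)).exists_le_sylow
  have hab : a * b = b * a := by subst ha hb; decide
  have hmem : ∀ (c x : Equiv.Perm (Fin 4)), x * c = c * x →
      f x ∈ (centralizer ({c} : Set (Equiv.Perm (Fin 4)))).map f :=
    fun c x hx => Subgroup.mem_map_of_mem f (Subgroup.mem_centralizer_singleton_iff.2 hx)
  have hord : ∀ x : Equiv.Perm (Fin 4), x * x = 1 → x ≠ 1 → orderOf (f x) = 2 := fun x hx hx1 => by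
    rw [orderOf_injective f hf]
    exact orderOf_eq_prime (by rw [pow_two, hx]) hx1
  have hne : T₁ ≠ T₂ := by
    intro e
    have h01 : f (Equiv.swap 0 1) ∈ (T₂ : Subgroup G) := e ▸ hT₁ (hmem a _ (by subst ha; decide))
    have h02 : f (Equiv.swap 0 2) ∈ (T₂ : Subgroup G) := hT₂ (hmem b _ (by subst hb; decide))
    obtain ⟨k, hk⟩ := T₂.isPGroup' (⟨_, h01⟩ * ⟨_, h02⟩)
    have h1 : f ((Equiv.swap 0 1 * Equiv.swap 0 2) ^ (2 ^ k)) = 1 := by
      rw [map_pow, map_mul]
      exact congrArg Subtype.val hk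
    have h2 : orderOf (Equiv.swap (0 : Fin 4) 1 * Equiv.swap 0 2) = 3 := orderOf_eq_prime (by decide) (by decide)
    have h3 := orderOf_dvd_of_pow_eq_one (hf (h1.trans (map_one f).symm))
    rw [h2] at h3
    have := (Nat.prime_three.dvd_of_dvd_pow h3)
    omega
  have := not_both h hne (hT₁ (hmem a a rfl)) (hT₂ (hmem b a hab))
    (hT₁ (hmem a b hab.symm)) (hT₂ (hmem b b rfl))
    (hord a (by subst ha; decide) (by subst ha; decide)) (hord b (by subst hb; decide) (by subst hb; decide))
  have : a = b := hf this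
  subst ha hb
  exact absurd this (by decide)

/-- The symmetric group of degree four inside the alternating group of degree seven. -/
theorem four_in_seven : ∃ f : Equiv.Perm (Fin 4) →* alternatingGroup (Fin 7), Function.Injective f := by
  let F : Equiv.Perm (Fin 4) → Equiv.Perm (Fin 7) := fun σ =>
    (finSumFinEquiv (m := 4) (n := 3)).permCongr
      (Equiv.sumCongr σ (if Equiv.Perm.sign σ = 1 then 1 else Equiv.swap 0 1))
  have hmul : ∀ σ τ, F (σ * τ) = F σ * F τ := by
    intro σ τ
    have hite : (if Equiv.Perm.sign (σ * τ) = 1 then (1 : Equiv.Perm (Fin 3)) else Equiv.swap 0 1) =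
        (if Equiv.Perm.sign σ = 1 then 1 else Equiv.swap 0 1) * (if Equiv.Perm.sign τ = 1 then 1 else Equiv.swap 0 1) := by
      rw [Equiv.Perm.sign_mul]
      rcases Int.units_eq_one_or (Equiv.Perm.sign σ) with e | e <;>
        rcases Int.units_eq_one_or (Equiv.Perm.sign τ) with e' | e' <;> rw [e, e'] <;> decide
    simp only [F, hite]
    generalize (if Equiv.Perm.sign σ = 1 then (1 : Equiv.Perm (Fin 3)) else Equiv.swap 0 1) = p
    generalize (if Equiv.Perm.sign τ = 1 then (1 : Equiv.Perm (Fin 3)) else Equiv.swap 0 1) = p'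
    ext x
    rcases h : (finSumFinEquiv (m := 4) (n := 3)).symm x with i | i <;> simp [Equiv.permCongr_apply, h]
  have hsign : ∀ σ, F σ ∈ alternatingGroup (Fin 7) := by
    intro σ
    rw [Equiv.Perm.mem_alternatingGroup, Equiv.Perm.sign_permCongr, Equiv.Perm.sign_sumCongr]
    rcases Int.units_eq_one_or (Equiv.Perm.sign σ) with e | e <;> rw [e] <;> decide
  refine ⟨MonoidHom.mk' (fun σ => ⟨F σ, hsign σ⟩) fun σ τ => Subtype.ext (hmul σ τ), fun σ τ h => ?_⟩
  have h' : F σ = F τ := congrArg Subtype.val h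
  have h'' := (finSumFinEquiv (m := 4) (n := 3)).permCongr.injective h'
  exact Equiv.ext fun i => Sum.inl_injective (Equiv.ext_iff.1 h'' (Sum.inl i))

theorem central_dihedral {j : ℕ} (hj : 2 ≤ j) (x : DihedralGroup (2 ^ j)) (hc : ∀ y, x * y = y * x) (hx : x ≠ 1) :
    x = DihedralGroup.r ((2 ^ (j - 1) : ℕ) : ZMod (2 ^ j)) := by
  haveI : NeZero (2 ^ j) := ⟨by positivity⟩
  obtain ⟨k, hk⟩ : ∃ k, 2 ^ j = 2 * k ∧ k = 2 ^ (j - 1) :=
    ⟨_, by rw [← pow_succ', Nat.sub_add_cancel (by omega)], rfl⟩
  rcases x with i | i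
  · have h := hc (DihedralGroup.sr 0)
    rw [DihedralGroup.r_mul_sr, DihedralGroup.sr_mul_r, DihedralGroup.sr.injEq, zero_sub, zero_add] at h
    have h2 : (2 * i.val) % 2 ^ j = 0 := by
      have : ((2 * i.val : ℕ) : ZMod (2 ^ j)) = 0 := by
        push_cast
        rw [ZMod.natCast_zmod_val]
        linear_combination -h
      rw [ZMod.natCast_eq_zero_iff] at this
      exact Nat.mod_eq_zero_of_dvd this
    have hne : i.val ≠ 0 := fun h0 => hx (by
      rw [(ZMod.val_eq_zero i).1 h0]; exact DihedralGroup.one_def.symm)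
    have hlt := ZMod.val_lt i
    obtain ⟨c, hcd⟩ := Nat.dvd_of_mod_eq_zero h2
    have hc1 : c = 1 := by
      rcases c with _ | _ | c
      · omega
      · rfl
      · exfalso; nlinarith
    rw [← ZMod.natCast_zmod_val i]
    congr 2
    rw [hc1, mul_one] at hcd
    omega
  · exfalso
    have h := hc (DihedralGroup.r 1)
    rw [DihedralGroup.sr_mul_r, DihedralGroup.r_mul_sr, DihedralGroup.sr.injEq] at h
    have h2 : ((2 : ℕ) : ZMod (2 ^ j)) = 0 := by push_cast; linear_combination h
    rw [ZMod.natCast_eq_zero_iff] at h2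
    have := Nat.le_of_dvd two_pos h2
    have h4 : 2 ^ 2 ≤ 2 ^ j := Nat.pow_le_pow_right two_pos hj
    omega

/-- S3307, given S0483. -/
theorem quaternion_cyclic_inter (hGW : GWStatement.{u}) {G : Type u} [Group G] [Finite G]
    (hns : ¬ Group.IsSolvable G)
    (hQ : ∀ S : Sylow 2 G, ∃ n : ℕ, Nonempty (↥(S : Subgroup G) ≃* QuaternionGroup (2 ^ (n + 1))))
    (hC : ∀ S T : Sylow 2 G, S ≠ T → IsCyclic ↥((S : Subgroup G) ⊓ (T : Subgroup G))) :
    (∀ S : Sylow 2 G, Nonempty (↥(S : Subgroup G) ≃* QuaternionGroup 2)) ∧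
    ∃ (G₁ : Subgroup G) (_ : G₁.Normal) (_ : ((Cfsg.oddCore G).subgroupOf G₁).Normal),
      Odd G₁.index ∧ Cfsg.oddCore G ≤ G₁ ∧
      ∃ (F : Type) (_ : Field F) (_ : Fintype F), (Fintype.card F % 8 = 3 ∨ Fintype.card F % 8 = 5) ∧
        3 < Fintype.card F ∧
        Nonempty (↥G₁ ⧸ (Cfsg.oddCore G).subgroupOf G₁ ≃* Matrix.SpecialLinearGroup (Fin 2) F) := by
  haveI : Fact (Nat.Prime 2) := ⟨Nat.prime_two⟩
  haveI hOn : (Cfsg.oddCore G).Normal := Grp.pPrimeCore_isNormal
  have hcop : (Nat.card (Cfsg.oddCore G)).Coprime 2 := Grp.pPrimeCore_coprime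
  obtain ⟨S⟩ := (inferInstance : Nonempty (Sylow 2 G))
  obtain ⟨n, ⟨eQ⟩⟩ := hQ S
  have hrG : BS.TwoRankOne G := BS.twoRankOne_of_sylow S fun u hu v hv hu2 hv2 => by
    have key : ∀ w : (S : Subgroup G), orderOf w = 2 →
        eQ w = QuaternionGroup.a ((2 ^ (n + 1) : ℕ) : ZMod (2 * 2 ^ (n + 1))) := by
      intro w hw
      rcases BS.quaternion_sq_one (x := eQ w) ((map_pow eQ w 2).symm.trans (by rw [orderOf_dvd_iff_pow_eq_one.1 hw.dvd, map_one])) with h | h
      · exfalso
        rw [map_eq_one_iff eQ eQ.injective] at h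
        rw [h, orderOf_one] at hw
        omega
      · exact h
    exact congrArg Subtype.val (eQ.injective ((key ⟨u, hu⟩ (by rw [Subgroup.orderOf_mk]; exact hu2)).trans
      (key ⟨v, hv⟩ (by rw [Subgroup.orderOf_mk]; exact hv2)).symm))
  -- modulo the core
  let H := G ⧸ Cfsg.oddCore G
  let π : G →* H := QuotientGroup.mk' _
  have hOH : Cfsg.oddCore H = ⊥ := Grp.pPrimeCore_quotient_eq_bot
  have hrH : BS.TwoRankOne H := twoRankOne_quotient hrG _ hcop
  have hnsH : ¬ Group.IsSolvable H := fun h => hns <| by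
    haveI := h
    haveI : Group.IsSolvable (Cfsg.oddCore G) := S0205.result (Nat.coprime_two_right.1 hcop)
    exact Group.isSolvable_of_ker_le_range (Cfsg.oddCore G).subtype π
      (fun x hx => ⟨⟨x, (QuotientGroup.eq_one_iff x).1 hx⟩, rfl⟩)
  let SH : Sylow 2 H := S.mapSurjective (QuotientGroup.mk'_surjective _)
  obtain ⟨eSH⟩ := sylow_mapSurjective_equiv S (Cfsg.oddCore G) hcop
  let eQH : (SH : Subgroup H) ≃* QuaternionGroup (2 ^ (n + 1)) := eSH.symm.trans eQ
  haveI : NeZero (2 ^ (n + 1)) := ⟨by positivity⟩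
  have hcardSH : Nat.card (SH : Subgroup H) = 4 * 2 ^ (n + 1) := by
    rw [Nat.card_congr eQH.toEquiv, Nat.card_eq_fintype_card (α := QuaternionGroup (2 ^ (n + 1))),
      QuaternionGroup.card]
  have h2H : 2 ∣ Nat.card H := (Dvd.intro (2 * 2 ^ (n + 1)) (by rw [hcardSH]; ring)).trans
    (Subgroup.card_subgroup_dvd_card (SH : Subgroup H))
  obtain ⟨z, hz⟩ := exists_prime_orderOf_dvd_card' (G := H) 2 h2H
  obtain ⟨hzc, huniq⟩ := central_involution hrH hOH hz
  let Z := Subgroup.zpowers z
  have hZc : Z ≤ center H := Subgroup.zpowers_le.2 hzc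
  haveI : Z.Normal := ⟨fun a ha g => by
    rwa [Subgroup.mem_center_iff.1 (hZc ha) g, mul_inv_cancel_right]⟩
  have hZcard : Nat.card Z = 2 := by rw [Nat.card_zpowers, hz]
  have hZS : Z ≤ (SH : Subgroup H) := by
    obtain ⟨w, hw⟩ := exists_prime_orderOf_dvd_card' (G := (SH : Subgroup H)) 2
      (Dvd.intro (2 * 2 ^ (n + 1)) (by rw [hcardSH]; ring))
    rw [Subgroup.zpowers_le, ← huniq w (by rw [Subgroup.orderOf_coe, hw])]
    exact w.2
  let Y := H ⧸ Z
  let σ : H →* Y := QuotientGroup.mk' Z
  have hOY : Cfsg.oddCore Y = ⊥ := oddCore_quotient_central hOH Z hZc hZcard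
  have hnsY : ¬ Group.IsSolvable Y := fun h => hnsH <| by
    haveI := h
    exact Group.isSolvable_of_ker_le_range Z.subtype σ
      (fun x hx => ⟨⟨x, (QuotientGroup.eq_one_iff x).1 hx⟩, rfl⟩)
  have hCH : CyclicInter H := S3305.result hC (Cfsg.oddCore G)
  have hCY : CyclicInter Y := S3305.result hCH Z
  let SY : Sylow 2 Y := SH.mapSurjective (QuotientGroup.mk'_surjective Z)
  haveI : (Z.subgroupOf (SH : Subgroup H)).Normal := (inferInstance : Z.Normal).subgroupOf _
  obtain ⟨eq⟩ := quotient_two_dihedral eQH (Z.subgroupOf (SH : Subgroup H))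
    (by rw [Nat.card_congr (Subgroup.subgroupOfEquivOfLe hZS).toEquiv, hZcard])
  have eY : (SY : Subgroup Y) ≃* DihedralGroup (2 ^ (n + 1)) := by
    have e1 := QuotientGroup.quotientKerEquivRange (σ.comp (SH : Subgroup H).subtype)
    have e2 : (σ.comp (SH : Subgroup H).subtype).range = (SY : Subgroup Y) := by
      rw [MonoidHom.range_comp, Subgroup.range_subtype]
      rfl
    have e3 : (σ.comp (SH : Subgroup H).subtype).ker = Z.subgroupOf (SH : Subgroup H) := by
      ext x
      rw [MonoidHom.mem_ker, Subgroup.mem_subgroupOf]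
      exact QuotientGroup.eq_one_iff _
    exact ((MulEquiv.subgroupCongr e2).symm.trans (e1.symm.trans (QuotientGroup.quotientMulEquivOfEq e3))).trans eq
  obtain ⟨L, hLn, hLm, -⟩ := exists_socle hGW hOY hnsY SY eY
  haveI := hLn
  rcases hLm with ⟨F, hF, hFf, hodd, h3, ⟨f⟩⟩ | h7
  swap
  · obtain ⟨f⟩ := h7
    obtain ⟨g, hg⟩ := four_in_seven
    exact (no_four hCY ((L.subtype.comp f.symm.toMonoidHom).comp g)
      ((L.subtype_injective.comp f.symm.injective).comp hg)).elim
  have h16 : Fintype.card F ^ 2 % 16 ≠ 1 := fun h => by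
    obtain ⟨K, ⟨eK⟩⟩ := (S0803.result (F := F) rfl).2 h
    exact (no_four hCY ((L.subtype.comp f.symm.toMonoidHom).comp (K.subtype.comp eK.symm.toMonoidHom))
      ((L.subtype_injective.comp f.symm.injective).comp (K.subtype_injective.comp eK.symm.injective))).elim
  obtain ⟨q, hq⟩ : ∃ q, q = Fintype.card F := ⟨_, rfl⟩
  have hq8 : q % 8 = 3 ∨ q % 8 = 5 := by
    rw [hq]
    obtain ⟨k, hk⟩ := hodd
    have hm : ∀ r : ℕ, r < 8 → r % 2 = 1 → (r = 3 ∨ r = 5) ∨ ∀ c : ℕ, (8 * c + r) ^ 2 % 16 = 1 := by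
      intro r hr hr2
      interval_cases r <;> first | omega | (right; intro c; ring_nf; omega)
    rcases hm (Fintype.card F % 8) (Nat.mod_lt _ (by norm_num)) (by omega) with h | h
    · exact h
    · exfalso
      have := h (Fintype.card F / 8)
      rw [Nat.div_add_mod] at this
      exact h16 this
  -- the Sylow subgroup of the socle has order four
  have hL4 : (4 : ℕ) ∣ Nat.card L ∧ ¬ 8 ∣ Nat.card L := by
    have h := card_PSLTwo hodd
    rw [← Nat.card_congr f.toEquiv, ← hq] at h
    have hodd' : q % 2 = 1 := by rw [hq]; exact Nat.odd_iff.1 hodd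
    obtain ⟨c, hc⟩ : ∃ c, q = 8 * c + 3 ∨ q = 8 * c + 5 := ⟨q / 8, by omega⟩
    rcases hc with hc | hc
    · have h' : Nat.card L = 4 * ((8 * c + 3) * (4 * c + 1) * (2 * c + 1)) := by
        rw [hc, show 8 * c + 3 - 1 = 2 * (4 * c + 1) by omega, show 8 * c + 3 + 1 = 4 * (2 * c + 1) by omega] at h
        linarith
      refine ⟨h' ▸ dvd_mul_right 4 _, ?_⟩
      rw [h', show (8 : ℕ) = 4 * 2 from rfl, Nat.mul_dvd_mul_iff_left (by norm_num)]
      rw [← even_iff_two_dvd, Nat.not_even_iff_odd]
      exact Odd.mul (Odd.mul ⟨4 * c + 1, by ring⟩ ⟨2 * c, by ring⟩) ⟨c, by ring⟩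
    · have h' : Nat.card L = 4 * ((8 * c + 5) * (2 * c + 1) * (4 * c + 3)) := by
        rw [hc, show 8 * c + 5 - 1 = 4 * (2 * c + 1) by omega, show 8 * c + 5 + 1 = 2 * (4 * c + 3) by omega] at h
        linarith
      refine ⟨h' ▸ dvd_mul_right 4 _, ?_⟩
      rw [h', show (8 : ℕ) = 4 * 2 from rfl, Nat.mul_dvd_mul_iff_left (by norm_num)]
      rw [← even_iff_two_dvd, Nat.not_even_iff_odd]
      exact Odd.mul (Odd.mul ⟨4 * c + 2, by ring⟩ ⟨c, by ring⟩) ⟨2 * c + 1, by ring⟩
  -- a Sylow subgroup of `L` inside that of the quotient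
  obtain ⟨T⟩ := (inferInstance : Nonempty (Sylow 2 L))
  have hT4 : Nat.card (T : Subgroup L) = 4 := by
    obtain ⟨k, hk⟩ := IsPGroup.iff_card.1 T.isPGroup'
    have h1 : 2 ^ 2 ∣ Nat.card (T : Subgroup L) :=
      T.pow_dvd_card_of_pow_dvd_card hL4.1
    have h2 : ¬ 2 ^ 3 ∣ Nat.card (T : Subgroup L) := fun h =>
      hL4.2 (h.trans (Subgroup.card_subgroup_dvd_card _))
    rw [hk, Nat.pow_dvd_pow_iff_le_right Nat.one_lt_two] at h1 h2
    rw [hk, show k = 2 by omega]
    rfl
  obtain ⟨S', hS'⟩ := (T.isPGroup'.map L.subtype).exists_le_sylow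
  let eY' : (S' : Subgroup Y) ≃* DihedralGroup (2 ^ (n + 1)) := (Sylow.equiv S' SY).trans eY
  have hn0 : n = 0 := by
    by_contra hn
    haveI : IsMulCommutative (T : Subgroup L) := IsPGroup.isMulCommutative_of_card_eq_prime_sq (p := 2)
      (by rw [hT4]; rfl)
    -- a central involution of the Sylow subgroup lies in the socle
    have hr : (DihedralGroup.r ((2 ^ n : ℕ) : ZMod (2 ^ (n + 1))) : DihedralGroup (2 ^ (n + 1))) ≠ 1 := by
      intro h
      rw [DihedralGroup.one_def] at h
      have h' := DihedralGroup.r.inj h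
      rw [ZMod.natCast_eq_zero_iff] at h'
      have := Nat.le_of_dvd (by positivity) h'
      rw [pow_succ] at this
      have := Nat.two_pow_pos n
      omega
    have hrr : (DihedralGroup.r ((2 ^ n : ℕ) : ZMod (2 ^ (n + 1))) : DihedralGroup (2 ^ (n + 1))) *
        DihedralGroup.r ((2 ^ n : ℕ) : ZMod (2 ^ (n + 1))) = 1 := by
      rw [DihedralGroup.r_mul_r, ← Nat.cast_add, show 2 ^ n + 2 ^ n = 2 ^ (n + 1) by rw [pow_succ]; ring,
        ZMod.natCast_self, ← DihedralGroup.one_def]
    have hrc : ∀ y : DihedralGroup (2 ^ (n + 1)),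
        DihedralGroup.r ((2 ^ n : ℕ) : ZMod (2 ^ (n + 1))) * y = y * DihedralGroup.r ((2 ^ n : ℕ) : ZMod (2 ^ (n + 1))) := by
      have hkk : ((2 ^ n : ℕ) : ZMod (2 ^ (n + 1))) + ((2 ^ n : ℕ) : ZMod (2 ^ (n + 1))) = 0 := by
        rw [← Nat.cast_add, show 2 ^ n + 2 ^ n = 2 ^ (n + 1) by rw [pow_succ]; ring, ZMod.natCast_self]
      rintro (i | i)
      · simp only [DihedralGroup.r_mul_r, add_comm]
      · simp only [DihedralGroup.r_mul_sr, DihedralGroup.sr_mul_r]
        congr 1
        linear_combination -hkk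
    set w := eY'.symm (DihedralGroup.r ((2 ^ n : ℕ) : ZMod (2 ^ (n + 1)))) with hw
    have hwc : ∀ s : (S' : Subgroup Y), w * s = s * w := fun s => by
      refine eY'.injective ?_
      rw [map_mul, map_mul, hw, eY'.apply_symm_apply]
      exact hrc _
    have hwuniq : ∀ v : (S' : Subgroup Y), (∀ s, v * s = s * v) → v ≠ 1 → v = w := fun v hv hv1 => by
      rw [hw, eY'.eq_symm_apply]
      refine (central_dihedral (j := n + 1) (by omega) (eY' v) (fun y => ?_)
        (fun h => hv1 (eY'.injective (h.trans (map_one eY').symm)))).trans (by rw [Nat.add_sub_cancel])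
      obtain ⟨s, rfl⟩ := eY'.surjective y
      rw [← map_mul, ← map_mul, hv]
    have hTsq : ∀ v ∈ (T : Subgroup L), v * v = 1 := by
      intro v hv
      rcases Transfer.TwoByCyclic.dihedral_subgroup eY' (((T : Subgroup L).map L.subtype).subgroupOf (S' : Subgroup Y))
        with hc | ⟨j, ⟨e⟩⟩
      · exfalso
        have e' : (T : Subgroup L) ≃* ((T : Subgroup L).map L.subtype).subgroupOf (S' : Subgroup Y) :=
          ((T : Subgroup L).equivMapOfInjective L.subtype L.subtype_injective).trans (Subgroup.subgroupOfEquivOfLe hS').symm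
        haveI : IsCyclic (T : Subgroup L) := isCyclic_of_surjective e'.symm e'.symm.surjective
        haveI : Group.IsPerfect L := by
          haveI : Group.IsPerfect (Matrix.SpecialLinearGroup (Fin 2) F) := ⟨SLTwo_perfect h3⟩
          haveI : Group.IsPerfect (Matrix.ProjectiveSpecialLinearGroup (Fin 2) F) :=
            Group.IsPerfect.ofSurjective (f := QuotientGroup.mk' _) (QuotientGroup.mk'_surjective _)
          exact Group.IsPerfect.ofSurjective (f := f.symm.toMonoidHom) f.symm.surjective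
        haveI := subsingleton_of_cyclic Group.IsPerfect.commutator_eq_top T inferInstance
        rw [Nat.card_unique] at hL4
        omega
      · have hj : j = 1 := by
          have h := Nat.card_congr e.toEquiv
          rw [Nat.card_congr (Subgroup.subgroupOfEquivOfLe hS').toEquiv,
            Subgroup.card_map_of_injective L.subtype_injective, hT4, DihedralGroup.nat_card] at h
          have : 2 ^ j = 2 ^ 1 := by rw [pow_one]; omega
          exact Nat.pow_right_injective le_rfl this
        subst hj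
        have hsq : ∀ d : DihedralGroup (2 ^ 1), d * d = 1 := by decide
        let v' : ((T : Subgroup L).map L.subtype).subgroupOf (S' : Subgroup Y) :=
          ⟨⟨v, hS' (Subgroup.mem_map_of_mem _ hv)⟩, Subgroup.mem_map_of_mem _ hv⟩
        have h2 : v' * v' = 1 := e.injective (by rw [map_mul, hsq, map_one])
        exact Subtype.ext (congrArg (fun x => ((x.1 : (S' : Subgroup Y)) : Y)) h2)
    have hwT : ∃ t ∈ (T : Subgroup L), (t : Y) = w := by
      by_contra hno
      push Not at hno
      let E : Subgroup (S' : Subgroup Y) :=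
        ((T : Subgroup L).map L.subtype).subgroupOf (S' : Subgroup Y) ⊔ Subgroup.zpowers w
      have hww : w * w = 1 := eY'.injective (by rw [map_mul, hw, eY'.apply_symm_apply, hrr, map_one])
      haveI : (Subgroup.zpowers w).Normal := ⟨fun a ha g => by
        obtain ⟨k, rfl⟩ := ha
        have hcg : Commute w g := hwc g
        rw [(hcg.zpow_left k).eq.symm, mul_inv_cancel_right]
        exact ⟨k, rfl⟩⟩
      have hEsq : ∀ x ∈ E, x * x = 1 := by
        intro x hx
        obtain ⟨a, ha, b, hb, rfl⟩ := Subgroup.mem_sup_of_normal_right.1 hx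
        obtain ⟨k, rfl⟩ := hb
        obtain ⟨t, ht, hta⟩ := ha
        have haa : a * a = 1 := Subtype.ext (by
          show (a : Y) * a = 1
          rw [show (a : Y) = L.subtype t from hta.symm, ← map_mul, hTsq t ht, map_one])
        have hcg : Commute (w ^ k) a := (show Commute w a from hwc a).zpow_left k
        rw [mul_assoc, ← mul_assoc (w ^ k) a, hcg.eq, mul_assoc a (w ^ k), ← mul_assoc, haa, one_mul,
          ← (Commute.refl w).mul_zpow, hww, one_zpow]
      have h4 := card_elementary_le_four eY' E hEsq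
      have hle : ((T : Subgroup L).map L.subtype).subgroupOf (S' : Subgroup Y) ≤ E := le_sup_left
      have heq := Subgroup.eq_of_le_of_card_ge hle (by
        rw [Nat.card_congr (Subgroup.subgroupOfEquivOfLe hS').toEquiv,
          Subgroup.card_map_of_injective L.subtype_injective, hT4]
        exact h4)
      have hwE : w ∈ ((T : Subgroup L).map L.subtype).subgroupOf (S' : Subgroup Y) :=
        heq ▸ Subgroup.mem_sup_right (Subgroup.mem_zpowers w)
      obtain ⟨t, ht, hte⟩ := hwE
      exact hno t ht hte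
    obtain ⟨t, htT, htw⟩ := hwT
    have ht2 : orderOf (t : L) = 2 := by
      refine orderOf_eq_prime (by rw [pow_two, hTsq t htT]) fun h => ?_
      have h' : w = 1 := Subtype.ext (htw.symm.trans (congrArg Subtype.val h))
      exact hr (eY'.symm.injective (h'.trans (map_one eY'.symm).symm))
    -- another involution of the Sylow subgroup of the socle
    obtain ⟨v, hvT, hv1, hvt⟩ : ∃ v ∈ (T : Subgroup L), v ≠ 1 ∧ v ≠ t := by
      by_contra hno
      push Not at hno
      have hsub : ((T : Subgroup L) : Set L) ⊆ {1, t} := fun v hv => by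
        by_cases h : v = 1
        · exact Or.inl h
        · exact Or.inr (hno v hv h)
      have h := (Set.ncard_le_ncard hsub (Set.toFinite _)).trans (Set.ncard_insert_le _ _)
      rw [Set.ncard_singleton] at h
      have h' : Nat.card (T : Subgroup L) = ((T : Subgroup L) : Set L).ncard := Nat.card_coe_set_eq _
      omega
    have hv2 : orderOf v = 2 := orderOf_eq_prime (by rw [pow_two, hTsq v hvT]) hv1
    obtain ⟨c, hc⟩ := isConj_iff.1 (Fus.PSLTwo.involutions_conj (Nat.odd_iff.1 hodd)
      (x := f t) (y := f v) (by rw [MulEquiv.orderOf_eq, ht2]) (by rw [MulEquiv.orderOf_eq, hv2]))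
    obtain ⟨c, rfl⟩ := f.surjective c
    have hc' : c * t * c⁻¹ = v := f.injective (by rw [map_mul, map_mul, map_inv, hc])
    have hcm : c⁻¹⁻¹ * t * c⁻¹ = v := by rw [inv_inv, hc']
    obtain ⟨g, hgN, hg⟩ := T.conj_eq_normalizer_conj_of_mem t c⁻¹ htT (hcm.symm ▸ hvT)
    rw [hcm] at hg
    -- conjugating the Sylow subgroup by it gives a second one over the four group
    let S'' : Sylow 2 Y := ((g⁻¹ : L) : Y) • S'
    have hmemT : ∀ x ∈ (T : Subgroup L), (x : Y) ∈ (S'' : Subgroup Y) := by
      intro x hx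
      rw [Sylow.coe_subgroup_smul, Subgroup.mem_pointwise_smul_iff_inv_smul_mem]
      have hgx : g * x * g⁻¹ ∈ (T : Subgroup L) := (Subgroup.mem_normalizer_iff.1 hgN x).1 hx
      have := hS' (Subgroup.mem_map_of_mem L.subtype hgx)
      simpa using this
    have hne : S' ≠ S'' := by
      intro e
      have hgS : ∀ s : (S' : Subgroup Y), (g : Y) * s * (g : Y)⁻¹ ∈ (S' : Subgroup Y) := fun s => by
        have h1 : (s : Y) ∈ (S'' : Subgroup Y) := e ▸ s.2
        rw [Sylow.coe_subgroup_smul, Subgroup.mem_pointwise_smul_iff_inv_smul_mem] at h1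
        simpa using h1
      have hvS : ((v : L) : Y) ∈ (S' : Subgroup Y) := hS' (Subgroup.mem_map_of_mem _ hvT)
      have hgvt : (g : Y) * (v : Y) * (g : Y)⁻¹ = w := by
        rw [← htw, hg]
        simp [mul_assoc]
      have hvw : (⟨_, hvS⟩ : (S' : Subgroup Y)) = w := by
        refine hwuniq _ (fun s => Subtype.ext ?_) (fun h => hv1 (Subtype.ext (congrArg Subtype.val h :)))
        show (v : Y) * s = s * v
        have h1 : (w : Y) * ((g : Y) * s * (g : Y)⁻¹) = ((g : Y) * s * (g : Y)⁻¹) * w :=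
          congrArg Subtype.val (hwc ⟨_, hgS s⟩)
        rw [← hgvt] at h1
        calc (v : Y) * s = (g : Y)⁻¹ * ((g : Y) * v * (g : Y)⁻¹ * ((g : Y) * s * (g : Y)⁻¹)) * g := by group
          _ = (g : Y)⁻¹ * ((g : Y) * s * (g : Y)⁻¹ * ((g : Y) * v * (g : Y)⁻¹)) * g := by rw [h1]
          _ = s * v := by group
      exact hvt (Subtype.ext ((congrArg Subtype.val hvw).trans htw.symm))
    have := not_both hCY hne (hS' (Subgroup.mem_map_of_mem _ htT)) (hmemT t htT)
      (hS' (Subgroup.mem_map_of_mem _ hvT)) (hmemT v hvT)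
      ((Subgroup.orderOf_coe t).trans ht2) ((Subgroup.orderOf_coe v).trans hv2)
    exact hvt (Subtype.ext this).symm
  subst hn0
  refine ⟨fun R => ⟨(Sylow.equiv R S).trans eQ⟩, ?_⟩
  let L' : Subgroup H := L.comap σ
  haveI : L'.Normal := hLn.comap σ
  let G₁ : Subgroup G := L'.comap π
  have hOle : Cfsg.oddCore G ≤ G₁ := fun x hx => by
    show π x ∈ L'
    rw [show π x = 1 from (QuotientGroup.eq_one_iff x).2 hx]
    exact one_mem _
  haveI hG1O : ((Cfsg.oddCore G).subgroupOf G₁).Normal := hOn.subgroupOf G₁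
  refine ⟨G₁, (inferInstance : L'.Normal).comap π, hG1O, ?_, hOle, F, hF, hFf, hq ▸ hq8, h3, ?_⟩
  · -- the index is odd
    rw [show G₁.index = L'.index from Subgroup.index_comap_of_surjective L' (QuotientGroup.mk'_surjective _),
      show L'.index = L.index from Subgroup.index_comap_of_surjective L (QuotientGroup.mk'_surjective _)]
    rw [← Nat.not_even_iff_odd, even_iff_two_dvd]
    intro h2
    have h8 : 2 ^ 3 ∣ Nat.card Y := by
      rw [← L.card_mul_index]
      exact (Nat.mul_dvd_mul hL4.1 h2 :)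
    have hY4 := SY.pow_dvd_card_of_pow_dvd_card h8
    rw [Nat.card_congr eY.toEquiv, DihedralGroup.nat_card] at hY4
    exact absurd hY4 (by norm_num)
  · -- the preimage is the special linear group
    let ρ : L' →* L := σ.subgroupComap L
    have hρ : Function.Surjective ρ := σ.subgroupComap_surjective_of_surjective L (QuotientGroup.mk'_surjective Z)
    have hρker : ∀ x : L', x ∈ ρ.ker ↔ (x : H) ∈ Z := fun x => by
      rw [MonoidHom.mem_ker, ← QuotientGroup.eq_one_iff]
      exact ⟨fun h => congrArg Subtype.val h, fun h => Subtype.ext h⟩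
    have hρc : ρ.ker ≤ center L' := fun x hx => Subgroup.mem_center_iff.2 fun y =>
      Subtype.ext (Subgroup.mem_center_iff.1 (hZc ((hρker x).1 hx)) y)
    have hZL : Z ≤ L' := fun x hx => by
      show σ x ∈ L
      rw [show σ x = 1 from (QuotientGroup.eq_one_iff x).2 hx]
      exact one_mem _
    have hρk2 : Nat.card ρ.ker = 2 := by
      rw [show ρ.ker = Z.subgroupOf L' from Subgroup.ext fun x => (hρker x).trans Subgroup.mem_subgroupOf.symm,
        Nat.card_congr (Subgroup.subgroupOfEquivOfLe hZL).toEquiv, hZcard]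
    haveI : Group.IsPerfect (Matrix.SpecialLinearGroup (Fin 2) F) := ⟨SLTwo_perfect h3⟩
    haveI : Group.IsPerfect (Matrix.ProjectiveSpecialLinearGroup (Fin 2) F) :=
      Group.IsPerfect.ofSurjective (f := QuotientGroup.mk' _) (QuotientGroup.mk'_surjective _)
    haveI : Group.IsPerfect L := Group.IsPerfect.ofSurjective (f := f.symm.toMonoidHom) f.symm.surjective
    have hLc : commutator L = ⊤ := Group.IsPerfect.commutator_eq_top
    have hperf : commutator L' = ⊤ := by
      -- otherwise the derived group would be a copy of the socle, of 2-rank two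
      have hmap : (commutator L').map ρ = ⊤ := by
        rw [_root_.commutator_def, Subgroup.map_commutator, Subgroup.map_top_of_surjective ρ hρ,
          ← _root_.commutator_def, hLc]
      by_cases hzm : ρ.ker ≤ commutator L'
      · rw [← Subgroup.comap_map_eq_self hzm, hmap, Subgroup.comap_top]
      exfalso
      have hinj : Function.Injective (ρ.comp (commutator L').subtype) := by
        rw [← MonoidHom.ker_eq_bot_iff, eq_bot_iff]
        intro x hx
        by_contra hx1
        refine hzm fun y hy => ?_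
        have hx1' : (x : L') ≠ 1 := fun h => hx1 (Subtype.ext h)
        by_cases hy1 : y = 1
        · rw [hy1]; exact one_mem _
        have o : ∀ u : L', u ∈ ρ.ker → u ≠ 1 → orderOf ((u : L') : H) = 2 := fun u hu hu1 => by
          rw [Subgroup.orderOf_coe]
          refine orderOf_eq_prime ?_ hu1
          have := congrArg Subtype.val (pow_card_eq_one' (x := (⟨u, hu⟩ : ρ.ker)))
          rwa [hρk2, SubgroupClass.coe_pow, OneMemClass.coe_one] at this
        have : y = (x : L') := Subtype.ext ((huniq _ (o y hy hy1)).trans (huniq _ (o _ hx hx1')).symm)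
        rw [this]; exact x.2
      have e := MonoidHom.ofInjective hinj
      have hrange : (ρ.comp (commutator L').subtype).range = ⊤ := by
        rw [MonoidHom.range_comp, Subgroup.range_subtype, hmap]
      let e' : commutator L' ≃* L := e.trans ((MulEquiv.subgroupCongr hrange).trans Subgroup.topEquiv)
      obtain ⟨a, ha, b, hb, hab⟩ : ∃ a : L, orderOf a = 2 ∧ ∃ b : L, orderOf b = 2 ∧ a ≠ b := by
        obtain ⟨a, ha⟩ := exists_prime_orderOf_dvd_card' (G := L) 2 ((show 2 ∣ 4 by norm_num).trans hL4.1)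
        haveI : IsSimpleGroup L := isSimple_of_model (Or.inl ⟨F, hF, hFf, hodd, h3, ⟨f⟩⟩)
        by_contra hno
        push Not at hno
        have hac : a ∈ center L := Subgroup.mem_center_iff.2 fun g =>
          (mul_inv_eq_iff_eq_mul.1 (hno a ha (g * a * g⁻¹) (by rw [Invol.orderOf_conj_eq, ha])).symm)
        rcases (inferInstance : (center L).Normal).eq_bot_or_eq_top with h | h
        · rw [h, Subgroup.mem_bot] at hac
          rw [hac, orderOf_one] at ha
          omega
        · have : commutator L = ⊥ := by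
            rw [eq_bot_iff, _root_.commutator_def, Subgroup.commutator_le]
            intro x _ y _
            rw [Subgroup.mem_bot, commutatorElement_eq_one_iff_mul_comm]
            exact Subgroup.mem_center_iff.1 (h ▸ Subgroup.mem_top y) x
          rw [hLc] at this
          rw [← Subgroup.card_top, this, Subgroup.card_bot] at hL4
          omega
      have o : ∀ c : L, orderOf c = 2 → (((e'.symm c : commutator L') : L') : H) = z := fun c hc =>
        huniq _ (by rw [Subgroup.orderOf_coe, Subgroup.orderOf_coe, MulEquiv.orderOf_eq, hc])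
      exact hab (e'.symm.injective (Subtype.ext (Subtype.ext ((o a ha).trans (o b hb).symm))))
    obtain ⟨e⟩ := iso_SLTwo hperf hodd h3 (f.toMonoidHom.comp ρ) (f.surjective.comp hρ)
      (fun x hx => hρc (by
        rw [MonoidHom.mem_ker] at hx ⊢
        exact f.injective (hx.trans (map_one f).symm)))
      (by rw [show (f.toMonoidHom.comp ρ).ker = ρ.ker from
        Subgroup.ext fun x => map_eq_one_iff f f.injective, hρk2])
    have hsurj : Function.Surjective (π.subgroupComap L') :=
      π.subgroupComap_surjective_of_surjective L' (QuotientGroup.mk'_surjective _)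
    have hker : (π.subgroupComap L').ker = (Cfsg.oddCore G).subgroupOf G₁ := by
      ext x
      rw [MonoidHom.mem_ker, Subgroup.mem_subgroupOf, ← QuotientGroup.eq_one_iff]
      exact ⟨fun h => congrArg Subtype.val h, fun h => Subtype.ext h⟩
    exact ⟨((QuotientGroup.quotientMulEquivOfEq hker).symm.trans
      (QuotientGroup.quotientKerEquivOfSurjective (π.subgroupComap L') hsurj)).trans e⟩

end Cfsg.Agent.Invol.GW
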